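import Mathlib.Data.Nat.Bitwise
import Mathlib.Data.Matrix.Basic
import Mathlib.Data.Matrix.Mul
import Mathlib.Data.ZMod.Basic
import Mathlib.Algebra.BigOperators.Fin
import Mathlib.Tactic

/-!
# Packed square matrices of degree eleven over the field of two elements
-/

set_option autoImplicit false

namespace CfsgLib.Blocks.Order10200960

/-- The first bit of each row. -/
def colMask : ℕ → ℕ
  | 0 => 0
  | n + 1 => 1 + 2048 * colMask n

/-- The matrix of a packed number. -/
def toMat (A : ℕ) : Matrix (Fin 11) (Fin 11) (ZMod 2) :=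
  Matrix.of fun i j => if A.testBit (11 * (i : ℕ) + j) then 1 else 0

/-- All bits. -/
def fullMask : ℕ := 2658455991569831745807614120560689151

/-- One summand of a packed product. -/
def mulTerm (A B k : ℕ) : ℕ :=
  ((A >>> k) &&& 1298708349570020393652962442872833) * ((B >>> (11 * k)) &&& 2047)

/-- The packed product. -/
def mulP (A B : ℕ) : ℕ :=
  mulTerm A B 0 ^^^
    mulTerm A B 1 ^^^
    mulTerm A B 2 ^^^
    mulTerm A B 3 ^^^
    mulTerm A B 4 ^^^
    mulTerm A B 5 ^^^
    mulTerm A B 6 ^^^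
    mulTerm A B 7 ^^^
    mulTerm A B 8 ^^^
    mulTerm A B 9 ^^^
    mulTerm A B 10

/-- Equality of the packed matrices. -/
def eqP (A B : ℕ) : Bool := Nat.beq (A &&& fullMask) (B &&& fullMask)

def oneP : ℕ := 1329552593586084350528447794605199361

/-- The first row of a product. -/
def vecP (r B : ℕ) : ℕ := mulP r B &&& 2047

/-- A matrix from its rows. -/
def rowsP : List ℕ → ℕ
  | [] => 0
  | r :: l => r ^^^ rowsP l <<< 11

/-- The transpose. -/
def trP (A : ℕ) : ℕ := Nat.ofBits fun t : Fin 121 => A.testBit (11 * (t.1 % 11) + t.1 / 11)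

def powP (A : ℕ) : ℕ → ℕ
  | 0 => oneP
  | n + 1 => mulP A (powP A n)

def sqP (X : ℕ) : ℕ := mulP X X
def pow4P (X : ℕ) : ℕ := sqP (sqP X)
def pow8P (X : ℕ) : ℕ := sqP (pow4P X)
def pow16P (X : ℕ) : ℕ := sqP (pow8P X)
def pow5P (X : ℕ) : ℕ := mulP (pow4P X) X
def pow11P (X : ℕ) : ℕ := mulP (pow8P X) (mulP (sqP X) X)
def pow14P (X : ℕ) : ℕ := mulP (pow8P X) (mulP (pow4P X) (sqP X))
def pow23P (X : ℕ) : ℕ := mulP (pow16P X) (mulP (pow4P X) (mulP (sqP X) X))
def pow45P (X : ℕ) : ℕ := mulP (sqP (pow16P X)) (mulP (pow8P X) (pow5P X))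
def pow720P (X : ℕ) : ℕ := pow16P (pow45P X)

/-- The companion matrix with last row `c`. -/
def compP (c : ℕ) : ℕ := rowsP [2, 4, 8, 16, 32, 64, 128, 256, 512, 1024, c]

/-- The matrix doubling the exponents of a companion matrix. -/
def sqrP (c : ℕ) : ℕ := rowsP ((List.range 11).map fun i => vecP 1 (powP (compP c) (2 * i)))

/-- A word in three packed matrices. -/
def evalP (Z H V : ℕ) : List ℕ → ℕ
  | [] => oneP
  | 0 :: w => mulP Z (evalP Z H V w)
  | 1 :: w => mulP H (evalP Z H V w)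
  | _ :: w => mulP V (evalP Z H V w)

end CfsgLib.Blocks.Order10200960
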