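import Cfsg.Agent.Lib.Blocks.Order10200960.Search

/-!
# The checks on degrees and columns, order 10200960
-/

set_option autoImplicit false

namespace CfsgLib.Blocks.Order10200960

/-- The order. -/
def ord : ℕ := 10200960

/-- The sign of a degree congruent to `±1`. -/
def sgn (p d : ℕ) : ℤ := if d % p == 1 then 1 else -1

/-- The divisors of the order. -/
def divs : List ℕ :=
  (List.range 8).flatMap fun a => (List.range 3).flatMap fun b => (List.range 2).flatMap fun c =>
    (List.range 2).flatMap fun d => (List.range 2).flatMap fun e => (List.range 2).map fun f =>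
      2 ^ a * 3 ^ b * 5 ^ c * 7 ^ d * 11 ^ e * 23 ^ f

/-- The possible degrees other than one. -/
def degList : List ℕ :=
  [2, 3, 4, 5, 6, 7, 8, 9, 10, 11, 12, 14, 15, 16, 18, 20, 21, 22, 23, 24, 28, 30, 32, 33, 35,
   36, 40, 42, 44, 45, 46, 48, 55, 56, 60, 63, 64, 66, 69, 70, 72, 77, 80, 84, 88, 90, 92, 96,
   99, 105, 110, 112, 115, 120, 126, 128, 132, 138, 140, 144, 154, 160, 161, 165, 168, 176, 180,
   184, 192, 198, 207, 210, 220, 224, 230, 231, 240, 252, 253, 264, 276, 280, 288, 308, 315,
   320, 322, 330, 336, 345, 352, 360, 368, 384, 385, 396, 414, 420, 440, 448, 460, 462, 480,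
   483, 495, 504, 506, 528, 552, 560, 576, 616, 630, 640, 644, 660, 672, 690, 693, 704, 720,
   736, 759, 770, 792, 805, 828, 840, 880, 896, 920, 924, 960, 966, 990, 1008, 1012, 1035, 1056,
   1104, 1120, 1152, 1155, 1232, 1260, 1265, 1288, 1320, 1344, 1380, 1386, 1408, 1440, 1449,
   1472, 1518, 1540, 1584, 1610, 1656, 1680, 1760, 1771, 1840, 1848, 1920, 1932, 1980, 2016,
   2024, 2070, 2112, 2208, 2240, 2277, 2310, 2415, 2464, 2520, 2530, 2576, 2640, 2688, 2760,
   2772, 2880, 2898, 2944, 3036, 3080, 3168]

/-- The possible degrees, given the principal 23-block. -/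
def deg23 : List ℕ :=
  [11, 12, 22, 23, 24, 35, 45, 46, 69, 70, 80, 92, 115, 126, 138, 160, 161, 184, 207, 230, 231,
   252, 253, 264, 276, 288, 322, 345, 368, 414, 448, 460, 483, 495, 506, 528, 552, 576, 644,
   690, 736, 759, 770, 805, 828, 840, 896, 920, 966, 990, 1012, 1035, 1104, 1265, 1288, 1380,
   1449, 1472, 1518, 1540, 1610, 1656, 1680, 1760, 1771, 1840, 1920, 1932, 2024, 2070, 2208,
   2277, 2415, 2530, 2576, 2760, 2772, 2898, 2944, 3036]

/-- The possible degrees, given the principal blocks for 23 and 11. -/
def degD : List ℕ :=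
  [11, 12, 22, 23, 45, 115, 126, 138, 160, 230, 231, 252, 253, 264, 276, 368, 483, 495, 506,
   528, 644, 736, 759, 770, 896, 990, 1012, 1035, 1265, 1288, 1380, 1518, 1540, 1656, 1760,
   1771, 1920, 2024, 2277, 2415, 2530, 2760, 2772, 2898, 3036]

/-- The possible centralizer orders of involutions. -/
def centList : List ℕ :=
  [2, 4, 6, 8, 10, 12, 14, 16, 18, 20, 22, 24, 28, 30, 32, 36, 40, 42, 44, 46, 48, 56, 60, 64,
   66, 70, 72, 80, 84, 88, 90, 92, 96, 110, 112, 120, 126, 128, 132, 138, 140, 144, 154, 160,
   168, 176, 180, 184, 192, 198, 210, 220, 224, 230, 240, 252, 264, 276, 280, 288, 308, 320,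
   322, 330, 336, 352, 360, 368, 384, 396, 414, 420, 440, 448, 460, 462, 480, 504, 506, 528,
   552, 560, 576, 616, 630, 640, 644, 660, 672, 690, 704, 720, 736, 770, 792, 828, 840, 880,
   896, 920, 924, 960, 966, 990, 1008, 1012, 1056, 1104, 1120, 1152, 1232, 1260, 1288, 1320,
   1344, 1380, 1386, 1408, 1440, 1472, 1518, 1540, 1584, 1610, 1656, 1680, 1760, 1840, 1848,
   1920, 1932, 1980, 2016, 2024, 2070, 2112, 2208, 2240, 2310, 2464, 2520, 2530, 2576, 2640,
   2688, 2760, 2772, 2880, 2898, 2944, 3036, 3080, 3168, 3220, 3312, 3360, 3520, 3542, 3680,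
   3696, 3864, 3960, 4032, 4048, 4140, 4224, 4416, 4480, 4554, 4620, 4830, 4928, 5040, 5060,
   5152, 5280, 5520, 5544, 5760, 5796, 6072, 6160, 6336, 6440, 6624, 6720, 6930, 7040, 7084,
   7360, 7392, 7590, 7728, 7920, 8064, 8096, 8280, 8832, 9108, 9240, 9660, 9856, 10080, 10120,
   10304, 10560, 10626, 11040, 11088, 11592, 12144, 12320, 12672, 12880, 13248, 13440, 13860,
   14168, 14490, 14720, 14784, 15180, 15456, 15840, 16192, 16560, 17710, 18216, 18480, 19320,
   20160, 20240, 20608, 21120, 21252, 22080, 22176, 22770, 23184, 24288, 24640, 25760, 26496,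
   27720, 28336, 28980, 29568, 30360, 30912, 31680, 31878, 32384, 33120, 35420, 36432, 36960,
   38640, 40320, 40480, 42504, 44160, 44352, 45540, 46368, 48576, 49280, 51520, 53130, 55440,
   56672, 57960, 60720, 61824, 63360, 63756, 66240, 70840, 72864, 73920, 77280, 80960, 85008,
   88704, 91080, 92736, 97152, 103040, 106260, 110880, 113344, 115920, 121440, 127512, 132480,
   141680, 145728, 147840, 154560, 159390, 161920, 170016, 182160, 185472, 212520, 221760,
   226688, 231840, 242880, 255024, 283360, 291456, 309120, 318780, 340032, 364320, 425040,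
   443520]

/-- The possible shapes `(e, c)` of the normalizer of a Sylow `p`-subgroup. -/
def candList (p : ℕ) : List (ℕ × ℕ) :=
  ((List.range p).filter fun e => decide (1 < e) && (p - 1) % e == 0).flatMap fun e =>
    (divs.filter fun c => ord / p % (e * c) == 0 && ord / p / (e * c) % p == 1 &&
      ord / p / (e * c) != 1 && c % p != 0).map fun c => (e, c)

/-- The two-part of a number dividing the order. -/
def twoPart (c : ℕ) : ℕ :=
  2 ^ (((List.range 8).filter fun k => c % 2 ^ (k + 1) == 0).length)

/-- The condition on the centralizer of a central two-element of the centralizer of a Sylow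
`p`-subgroup. -/
def sylok (C p e c : ℕ) : Bool :=
  C % (p * twoPart c) == 0 &&
    (List.range (min C (e * p * c) / (p * twoPart c) + 1)).any fun i =>
      0 < i && e * p * c % (i * (p * twoPart c)) == 0 && C % (i * (p * twoPart c)) == 0 &&
        C / (i * (p * twoPart c)) % p == 1

/-- The sum of the squares of the values. -/
def nsq (l : List Cell) : ℕ := (l.map fun t => t.2.natAbs * t.2.natAbs).sum

/-- The sum of the squares of the degrees. -/
def dsq (l : List ℕ) : ℕ := (l.map fun d => d * d).sum

/-- The signed sum of the degrees. -/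
def dsum (p : ℕ) (l : List ℕ) : ℤ := 1 + (l.map fun d => sgn p d * (d : ℤ)).sum

/-- The signed sum of the values. -/
def vsum (p : ℕ) (l : List Cell) : ℤ := 1 + (l.map fun t => sgn p t.1 * t.2).sum

/-- The weighted sum of the squares of the values. -/
def qsum (p : ℕ) (l : List Cell) : ℤ :=
  (ord : ℤ) + (l.map fun t => sgn p t.1 * (t.2 * t.2) * ((ord / t.1 : ℕ) : ℤ)).sum

/-- The sign of an integer. -/
def eps (S : ℤ) : ℤ := if 0 ≤ S then 1 else -1

/-- Binary digits of the square root. -/
def isqGo (C : ℕ) : ℕ → ℕ → ℕ
  | 0, r => r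
  | k + 1, r => isqGo C k (if (r + 2 ^ k) * (r + 2 ^ k) ≤ C then r + 2 ^ k else r)

/-- The conditions on a nontrivial value at an involution with centralizer order `C`. -/
def okv (C d : ℕ) (w : ℤ) : Bool :=
  ((d : ℤ) - w) % 4 == 0 && decide (w.natAbs < d) && decide (w.natAbs * w.natAbs < C) &&
    ((ord / C : ℕ) : ℤ) * w % (d : ℤ) == 0

/-- The integers congruent to `d` modulo four of absolute value at most `m`. -/
def window (d m : ℕ) : List ℤ :=
  ((List.range (m / 2 + 2)).map fun a : ℕ => (d : ℤ) - 4 * (((d + m) / 4 : ℕ) : ℤ) + 4 * (a : ℤ))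
    |>.filter fun w => decide (w.natAbs ≤ m)

/-- The values at an involution for a degree. -/
def valsAt (C d : ℕ) : List ℤ := (window d (min (d - 1) (isqGo C 10 0))).filter (okv C d)

/-- The integers of absolute value at most `m` in the class of `r` modulo `k`. -/
def progression (k r m : ℕ) : List ℤ :=
  ((List.range (2 * m / k + 2)).map fun a : ℕ =>
      (r : ℤ) - (k : ℤ) * (((r + m) / k : ℕ) : ℤ) + (k : ℤ) * (a : ℤ))
    |>.filter fun w => decide (w.natAbs ≤ m)

/-- The class modulo `4 p` of the values congruent to `d` and to the sign. -/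
def classOf (p d : ℕ) : ℕ :=
  ((List.range (4 * p)).find? fun r =>
    r % 4 == d % 4 && r % p == (if d % p == 1 then 1 else p - 1)).getD 0

/-- The values for a non-exceptional member at a central element of the complement. -/
def valsC (p C d : ℕ) : List ℤ :=
  (progression (4 * p) (classOf p d) (min (d - 1) (isqGo C 10 0))).filter (okv C d)

/-- The least square in a list. -/
def minSq : List ℤ → ℕ
  | [] => 0
  | [v] => v.natAbs * v.natAbs
  | v :: u :: l => min (v.natAbs * v.natAbs) (minSq (u :: l))

/-- The conditions on a degree congruent to `±1` in the block. -/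
def okd (p c d : ℕ) : Bool :=
  (d % p == 1 || d % p == p - 1) && ord / (p * c) % d == 0 && (c == 1 || decide (p ≤ d))

/-- The test on the degree of the exceptional members. -/
def degOk (p e c : ℕ) (pool l : List ℕ) : Bool :=
  let S := dsum p l
  let y := S.natAbs
  decide (1 < y) && ord % y == 0 && ((y : ℤ) - eps S * (e : ℤ)) % (p : ℤ) == 0 &&
    decide (1 + dsq l + (p - 1) / e * (y * y) ≤ ord) &&
    ((p - 1) / e != 1 || (ord / (p * c) % y == 0 && (c == 1 || decide (p ≤ y)))) &&
    pool.contains y

/-- The degrees of the non-exceptional members. -/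
def degSols (p e c : ℕ) (px pool : List ℕ) : List (List Run) :=
  (combos (fun _ => 0) (px.filter (okd p c)) (e - 1) (ord - 1) 0).filter fun L =>
    degOk p e c pool (flat L)

/-- The pairs equation, `j` being a square root. -/
def pairsOk (p e c C : ℕ) (Q : ℤ) : Bool :=
  let v := (c : ℤ) * ((ord / C : ℕ) : ℤ) * ((ord / C : ℕ) : ℤ) * Q
  let q := (v / ((p : ℤ) * (ord : ℤ) * (ord : ℤ))).natAbs
  v == (p : ℤ) * (ord : ℤ) * (ord : ℤ) * (q : ℤ) &&
    ((e % 2 == 0 && isqGo q 15 0 * isqGo q 15 0 == q) || q == 0)

/-- The test on the value of the exceptional members. -/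
def colOk (p e c C : ℕ) (y : ℕ) (ε : ℤ) (R : List Cell) : Bool :=
  let w := ε * vsum p R
  okv C y w && decide (1 + nsq R + (p - 1) / e * (w.natAbs * w.natAbs) ≤ C) &&
    ((p - 1) / e != 1 || (w + ε) % (p : ℤ) == 0) &&
    pairsOk p e c C (qsum p R - ε * (w * w) * ((ord / y : ℕ) : ℤ))

/-- The columns on given degrees at a central involution of the complement: the non-exceptional
cells and the exceptional cell. -/
def colsOf (p e c C : ℕ) (L : List Run) : List (List Cell × Cell) :=
  let S := dsum p (flat L)
  ((vals (valsC p C) L (C - 1)).filter (colOk p e c C S.natAbs (eps S))).map fun R =>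
    (R, (S.natAbs, eps S * vsum p R))

/-- The possible centralizer orders at a central involution of the complement. -/
def sylCents (p e c : ℕ) (bad : ℕ → Bool) : List ℕ :=
  centList.filter fun C => !bad C && sylok C p e c

/-- No degrees, or no values for them at a central involution of the complement. -/
def noneChk (p e c : ℕ) (pool : List ℕ) (bad : ℕ → Bool) : Bool :=
  (degSols p e c pool pool).all fun L =>
    c % 2 == 0 && (sylCents p e c bad).all fun C => (colsOf p e c C L).isEmpty

/-- The search by values first, for many members. -/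
def noneFirst (p e c : ℕ) (pool : List ℕ) : Bool :=
  c % 2 == 0 && (sylCents p e c fun _ => false).all fun C =>
    ((combos (fun d => minSq (valsC p C d))
      ((pool.filter (okd p c)).filter fun d => !(valsC p C d).isEmpty) (e - 1) (ord - 1) (C - 1)).filter
        fun L => degOk p e c pool (flat L)).all fun L => (colsOf p e c C L).isEmpty

/-- The check for 23. -/
def chk23 (ec : ℕ × ℕ) : Bool :=
  (ec.1 == 11 && ec.2 == 1) ||
    if ec.1 == 22 && ec.2 == 12 then noneFirst 23 22 12 degList
    else noneChk 23 ec.1 ec.2 degList fun _ => false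

/-- The degrees prime to eleven allowed by the principal 23-block. -/
def prime11 : List ℕ :=
  [12, 23, 24, 35, 45, 46, 69, 70, 80, 92, 115, 126, 138, 160, 161, 184, 207, 230, 252, 276,
   288, 322, 345, 368, 414, 448, 460, 483, 552, 576, 644, 690, 736, 805, 828, 840, 896, 920,
   966, 1035, 1104, 1288, 1380, 1449, 1472, 1610, 1656, 1680, 1840, 1920, 1932, 2070, 2208,
   2415, 2576, 2760, 2898, 2944]

/-- The check for seven that gives such a member. -/
def chkMember (ec : ℕ × ℕ) : Bool :=
  ec.2 % 23 == 0 || (degSols 7 ec.1 ec.2 prime11 deg23).all fun L =>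
    (ec.1 == 6 && (dsum 7 (flat L)).natAbs % 11 == 0) ||
    (ec.2 % 2 == 0 && (sylCents 7 ec.1 ec.2 fun C => C % 23 == 0).all fun C =>
      (colsOf 7 ec.1 ec.2 C L).isEmpty)

/-- The check for eleven. -/
def chk11 (ec : ℕ × ℕ) : Bool :=
  ec.2 % 7 == 0 || ec.2 % 23 == 0 || (ec.1 == 5 && ec.2 == 1) ||
    noneChk 11 ec.1 ec.2 deg23 fun C => C % 23 == 0

/-- The non-exceptional cells and the exceptional cell of the final principal 7-block. -/
def sevenCells : List Cell × Cell := ([(1035, 27), (2024, 8)], (990, -18))

/-- The check for seven. -/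
def chk7 (ec : ℕ × ℕ) : Bool :=
  ec.2 % 11 == 0 || ec.2 % 23 == 0 ||
  (ec.1 == 2 && (degSols 7 2 ec.2 degD degD).all fun L => L == [(22, 1)]) ||
  (ec.1 == 3 && (ec.2 == 2 || ec.2 == 16) && (degSols 7 3 ec.2 degD degD).all fun L =>
    (sylCents 7 3 ec.2 fun C => C % 23 == 0 || C % 11 == 0).all fun C =>
      (colsOf 7 3 ec.2 C L).all fun r => (C == 2688 || C == 4032) && r == sevenCells) ||
  (ec.1 == 6 && (ec.2 == 1 || ec.2 == 8 || ec.2 == 15)) ||
  noneChk 7 ec.1 ec.2 degD fun C => C % 23 == 0 || C % 11 == 0

/-- The members of degree congruent to `±1` modulo eleven. -/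
def pmEl (l : List ℕ) : List ℕ := l.filter fun d => d % 11 == 1 || d % 11 == 10

/-- The members of degree congruent to `±5` modulo eleven. -/
def yEl (l : List ℕ) : List ℕ := l.filter fun d => d % 11 == 5 || d % 11 == 6

/-- The possible completions of given members to the principal 11-block. -/
def join11 (fixed pool : List ℕ) : List (List Run) :=
  if decide ((pmEl fixed).length ≤ 4) && decide ((yEl fixed).length ≤ 2) then
    (combos (fun _ => 0) pool (4 - (pmEl fixed).length) (ord - 1 - dsq fixed) 0).filter fun B =>
      let S := dsum 11 (pmEl fixed ++ flat B)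
      let Y := S.natAbs
      ((Y : ℤ) - eps S * 5) % (11 : ℤ) == 0 && (yEl fixed).all (fun d => d == Y) &&
        decide (1 + dsq fixed + dsq (flat B) + (2 - (yEl fixed).length) * (Y * Y) ≤ ord) &&
        degD.contains Y
  else []

/-- The possible non-exceptional degrees in the principal 11-block. -/
def pool11 : List ℕ :=
  [12, 23, 45, 230, 252, 276, 483, 736, 1035, 1288, 2760]

/-- The test on a column of the principal 11-block: `a` lists the non-exceptional cells, `ys` the
known exceptional ones, `used` the squares spent elsewhere. -/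
def fit11 (C : ℕ) (a ys : List Cell) (used : ℕ) : Bool :=
  let S := dsum 11 (a.map Prod.fst)
  let w := eps S * vsum 11 a
  okv C S.natAbs w && ys.all (fun t => t.2 == w) &&
    decide (used + (2 - ys.length) * (w.natAbs * w.natAbs) ≤ C) &&
    qsum 11 a - eps S * (w * w) * ((ord / S.natAbs : ℕ) : ℤ) == 0

/-- The values of small absolute value. -/
def valsFree (d : ℕ) : List ℤ := window d (d - 1)

/-- A block with two classes for seven contradicts the principal 11-block. -/
def killTwo : Bool :=
  (join11 [22, 23, 23, 23] pool11).all fun B =>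
    (valsFree 23).all fun u => match flat B with
      | [d] => (valsFree d).all fun x =>
          let a : List Cell := [(23, u), (23, u), (23, u), (d, x)]
          let S := dsum 11 [23, 23, 23, d]
          let w := eps S * vsum 11 a
          qsum 11 a - eps S * (w * w) * ((ord / S.natAbs : ℕ) : ℤ) != 0 ||
            decide (S.natAbs ≤ w.natAbs)
      | _ => false

/-- Six classes for seven with complement of order eight contradict the principal 11-block. -/
def killEight : Bool :=
  (degSols 7 6 8 degD degD).all fun L =>
    (sylCents 7 6 8 fun C => C % 23 == 0 || C % 11 == 0).all fun C => (colsOf 7 6 8 C L).all fun r =>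
    let T := r.2 :: r.1
    let a := T.filter fun t => t.1 % 11 == 1 || t.1 % 11 == 10
    let ys := T.filter fun t => t.1 % 11 == 5 || t.1 % 11 == 6
    (join11 (T.map Prod.fst) pool11).all fun B =>
      (vals (valsAt C) B (C - (1 + nsq T))).all fun W =>
        !fit11 C (a ++ W) ys (1 + nsq T + nsq W)

/-- Six classes for seven with complement of order fifteen give a single member of degree 22. -/
def killFifteen : Bool :=
  (degSols 7 6 15 degD degD).all fun L => ((dsum 7 (flat L)).natAbs :: flat L).count 22 == 1

/-- The possible centralizer orders of a central involution. -/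
def centralList : List ℕ := [128, 384, 640, 1152, 1920, 5760]

/-- A self-centralizing Sylow 7-subgroup with six classes contradicts the principal 11-block. -/
def killOne (C : ℕ) : Bool :=
  (degSols 7 6 1 degD degD).all fun L =>
    let S7 := dsum 7 (flat L)
    let T := S7.natAbs :: flat L
    ((join11 T (pool11.filter fun d => d % 7 == 0)).filter fun B =>
      (dsum 11 (pmEl T ++ flat B)).natAbs % 7 == 0 || (yEl T).length == 2).all fun B =>
        (pmEl T).isEmpty &&
        let S := dsum 11 (flat B)
        (vals (valsAt C) B (C - 1)).all fun W =>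
          let w := eps S * vsum 11 W
          !fit11 C W [] (1 + nsq W) ||
          (let used := 1 + nsq W + (if S.natAbs % 7 == 0 then 2 * (w.natAbs * w.natAbs) else 0)
           (vals (fun d => if d == S.natAbs then [w] else valsAt C d) L (C - used)).all fun V =>
            let wy := eps S7 * vsum 7 V
            (S7.natAbs == S.natAbs && wy != w) ||
            decide (C < used + nsq V + wy.natAbs * wy.natAbs) ||
            !pairsOk 7 6 1 C (qsum 7 V - eps S7 * (wy * wy) * ((ord / S7.natAbs : ℕ) : ℤ)))

/-- The budget for the squares of the degrees besides the principal 7-block. -/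
def budE : ℕ := ord - (1 + 1035 * 1035 + 2024 * 2024 + 2 * (990 * 990))

/-- The possible further non-exceptional degrees in the principal 23-block. -/
def pool23 : List ℕ :=
  [22, 45, 160, 231, 252, 528, 896, 990, 1540]

/-- The named degrees of a candidate for all degrees. -/
def namesE (t B : List Run) : List ℕ :=
  let y := (dsum 23 (990 :: 990 :: flat t)).natAbs
  let F := 1035 :: 2024 :: 990 :: 990 :: (flat t ++ [y, y])
  let Y := (dsum 11 (pmEl F ++ flat B)).natAbs
  F ++ flat B ++ List.replicate (2 - (yEl F).length) Y

/-- The candidates for the degrees outside the multiples of 253. -/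
def candE : List (List Run × List Run) :=
  ((combos (fun _ => 0) pool23 8 budE 0).filter fun t =>
      let S := dsum 23 (990 :: 990 :: flat t)
      ((S.natAbs : ℤ) - eps S * 11) % (23 : ℤ) == 0 &&
        decide (dsq (flat t) + 2 * (S.natAbs * S.natAbs) ≤ budE) && degD.contains S.natAbs).flatMap
    fun t =>
      let y := (dsum 23 (990 :: 990 :: flat t)).natAbs
      let F := 1035 :: 2024 :: 990 :: 990 :: (flat t ++ [y, y])
      if decide ((yEl F).length = 0 ∨ (yEl F).length = 2) then
        ((join11 F (pool11.filter fun d => d % 23 == 0)).filter fun B =>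
          ((yEl F).length == 2 || (dsum 11 (pmEl F ++ flat B)).natAbs % 23 == 0) &&
            (ord - (1 + dsq (namesE t B))) % 64009 == 0).map fun B => (t, B)
      else []

/-- The values for a degree occurring fewer than seven times. -/
def valsE (C : ℕ) (names : List ℕ) (d : ℕ) : List ℤ :=
  (valsAt C d).filter fun w => d % 7 == 0 || decide (7 ≤ names.count d) ||
    (w - (d : ℤ)) % 7 == 0 || (w + (d : ℤ)) % 7 == 0

/-- The nontrivial cells outside the multiples of 253. -/
def tableCells : List Cell :=
  [(22, 6), (45, -3), (45, -3), (230, 22), (231, 7), (231, 7), (231, 7), (770, -14), (770, -14),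
    (896, 0), (896, 0), (990, -18), (990, -18), (1035, 27), (2024, 8)]

/-- The cells outside the multiples of 253 from the values of a candidate. -/
def checkE (C : ℕ) (tB : List Run × List Run) : Bool :=
  let names := namesE tB.1 tB.2
  let S := dsum 23 (990 :: 990 :: flat tB.1)
  (vals (valsE C names) tB.1 (C - 1442)).all fun T =>
    let w := eps S * vsum 23 ((990, -18) :: (990, -18) :: T)
    let F : List Cell := (1035, 27) :: (2024, 8) :: (990, -18) :: (990, -18) ::
      (T ++ [(S.natAbs, w), (S.natAbs, w)])
    !(okv C S.natAbs w && decide (1442 + nsq T + 2 * (w.natAbs * w.natAbs) ≤ C) &&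
      qsum 23 ((990, -18) :: (990, -18) :: T) - eps S * (w * w) * ((ord / S.natAbs : ℕ) : ℤ) == 0) ||
    (let a := F.filter fun t => t.1 % 11 == 1 || t.1 % 11 == 10
     let ys := F.filter fun t => t.1 % 11 == 5 || t.1 % 11 == 6
     let used := 1442 + nsq T + 2 * (w.natAbs * w.natAbs)
     (vals (valsE C names) tB.2 (C - used)).all fun W =>
       !fit11 C (a ++ W) ys (used + nsq W) ||
        (C == 2688 &&
          let S1 := dsum 11 ((a ++ W).map Prod.fst)
          (F ++ W ++ List.replicate (2 - ys.length) (S1.natAbs, eps S1 * vsum 11 (a ++ W))).isPerm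
            tableCells))

end CfsgLib.Blocks.Order10200960
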