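import Cfsg.Agent.Lib.Blocks.Order10200960.Values

/-!
# The columns of the principal blocks are found by the searches
-/

set_option autoImplicit false

namespace CfsgLib.Blocks.Order10200960

open Cfsg CfsgLib CfsgLib.Char CfsgLib.CharIntegral CfsgLib.Blocks.PrimeSylow
open CfsgLib.Blocks.Order95040 (deg cent deg_cast deg_trivChar deg_eq_finrank)
open CfsgLib.Blocks.Order443520 (one_lt_deg dvd_index_mul deg_dvd_card pairs_equation)
open scoped Classical ComplexConjugate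

theorem sgn_eq {p d : ℕ} (hp : 3 ≤ p) {ε : ℤ} (hε : ε = 1 ∨ ε = -1)
    (hm : (d : ℤ) ≡ ε [ZMOD p]) :
    ε = sgn p d ∧ (d % p = 1 ∨ d % p = p - 1) := by
  unfold Int.ModEq at hm
  rw [← Int.natCast_mod] at hm
  rcases hε with rfl | rfl
  · rw [Int.emod_eq_of_lt (a := (1 : ℤ)) (by omega) (by omega)] at hm
    have : d % p = 1 := by exact_mod_cast hm
    simp [sgn, this]
  · have e : ((-1 : ℤ) % (p : ℤ)) = (p : ℤ) - 1 := by
      rw [← Int.add_emod_right (-1 : ℤ), Int.emod_eq_of_lt (by omega) (by omega)]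
      ring
    rw [e] at hm
    have h1 : d % p = p - 1 := by omega
    have h2 : d % p ≠ 1 := by omega
    exact ⟨by simp [sgn, h2], Or.inr h1⟩

theorem eps_of_mul {ε : ℤ} {y : ℕ} (hε : ε = 1 ∨ ε = -1) (hy : 0 < y) :
    eps (ε * (y : ℤ)) = ε ∧ (ε * (y : ℤ)).natAbs = y := by
  rcases hε with rfl | rfl <;> simp [eps] <;> omega

variable {G : Type*} [Group G] [Fintype G]

section Sums

variable {s : G} {T : Finset (IrrCharacter G)}

theorem dsq_eq {l : List ℕ} (hl : (l : Multiset ℕ) = T.val.map deg) :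
    dsq l = ∑ χ ∈ T, deg χ * deg χ := by
  rw [dsq, ← Multiset.sum_coe, ← Multiset.map_coe, hl, Multiset.map_map]
  rfl

theorem nsq_eq {b : List Cell} (hb : (b : Multiset Cell) = T.val.map (cell s)) :
    nsq b = ∑ χ ∈ T, (ival s χ).natAbs * (ival s χ).natAbs := by
  rw [nsq, ← Multiset.sum_coe, ← Multiset.map_coe, hb, Multiset.map_map]
  rfl

theorem dsum_eq (p : ℕ) {l : List ℕ} (hl : (l : Multiset ℕ) = T.val.map deg) :
    dsum p l = 1 + ∑ χ ∈ T, sgn p (deg χ) * (deg χ : ℤ) := by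
  rw [dsum, ← Multiset.sum_coe, ← Multiset.map_coe, hl, Multiset.map_map]
  rfl

theorem vsum_eq (p : ℕ) {b : List Cell} (hb : (b : Multiset Cell) = T.val.map (cell s)) :
    vsum p b = 1 + ∑ χ ∈ T, sgn p (deg χ) * ival s χ := by
  rw [vsum, ← Multiset.sum_coe, ← Multiset.map_coe, hb, Multiset.map_map]
  rfl

theorem qsum_eq (p : ℕ) {b : List Cell} (hb : (b : Multiset Cell) = T.val.map (cell s)) :
    qsum p b = (ord : ℤ) +
      ∑ χ ∈ T, sgn p (deg χ) * (ival s χ * ival s χ) * ((ord / deg χ : ℕ) : ℤ) := by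
  rw [qsum, ← Multiset.sum_coe, ← Multiset.map_coe, hb, Multiset.map_map]
  rfl

theorem map_fst {b : List Cell} (hb : (b : Multiset Cell) = T.val.map (cell s)) :
    ((b.map Prod.fst : List ℕ) : Multiset ℕ) = T.val.map deg := by
  rw [← Multiset.map_coe, hb, Multiset.map_map]
  rfl

theorem ival_triv (s : G) : ival s (trivChar G) = 1 :=
  ival_eq (by rw [trivChar_apply, Int.cast_one])

end Sums

namespace Local

variable {p : ℕ}

/-- The non-exceptional members other than the trivial one. -/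
noncomputable def xs (L : Local G p) : Finset (IrrCharacter G) := L.data.X.erase (trivChar G)

/-- The nontrivial members. -/
noncomputable def nt (L : Local G p) : Finset (IrrCharacter G) :=
  (L.data.X ∪ L.data.Y).erase (trivChar G)

theorem triv_notMem_Y (L : Local G p) : trivChar G ∉ L.data.Y := fun h =>
  Finset.disjoint_left.1 L.data.disj L.triv h

theorem ne_triv_of_mem_nt (L : Local G p) {χ : IrrCharacter G} (h : χ ∈ L.nt) : χ ≠ trivChar G :=
  Finset.ne_of_mem_erase h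

theorem nt_eq (L : Local G p) : L.nt = L.xs ∪ L.data.Y := by
  rw [nt, xs, Finset.erase_union_distrib, Finset.erase_eq_of_notMem L.triv_notMem_Y]

theorem disjoint_xs (L : Local G p) : Disjoint L.xs L.data.Y :=
  Finset.disjoint_of_subset_left (Finset.erase_subset _ _) L.data.disj

theorem nt_val (L : Local G p) : L.nt.val = L.xs.val + L.data.Y.val := by
  rw [L.nt_eq, ← Finset.disjUnion_eq_union _ _ L.disjoint_xs, Finset.disjUnion_val]

theorem card_xs (L : Local G p) : L.xs.card = L.e - 1 := by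
  rw [xs, Finset.card_erase_of_mem L.triv, L.data.cardX]

theorem cardY_eq (L : Local G p) (hp : 3 ≤ p) : L.data.Y.card = (p - 1) / L.e := by
  have h := L.data.cardY
  have h0 : 0 < L.e := Nat.pos_of_dvd_of_pos L.data.dvd_e (by omega)
  rw [← h, Nat.mul_div_cancel _ h0]

theorem exists_theta (L : Local G p) : ∃ θ, θ ∈ L.data.Y := by
  show L.data.Y.Nonempty
  rw [← Finset.card_pos]
  have h := L.data.cardY
  have := L.setup.prime.two_le
  by_contra h0
  rw [Nat.eq_zero_of_not_pos h0, zero_mul] at h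
  omega

theorem εX_triv (L : Local G p) (hp : 3 ≤ p) : L.data.εX (trivChar G) = 1 := by
  have h := sgn_eq (d := deg (trivChar G)) hp (L.data.sgnX _ L.triv) (L.data.modX _ L.triv)
  rw [deg_trivChar] at h
  rw [h.1]
  simp [sgn, Nat.mod_eq_of_lt (show 1 < p by omega)]

theorem εX_eq (L : Local G p) (hp : 3 ≤ p) {χ : IrrCharacter G} (hχ : χ ∈ L.data.X) :
    L.data.εX χ = sgn p (deg χ) ∧ (deg χ % p = 1 ∨ deg χ % p = p - 1) :=
  sgn_eq hp (L.data.sgnX χ hχ) (L.data.modX χ hχ)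

theorem mem_nt_iff (L : Local G p) (hV : Nat.card L.V = 1) {χ : IrrCharacter G} :
    χ ∈ L.nt ↔ χ ≠ trivChar G ∧ ¬ p ∣ deg χ := by
  rw [nt, Finset.mem_erase, L.data.all hV]

theorem residue (L : Local G p) (hp : 3 ≤ p) {χ : IrrCharacter G} (hχ : χ ∈ L.nt) :
    (χ ∈ L.xs ∧ (deg χ % p = 1 ∨ deg χ % p = p - 1)) ∨
      (χ ∈ L.data.Y ∧ (deg χ % p = L.e % p ∨ (deg χ + L.e) % p = 0)) := by
  rw [L.nt_eq, Finset.mem_union] at hχ
  rcases hχ with h | h
  · exact Or.inl ⟨h, (L.εX_eq hp (Finset.mem_of_mem_erase h)).2⟩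
  · refine Or.inr ⟨h, ?_⟩
    have h1 := L.data.modY χ h
    rcases L.data.sgnY with e | e <;> rw [e] at h1
    · rw [one_mul] at h1
      exact Or.inl ((Int.natCast_modEq_iff.1 h1))
    · refine Or.inr ?_
      have h2 := h1.add_right (L.e : ℤ)
      rw [neg_one_mul, neg_add_cancel] at h2
      exact Nat.mod_eq_zero_of_dvd (by exact_mod_cast Int.modEq_zero_iff_dvd.1 h2)

theorem deg_Y (L : Local G p) [Fact p.Prime] {θ θ' : IrrCharacter G} (hθ : θ ∈ L.data.Y)
    (hθ' : θ' ∈ L.data.Y) : deg θ' = deg θ := by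
  have h := L.data.sameY θ' hθ' θ hθ 1
    (by rw [orderOf_one]; exact (Fact.out : p.Prime).not_dvd_one)
  rw [deg_cast, deg_cast] at h
  exact_mod_cast h

theorem deg_sum (L : Local G p) [Fact p.Prime] (hp : 3 ≤ p) {θ : IrrCharacter G}
    (hθ : θ ∈ L.data.Y) :
    L.data.ε * (deg θ : ℤ) = 1 + ∑ χ ∈ L.xs, sgn p (deg χ) * (deg χ : ℤ) := by
  rw [L.data.deg_rel hθ, ← Finset.add_sum_erase _ _ L.triv, L.εX_triv hp, deg_trivChar]
  refine congrArg₂ (· + ·) (by norm_num) (Finset.sum_congr rfl fun χ hχ => ?_)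
  rw [(L.εX_eq hp (Finset.mem_of_mem_erase hχ)).1]

theorem dsum_xs (L : Local G p) [Fact p.Prime] (hp : 3 ≤ p) {θ : IrrCharacter G}
    (hθ : θ ∈ L.data.Y) {l : List ℕ} (hl : (l : Multiset ℕ) = L.xs.val.map deg) :
    dsum p l = L.data.ε * (deg θ : ℤ) ∧ eps (dsum p l) = L.data.ε ∧
      (dsum p l).natAbs = deg θ := by
  have h1 : dsum p l = L.data.ε * (deg θ : ℤ) := by rw [dsum_eq p hl, L.deg_sum hp hθ]
  have hpos : 0 < deg θ := charDegree_pos θ
  obtain ⟨e1, e2⟩ := eps_of_mul L.data.sgnY hpos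
  rw [h1]
  exact ⟨rfl, e1, e2⟩

variable [IsSimpleGroup G] (hG : Nat.card G = ord)
include hG

theorem sum_sq_le {s : G} (hs : orderOf s = 2) {S : Finset (IrrCharacter G)}
    (hS : trivChar G ∉ S) :
    1 + ∑ χ ∈ S, (ival s χ).natAbs * (ival s χ).natAbs ≤ cent s := by
  have h1 := Order95040.sum_sq_le_cent (g := s) (insert (trivChar G) S) (ival s)
    fun χ _ => (ival_spec hG hs χ).1
  rw [Finset.sum_insert hS, ival_triv] at h1
  simpa using h1

omit [IsSimpleGroup G] in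
theorem sum_deg_le {S : Finset (IrrCharacter G)} (hS : trivChar G ∉ S) :
    1 + ∑ χ ∈ S, deg χ * deg χ ≤ ord := by
  have h2 := Order95040.sum_sq_deg_le (insert (trivChar G) S)
  rw [Finset.sum_insert hS, deg_trivChar, hG] at h2
  simpa using h2

theorem okv_cell {s : G} (hs : orderOf s = 2) {χ : IrrCharacter G} (hne : χ ≠ trivChar G) :
    okv (cent s) (deg χ) (ival s χ) = true := by
  obtain ⟨hv, h4, hlt⟩ := ival_spec hG hs χ
  have hsq := sum_sq_le hG hs (S := {χ}) (by simpa using hne.symm)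
  rw [Finset.sum_singleton] at hsq
  simp only [okv, Bool.and_eq_true, beq_iff_eq, decide_eq_true_eq]
  refine ⟨⟨⟨h4, hlt hne⟩, by omega⟩, Int.emod_eq_zero_of_dvd ?_⟩
  have := dvd_index_mul χ hv
  rwa [hG] at this

theorem deg_mem {χ : IrrCharacter G} (hne : χ ≠ trivChar G) : deg χ ∈ degList := by
  have h := sum_deg_le hG (S := {χ}) (by simpa using hne.symm)
  rw [Finset.sum_singleton] at h
  exact mem_degList (one_lt_deg (perfect hG) hne) (hG ▸ deg_dvd_card χ) (by omega)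

theorem sameY_val [Fact p.Prime] (hp : p = 7 ∨ p = 11 ∨ p = 23) (L : Local G p) {s : G}
    (hs : orderOf s = 2) {θ θ' : IrrCharacter G} (hθ : θ ∈ L.data.Y) (hθ' : θ' ∈ L.data.Y) :
    cell s θ' = cell s θ := by
  have hsp : ¬ p ∣ orderOf s := by rw [hs]; rcases hp with rfl | rfl | rfl <;> norm_num
  have e1 := L.data.sameY θ' hθ' θ hθ s hsp
  rw [(ival_spec hG hs θ').1, (ival_spec hG hs θ).1] at e1
  exact Prod.ext (L.deg_Y hθ hθ') (by exact_mod_cast e1)

/-- The degrees of the non-exceptional members are listed. -/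
theorem exists_degs [Fact p.Prime] (hp : p = 7 ∨ p = 11 ∨ p = 23) (L : Local G p)
    {px pool : List ℕ} (hnd : px.Nodup) (hx : ∀ χ ∈ L.xs, deg χ ∈ px)
    (hy : ∀ θ ∈ L.data.Y, deg θ ∈ pool) :
    ∃ R ∈ degSols p L.e (Nat.card L.V) px pool, (flat R : Multiset ℕ) = L.xs.val.map deg ∧
      (R.map Prod.fst).Nodup := by
  have hp3 : 3 ≤ p := by rcases hp with rfl | rfl | rfl <;> norm_num
  obtain ⟨θ, hθ⟩ := L.exists_theta
  have hθne : θ ≠ trivChar G := fun e => L.triv_notMem_Y (e ▸ hθ)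
  have htriv : trivChar G ∉ L.nt := fun h => L.ne_triv_of_mem_nt h rfl
  have hbud := sum_deg_le hG htriv
  rw [Finset.sum, L.nt_val, Multiset.map_add, Multiset.sum_add] at hbud
  have hYsum : (L.data.Y.val.map fun χ => deg χ * deg χ).sum =
      (p - 1) / L.e * (deg θ * deg θ) := by
    rw [← L.cardY_eq hp3, ← smul_eq_mul, ← Finset.sum_const]
    exact Finset.sum_congr rfl fun θ' hθ' => by rw [L.deg_Y hθ hθ']
  rw [hYsum] at hbud
  obtain ⟨R, hR, hRm⟩ := combos_sound (mn := fun _ => 0)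
    (hnd.filter (okd p (Nat.card L.V))) (k := L.e - 1) (B := ord - 1) (B' := 0)
    (L.xs.val.map deg) (fun d hd => by
      obtain ⟨χ, hχ, rfl⟩ := Multiset.mem_map.1 hd
      obtain ⟨hne, hX⟩ := Finset.mem_erase.1 hχ
      obtain ⟨-, hres⟩ := L.εX_eq hp3 hX
      obtain ⟨h1, h2, -⟩ := L.of_const hG hp hne (L.data.sgnX χ hX) (L.data.valX χ hX)
      refine List.mem_filter.2 ⟨hx χ hχ, ?_⟩
      simp only [okd, Bool.and_eq_true, Bool.or_eq_true, beq_iff_eq, decide_eq_true_eq]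
      exact ⟨⟨hres, h1⟩, h2⟩)
    (by rw [Multiset.card_map, ← Finset.card_def, L.card_xs])
    (by rw [Multiset.map_map]; simp only [Function.comp_def]; omega)
    (by simp)
  refine ⟨R, List.mem_filter.2 ⟨hR, ?_⟩, hRm, (combos_runs (hnd.filter _) hR).1⟩
  obtain ⟨hS, hε, hy'⟩ := L.dsum_xs hp3 hθ hRm
  have h1y := one_lt_deg (perfect hG) hθne
  simp only [degOk, hy', hε, Bool.and_eq_true, decide_eq_true_eq, beq_iff_eq, Bool.or_eq_true,
    bne_iff_ne, ne_eq, List.contains_iff_mem]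
  refine ⟨⟨⟨⟨⟨h1y, Nat.mod_eq_zero_of_dvd (hG ▸ deg_dvd_card θ)⟩,
    Int.emod_eq_zero_of_dvd (Int.modEq_iff_dvd.1 (L.data.modY θ hθ).symm)⟩, ?_⟩, ?_⟩, hy θ hθ⟩
  · rw [dsq_eq hRm]
    exact le_trans (le_of_eq (by rw [add_assoc]; rfl)) hbud
  · by_cases h1 : (p - 1) / L.e = 1
    · have hY1 : L.data.Y.card = 1 := (L.cardY_eq hp3).trans h1
      obtain ⟨a1, a2, -⟩ := L.of_const hG hp hθne
        (c := -L.data.ε) (by rcases L.data.sgnY with h | h <;> simp [h])
        (fun x hx hx1 v hv => by rw [L.data.valY hY1 θ hθ x hx hx1 v hv, Int.cast_neg])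
      exact Or.inr ⟨a1, a2⟩
    · exact Or.inl h1

/-- The bracket of the pairs equation. -/
theorem pairs_int [Fintype (IrrCharacter G)] [Fact p.Prime] (hp : p = 7 ∨ p = 11 ∨ p = 23)
    (L : Local G p) {s : G} (hs : orderOf s = 2) {θ : IrrCharacter G} (hθ : θ ∈ L.data.Y) :
    ∃ j : ℕ, j ≤ Nat.card L.V ∧ (Odd L.e → j = 0) ∧
      (Nat.card L.V : ℤ) * ((ord / cent s : ℕ) : ℤ) * ((ord / cent s : ℕ) : ℤ) *
        ((ord : ℤ) +
            ∑ χ ∈ L.xs, sgn p (deg χ) * (ival s χ * ival s χ) * ((ord / deg χ : ℕ) : ℤ) -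
          L.data.ε * (ival s θ * ival s θ) * ((ord / deg θ : ℕ) : ℤ)) =
      (p : ℤ) * (j : ℤ) * (j : ℤ) * (ord : ℤ) * (ord : ℤ) := by
  have hp3 : 3 ≤ p := by rcases hp with rfl | rfl | rfl <;> norm_num
  obtain ⟨j, hj, hj0, he⟩ := pairs_equation L.setup hp3 L.data L.card_normalizer hs hθ
  refine ⟨j, hj, hj0, ?_⟩
  rw [hG, index_eq hG] at he
  have key : ∀ χ : IrrCharacter G, ((ord / deg χ : ℕ) : ℂ) = (ord : ℂ) / (χ : G → ℂ) 1 :=
    fun χ => by
      rw [deg_cast, Nat.cast_div (hG ▸ deg_dvd_card χ)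
        (Nat.cast_ne_zero.2 (charDegree_pos χ).ne')]
  refine @Int.cast_injective ℂ _ _ _ _ ?_
  simp only [Int.cast_mul, Int.cast_add, Int.cast_sub, Int.cast_sum, Int.cast_natCast]
  have hS : (ord : ℂ) * ∑ χ ∈ L.data.X,
      (L.data.εX χ : ℂ) * ((χ : G → ℂ) s ^ 2 / (χ : G → ℂ) 1) =
      (ord : ℂ) + ∑ χ ∈ L.xs,
        (sgn p (deg χ) : ℂ) * ((ival s χ : ℂ) * (ival s χ : ℂ)) *
          ((ord / deg χ : ℕ) : ℂ) := by
    rw [Finset.mul_sum, ← Finset.add_sum_erase _ _ L.triv, L.εX_triv hp3, trivChar_apply,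
      trivChar_apply]
    refine congrArg₂ (· + ·) (by norm_num) (Finset.sum_congr rfl fun χ hχ => ?_)
    rw [(L.εX_eq hp3 (Finset.mem_of_mem_erase hχ)).1, key χ, (ival_spec hG hs χ).1]
    ring
  rw [key θ]
  rw [(ival_spec hG hs θ).1] at he
  push_cast at he
  linear_combination (-(ord : ℂ)) * he -
    (((ord / cent s : ℕ) : ℂ) ^ 2 * (Nat.card L.V : ℂ)) * hS

theorem val_sum [Fact p.Prime] (hp : p = 7 ∨ p = 11 ∨ p = 23) (L : Local G p) {s : G}
    (hs : orderOf s = 2) {θ : IrrCharacter G} (hθ : θ ∈ L.data.Y) :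
    L.data.ε * ival s θ = 1 + ∑ χ ∈ L.xs, sgn p (deg χ) * ival s χ := by
  have hp3 : 3 ≤ p := by rcases hp with rfl | rfl | rfl <;> norm_num
  have hsp : ¬ p ∣ orderOf s := by rw [hs]; rcases hp with rfl | rfl | rfl <;> norm_num
  have h1 := L.data.rel θ hθ s hsp
  simp only [fun χ => (ival_spec hG hs χ).1] at h1
  have h2 : L.data.ε * ival s θ = ∑ χ ∈ L.data.X, L.data.εX χ * ival s χ := by exact_mod_cast h1
  rw [h2, ← Finset.add_sum_erase _ _ L.triv, L.εX_triv hp3, ival_triv, one_mul]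
  refine congrArg (1 + ·) (Finset.sum_congr rfl fun χ hχ => ?_)
  rw [(L.εX_eq hp3 (Finset.mem_of_mem_erase hχ)).1]

/-- The sum of the squares of the values of the exceptional members. -/
theorem sum_sq_Y [Fact p.Prime] (hp : p = 7 ∨ p = 11 ∨ p = 23) (L : Local G p) {s : G}
    (hs : orderOf s = 2) {θ : IrrCharacter G} (hθ : θ ∈ L.data.Y) :
    ∑ χ ∈ L.data.Y, (ival s χ).natAbs * (ival s χ).natAbs =
      (p - 1) / L.e * ((ival s θ).natAbs * (ival s θ).natAbs) := by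
  have hp3 : 3 ≤ p := by rcases hp with rfl | rfl | rfl <;> norm_num
  rw [Finset.sum_congr rfl fun χ hχ => by
      rw [show ival s χ = ival s θ from congrArg Prod.snd (L.sameY_val hG hp hs hθ hχ)],
    Finset.sum_const, smul_eq_mul, L.cardY_eq hp3]

/-- The pairs test. -/
theorem pairsOk_of [Fintype (IrrCharacter G)] [Fact p.Prime] (hp : p = 7 ∨ p = 11 ∨ p = 23)
    (L : Local G p) (hc : Nat.card L.V < 2 ^ 15) {s : G} (hs : orderOf s = 2)
    {θ : IrrCharacter G} (hθ : θ ∈ L.data.Y) {b : List Cell}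
    (hb : (b : Multiset Cell) = L.xs.val.map (cell s)) :
    pairsOk p L.e (Nat.card L.V) (cent s)
      (qsum p b - L.data.ε * (ival s θ * ival s θ) * ((ord / deg θ : ℕ) : ℤ)) = true := by
  obtain ⟨j, hj, hj0, he⟩ := L.pairs_int hG hp hs hθ
  rw [← qsum_eq p hb] at he
  unfold pairsOk
  simp only [Bool.and_eq_true, beq_iff_eq, Bool.or_eq_true]
  rw [he]
  set p' : ℤ := (p : ℤ) * (ord : ℤ) * (ord : ℤ) with hp'
  have hne : p' ≠ 0 := by
    rcases hp with rfl | rfl | rfl <;> simp [hp', ord]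
  have hq : ((p : ℤ) * (j : ℤ) * (j : ℤ) * (ord : ℤ) * (ord : ℤ) / p').natAbs = j * j := by
    rw [show (p : ℤ) * (j : ℤ) * (j : ℤ) * (ord : ℤ) * (ord : ℤ) = p' * ((j * j : ℕ) : ℤ) by
      rw [hp']; push_cast; ring, Int.mul_ediv_cancel_left _ hne, Int.natAbs_natCast]
  rw [hq]
  refine ⟨by rw [hp']; push_cast; ring, ?_⟩
  rcases Nat.mod_two_eq_zero_or_one L.e with h | h
  · exact Or.inl ⟨h, by rw [isqGo_mul_self (by omega)]⟩
  · exact Or.inr (by rw [hj0 (Nat.odd_iff.2 h), mul_zero])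

/-- The column at a central involution of the complement is listed. -/
theorem exists_col [Fintype (IrrCharacter G)] [Fact p.Prime] (hp : p = 7 ∨ p = 11 ∨ p = 23)
    (L : Local G p) (hc : Nat.card L.V < 2 ^ 15) {s : G}
    (hsV : s ∈ L.V) (hs : orderOf s = 2) {R : List Run}
    (hR : (flat R : Multiset ℕ) = L.xs.val.map deg) (hnd : (R.map Prod.fst).Nodup)
    {θ : IrrCharacter G} (hθ : θ ∈ L.data.Y) :
    ∃ r ∈ colsOf p L.e (Nat.card L.V) (cent s) R,
      (r.1 : Multiset Cell) = L.xs.val.map (cell s) ∧ r.2 = cell s θ := by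
  have hp3 : 3 ≤ p := by rcases hp with rfl | rfl | rfl <;> norm_num
  have hs1 : s ≠ 1 := fun e => by simp [e] at hs
  have hC := cent_le hG hs1
  have hθne : θ ≠ trivChar G := fun e => L.triv_notMem_Y (e ▸ hθ)
  have hbud := sum_sq_le hG hs (S := L.nt) fun h => L.ne_triv_of_mem_nt h rfl
  rw [L.nt_eq, Finset.sum_union L.disjoint_xs, L.sum_sq_Y hG hp hs hθ] at hbud
  obtain ⟨b, hb, hbm⟩ := vals_sound (vs := valsC p (cent s)) hnd (B := cent s - 1)
    (L.xs.val.map (cell s)) (fun t ht => by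
      obtain ⟨χ, hχ, rfl⟩ := Multiset.mem_map.1 ht
      obtain ⟨hne, hX⟩ := Finset.mem_erase.1 hχ
      refine mem_valsC hp hC (okv_cell hG hs hne) ?_
      obtain ⟨-, -, h3⟩ := L.of_const hG hp hne (L.data.sgnX χ hX) (L.data.valX χ hX)
      have e1 := Int.dvd_of_emod_eq_zero (h3 s hsV hs)
      have e2 := Int.modEq_iff_dvd.1 (L.data.modX χ hX)
      rw [(L.εX_eq hp3 hX).1] at e2
      have e3 := dvd_sub e1 e2
      rwa [show ival s χ - (deg χ : ℤ) - (sgn p (deg χ) - (deg χ : ℤ)) =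
        ival s χ - sgn p (deg χ) by ring] at e3)
    (by rw [Multiset.map_map, hR]; rfl)
    (by rw [Multiset.map_map]
        simp only [Finset.sum] at hbud
        simp only [Function.comp_def, cell]
        omega)
  obtain ⟨hS, hε, hy⟩ := L.dsum_xs hp3 hθ hR
  have hw : L.data.ε * vsum p b = ival s θ := by
    rw [vsum_eq p hbm, ← L.val_sum hG hp hs hθ, ← mul_assoc]
    rcases L.data.sgnY with h | h <;> simp [h]
  refine ⟨_, List.mem_map.2 ⟨b, List.mem_filter.2 ⟨hb, ?_⟩, rfl⟩, hbm, Prod.ext hy (show eps (dsum p (flat R)) * vsum p b = ival s θ by rw [hε]; exact hw)⟩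
  simp only [colOk, hy, hε, hw]
  simp only [Bool.and_eq_true, decide_eq_true_eq, Bool.or_eq_true, bne_iff_ne, ne_eq, beq_iff_eq]
  refine ⟨⟨⟨okv_cell hG hs hθne, by rw [nsq_eq hbm]; omega⟩, ?_⟩,
    L.pairsOk_of hG hp hc hs hθ hbm⟩
  by_cases h1 : (p - 1) / L.e = 1
  · refine Or.inr (Int.emod_eq_zero_of_dvd ?_)
    have hY1 : L.data.Y.card = 1 := (L.cardY_eq hp3).trans h1
    obtain ⟨-, -, a3⟩ := L.of_const hG hp hθne
      (c := -L.data.ε) (by rcases L.data.sgnY with h | h <;> simp [h])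
      (fun x hx hx1 v hv => by rw [L.data.valY hY1 θ hθ x hx hx1 v hv, Int.cast_neg])
    have e1 := Int.dvd_of_emod_eq_zero (a3 s hsV hs)
    have e2 := Int.modEq_iff_dvd.1 (L.data.modY θ hθ)
    have hed : (p : ℤ) ∣ (L.e : ℤ) + 1 := by
      have he : L.e = p - 1 := by
        have h2 := L.data.cardY
        rwa [hY1, one_mul] at h2
      exact ⟨1, by omega⟩
    have e3 := dvd_sub e1 (dvd_sub e2 (hed.mul_left L.data.ε))
    rwa [show ival s θ - (deg θ : ℤ) - (L.data.ε * (L.e : ℤ) - (deg θ : ℤ) -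
      L.data.ε * ((L.e : ℤ) + 1)) = ival s θ + L.data.ε by ring] at e3
  · exact Or.inl h1

/-- A shape with an empty table does not occur. -/
theorem false_of_noneChk [Fintype (IrrCharacter G)] [Fact p.Prime]
    (hp : p = 7 ∨ p = 11 ∨ p = 23) (L : Local G p) {pool : List ℕ}
    (hnd : pool.Nodup) (hmem : ∀ χ ∈ L.nt, deg χ ∈ pool) {bad : ℕ → Bool}
    (hbad : ∀ s : G, orderOf s = 2 → bad (cent s) = false) (hc : Nat.card L.V < 2 ^ 15)
    (h : noneChk p L.e (Nat.card L.V) pool bad = true) : False := by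
  obtain ⟨R, hR, hRm, hRn⟩ := L.exists_degs hG hp hnd
    (fun χ hχ => hmem χ (by rw [L.nt_eq]; exact Finset.mem_union_left _ hχ))
    (fun θ hθ => hmem θ (by rw [L.nt_eq]; exact Finset.mem_union_right _ hθ))
  simp only [noneChk, List.all_eq_true, Bool.and_eq_true, beq_iff_eq] at h
  obtain ⟨h2, h3⟩ := h R hR
  obtain ⟨s, hsV, hs, hok⟩ := L.exists_involution hG hp (Nat.dvd_of_mod_eq_zero h2)
  obtain ⟨θ, hθ⟩ := L.exists_theta
  obtain ⟨r, hr, -⟩ := L.exists_col hG hp hc hsV hs hRm hRn hθ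
  have h4 := h3 (cent s) (List.mem_filter.2 ⟨cent_mem hG hs, by rw [hbad s hs, hok]; rfl⟩)
  rw [List.isEmpty_iff] at h4
  rw [h4] at hr
  exact List.not_mem_nil hr

end Local

end CfsgLib.Blocks.Order10200960
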