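import Cfsg.Agent.Lib.Blocks.Order10200960.Generators

/-!
# Checks on the standard generators
-/

set_option autoImplicit false
set_option maxRecDepth 100000

namespace CfsgLib.Blocks.Order10200960

theorem companion_all : ((List.range 2048).all fun c =>
    !eqP (pow23P (compP c)) oneP || c == 739 || c == 1141) = true := by decide +kernel

theorem candidates_all : ((List.range 2048).all fun r => checkY (candY r)) = true := by
  decide +kernel

theorem std_spec : eqP (compP 739) zP = true ∧ eqP (sqrP 739) hP = true ∧
    eqP (pow5P stdP) oneP = true ∧ eqP (pow11P hP) oneP = true ∧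
    eqP zP oneP = false ∧ eqP (mulP basisInvP basisP) oneP = true := by decide +kernel

theorem swap_spec : eqP (mulP zInvAltP (compP 1141)) oneP = true ∧
    eqP (mulP swapP swapInvP) oneP = true ∧ eqP (mulP swapInvP swapP) oneP = true ∧
    eqP (mulP (mulP swapP zInvAltP) swapInvP) zP = true ∧
    eqP (mulP (mulP swapP (sqrP 1141)) swapInvP) hP = true := by decide +kernel

theorem flip_spec : eqP (mulP flipP flipInvP) oneP = true ∧
    eqP (mulP flipInvP flipP) oneP = true ∧
    eqP (mulP (mulP flipP (trP zP)) flipInvP) zP = true ∧
    eqP (mulP (mulP flipP (trP (powP hP 10))) flipInvP) hP = true := by decide +kernel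

theorem hCubes_spec : hCubes.length = 11 ∧
    ((List.range 11).all fun k => eqP (hCubes.getD k 0) (powP hP (3 * k))) = true := by
  decide +kernel

end CfsgLib.Blocks.Order10200960
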