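import Cfsg.Agent.Lib.Blocks.Order10200960.Module
import Cfsg.Agent.Lib.Blocks.Order10200960.BitsLemmas
import Cfsg.Agent.Lib.Blocks.Order10200960.GroupChecks
import Mathlib.GroupTheory.Perm.Cycle.Type

/-!
# Standard coordinates for the representation of degree eleven

The element of order 23 has the companion matrix of a factor of the cyclotomic polynomial, the
element of order eleven doubles the exponents.
-/

set_option autoImplicit false

namespace CfsgLib.Blocks.Order10200960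

open Cfsg CfsgLib CfsgLib.Char CfsgLib.CharIntegral CfsgLib.Blocks.PrimeSylow Matrix
open CfsgLib.Blocks.Order443520 (dualRep dualRep_apply)
open scoped Classical

/-- The number of vectors of an invariant subspace fixed by a matrix of prime order. -/
theorem card_fixed_modEq {p : ℕ} [Fact p.Prime] {Z : Matrix (Fin 11) (Fin 11) (ZMod 2)}
    (hZ : Z ^ p = 1) (T : Submodule (ZMod 2) (Fin 11 → ZMod 2)) (hT : ∀ x ∈ T, x ᵥ* Z ∈ T) :
    2 ^ Module.finrank (ZMod 2) T ≡
      Nat.card {x : Fin 11 → ZMod 2 // x ∈ T ∧ x ᵥ* Z = x} [MOD p] := by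
  have h := CfsgLib.Blocks.Order443520.card_mod_fixed Zᵀ (p := p)
    (by rw [← Matrix.transpose_pow, hZ, Matrix.transpose_one]) T
    (fun x hx => by rw [Matrix.mulVec_transpose]; exact hT x hx)
  simpa only [Matrix.mulVec_transpose] using h

theorem conj_pow_inv {G : Type*} [Group G] (a g : G) (i : ℕ) :
    (g⁻¹ * a * g) ^ i = g⁻¹ * a ^ i * g := by
  simpa using (conj_pow (a := g⁻¹) (b := a) (i := i))

theorem two_pow_dim {m : ℕ} (hm : m ≤ 11) (h : 2 ^ m ≡ 1 [MOD 23]) : m = 0 ∨ m = 11 := by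
  have key : ∀ m < 12, 2 ^ m % 23 = 1 → m = 0 ∨ m = 11 := by decide
  exact key m (by omega) h

variable {G : Type*} [Group G]

/-- Conjugation of a representation. -/
noncomputable def conjHom (ψ : G →* Matrix (Fin 11) (Fin 11) (ZMod 2))
    (P Q : Matrix (Fin 11) (Fin 11) (ZMod 2)) (hPQ : P * Q = 1) (hQP : Q * P = 1) :
    G →* Matrix (Fin 11) (Fin 11) (ZMod 2) where
  toFun g := P * ψ g * Q
  map_one' := by rw [map_one, mul_one, hPQ]
  map_mul' a b := by
    rw [map_mul, show P * ψ a * Q * (P * ψ b * Q) = P * ψ a * (Q * P) * ψ b * Q by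
      simp only [mul_assoc], hQP, mul_one]
    simp only [mul_assoc]

theorem conjHom_apply (ψ : G →* Matrix (Fin 11) (Fin 11) (ZMod 2))
    (P Q : Matrix (Fin 11) (Fin 11) (ZMod 2)) (hPQ : P * Q = 1) (hQP : Q * P = 1) (g : G) :
    conjHom ψ P Q hPQ hQP g = P * ψ g * Q := rfl

/-- Coordinates in which the two elements have standard matrices, up to the choice of the factor
of the cyclotomic polynomial. -/
theorem exists_coords (φ : G →* Matrix (Fin 11) (Fin 11) (ZMod 2)) {z h : G} (hz : z ^ 23 = 1)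
    (hh : h ^ 11 = 1) (hhz : h⁻¹ * z * h = z ^ 2) (hz1 : φ z ≠ 1) :
    ∃ (ψ : G →* Matrix (Fin 11) (Fin 11) (ZMod 2)) (c : ℕ), (c = 739 ∨ c = 1141) ∧
      ψ z = toMat (compP c) ∧ ψ h = toMat (sqrP c) := by
  obtain ⟨Z, hZdef⟩ : ∃ Z, φ z = Z := ⟨_, rfl⟩
  obtain ⟨H, hHdef⟩ : ∃ H, φ h = H := ⟨_, rfl⟩
  rw [hZdef] at hz1
  have hZ : Z ^ 23 = 1 := by rw [← hZdef, ← map_pow, hz, map_one]
  have hH : H ^ 11 = 1 := by rw [← hHdef, ← map_pow, hh, map_one]
  have hcomm : ∀ i : ℕ, Z ^ i * H = H * Z ^ (2 * i) := fun i => by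
    rw [← hZdef, ← hHdef, ← map_pow, ← map_pow, ← map_mul, ← map_mul, pow_mul, ← hhz]
    congr 1
    rw [conj_pow_inv]; group
  obtain ⟨F, hF⟩ : ∃ F, LinearMap.ker (Z.vecMulLinear - LinearMap.id) = F := ⟨_, rfl⟩
  have hmemF : ∀ x, x ∈ F ↔ x ᵥ* Z = x := fun x => by
    simp [← hF, LinearMap.mem_ker, sub_eq_zero]
  have hfree : ∀ x, x ᵥ* Z = x → x = 0 := by
    have h1 := card_fixed_modEq hZ ⊤ fun _ _ => trivial
    rw [finrank_top, Module.finrank_fin_fun, Nat.card_congr (β := F)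
      (Equiv.subtypeEquivRight fun x => by simp [hmemF]),
      Module.natCard_eq_pow_finrank (K := ZMod 2), Nat.card_zmod] at h1
    have hle := Submodule.finrank_le F
    rw [Module.finrank_fin_fun] at hle
    intro x hx
    rcases two_pow_dim hle (h1.symm.trans (by decide)) with h0 | h0
    · have hxF := (hmemF x).2 hx
      rwa [Submodule.finrank_eq_zero.1 h0, Submodule.mem_bot] at hxF
    · exfalso
      refine hz1 (Matrix.ext_of_single_vecMul fun i => ?_)
      rw [Matrix.vecMul_one, ← hmemF, Submodule.eq_top_of_finrank_eq (S := F)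
        (by rw [h0, Module.finrank_fin_fun])]
      trivial
  obtain ⟨v, hv0, hvH⟩ : ∃ v, v ≠ 0 ∧ v ᵥ* H = v := by
    by_contra hno
    push Not at hno
    have h1 := card_fixed_modEq hH ⊤ fun _ _ => trivial
    have h2 : Nat.card {x : Fin 11 → ZMod 2 //
        x ∈ (⊤ : Submodule (ZMod 2) (Fin 11 → ZMod 2)) ∧ x ᵥ* H = x} = 1 := by
      rw [Nat.card_eq_one_iff_unique]
      exact ⟨⟨fun a b => Subtype.ext ((by_contra fun e => hno _ e a.2.2 : a.1 = 0).trans
        (by_contra fun e => hno _ e b.2.2 : b.1 = 0).symm)⟩,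
        ⟨⟨0, trivial, Matrix.zero_vecMul _⟩⟩⟩
    rw [h2, finrank_top, Module.finrank_fin_fun] at h1
    unfold Nat.ModEq at h1
    norm_num at h1
  obtain ⟨w, hw⟩ : ∃ w : ℕ → Fin 11 → ZMod 2, ∀ k, w k = v ᵥ* Z ^ k :=
    ⟨fun k => v ᵥ* Z ^ k, fun k => rfl⟩
  have hwZ : ∀ k, w k ᵥ* Z = w (k + 1) := fun k => by
    rw [hw, hw, pow_succ, Matrix.vecMul_vecMul]
  have hli : ∀ k ≤ 11, LinearIndependent (ZMod 2) fun i : Fin k => w (i : ℕ) := by
    intro k
    induction k with
    | zero => exact fun _ => linearIndependent_empty_type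
    | succ k ih =>
      intro hk
      rw [linearIndependent_fin_succ']
      refine ⟨ih (by omega), fun hmem => ?_⟩
      set U := Submodule.span (ZMod 2) (Set.range fun i : Fin k => w (i : ℕ)) with hU
      have hmem' : w k ∈ U := hmem
      have hUZ : ∀ x ∈ U, x ᵥ* Z ∈ U := by
        intro x hx
        induction hx using Submodule.span_induction with
        | mem y hy =>
          obtain ⟨i, rfl⟩ := hy
          rw [hwZ]
          by_cases hi : (i : ℕ) + 1 < k
          · exact Submodule.subset_span ⟨⟨_, hi⟩, rfl⟩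
          · rw [show (i : ℕ) + 1 = k by omega]; exact hmem'
        | zero => simp
        | add a b _ _ ha hb => rw [Matrix.add_vecMul]; exact U.add_mem ha hb
        | smul c a _ ha => rw [Matrix.smul_vecMul]; exact U.smul_mem c ha
      have h1 := card_fixed_modEq hZ U hUZ
      have h2 : Nat.card {x : Fin 11 → ZMod 2 // x ∈ U ∧ x ᵥ* Z = x} = 1 := by
        rw [Nat.card_eq_one_iff_unique]
        exact ⟨⟨fun a b => Subtype.ext ((hfree _ a.2.2).trans (hfree _ b.2.2).symm)⟩,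
          ⟨⟨0, U.zero_mem, Matrix.zero_vecMul _⟩⟩⟩
      rw [h2] at h1
      have hle : Module.finrank (ZMod 2) U ≤ k :=
        (finrank_range_le_card fun i : Fin k => w (i : ℕ)).trans_eq (Fintype.card_fin k)
      rcases two_pow_dim (by omega) h1 with h0 | h0
      · rw [Submodule.finrank_eq_zero.1 h0, Submodule.mem_bot] at hmem'
        apply hv0
        have h3 := congrArg (fun x => x ᵥ* Z ^ (22 * k)) hmem'
        simp only [Matrix.zero_vecMul, hw, Matrix.vecMul_vecMul, ← pow_add] at h3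
        rwa [show k + 22 * k = 23 * k by ring, pow_mul, hZ, one_pow, Matrix.vecMul_one] at h3
      · omega
  let P : Matrix (Fin 11) (Fin 11) (ZMod 2) := Matrix.of fun i => w (i : ℕ)
  have hP : IsUnit P := Matrix.linearIndependent_rows_iff_isUnit.1 (hli 11 le_rfl)
  obtain ⟨Q, hQ⟩ := hP
  have hPQ : P * (↑Q⁻¹ : Matrix (Fin 11) (Fin 11) (ZMod 2)) = 1 := by rw [← hQ, Units.mul_inv]
  have hQP : (↑Q⁻¹ : Matrix (Fin 11) (Fin 11) (ZMod 2)) * P = 1 := by rw [← hQ, Units.inv_mul]
  set ψ := conjHom φ P (↑Q⁻¹ : Matrix (Fin 11) (Fin 11) (ZMod 2)) hPQ hQP with hψ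
  have hrow : ∀ (i : Fin 11) (g : G),
      Pi.single i 1 ᵥ* ψ g = w (i : ℕ) ᵥ* φ g ᵥ* (↑Q⁻¹ : Matrix (Fin 11) (Fin 11) (ZMod 2)) := by
    intro i g
    rw [hψ, conjHom_apply, ← Matrix.vecMul_vecMul, ← Matrix.vecMul_vecMul,
      Matrix.single_one_vecMul]
    rfl
  have hbasis : ∀ i : Fin 11,
      w (i : ℕ) ᵥ* (↑Q⁻¹ : Matrix (Fin 11) (Fin 11) (ZMod 2)) = Pi.single i 1 := fun i => by
    have h1 := hrow i 1
    rw [map_one, map_one, Matrix.vecMul_one, Matrix.vecMul_one] at h1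
    exact h1.symm
  set c := rowNat (ψ z 10) with hc
  have hc2 : c < 2048 := rowNat_lt _
  have hψz : ψ z = toMat (compP c) := by
    funext i
    rw [compP, toMat_rowsP (by intro r hr; simp at hr; omega)]
    rcases eq_or_ne i 10 with rfl | hi
    · exact (rowVec_rowNat (ψ z 10)).symm
    · have hi' : (i : ℕ) < 10 := by
        have := i.2
        rcases Nat.lt_or_ge (i : ℕ) 10 with h | h
        · exact h
        · exact absurd (Fin.ext (show (i : ℕ) = 10 by omega)) hi
      have h1 : ψ z i = Pi.single (⟨(i : ℕ) + 1, by omega⟩ : Fin 11) 1 := by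
        rw [show ψ z i = Pi.single i 1 ᵥ* ψ z from (Matrix.single_one_vecMul i (ψ z)).symm, hrow,
          hZdef, hwZ]
        exact hbasis ⟨(i : ℕ) + 1, by omega⟩
      rw [h1]
      obtain ⟨i, hilt⟩ := i
      simp only at hi'
      interval_cases i <;>
        (simp only [List.getD_cons_succ, List.getD_cons_zero]; funext j; fin_cases j <;> rfl)
  have hψh : ψ h = toMat (sqrP c) := by
    funext i
    have hw2 : w (i : ℕ) ᵥ* H = w (2 * (i : ℕ)) := by
      rw [hw, hw, Matrix.vecMul_vecMul, hcomm, ← Matrix.vecMul_vecMul, hvH]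
    have h1 : ψ h i = Pi.single (0 : Fin 11) 1 ᵥ* ψ z ^ (2 * (i : ℕ)) := by
      rw [show ψ h i = Pi.single i 1 ᵥ* ψ h from (Matrix.single_one_vecMul i (ψ h)).symm, hrow,
        hHdef, hw2, ← map_pow, hrow, map_pow, hZdef]
      congr 1
      rw [hw, hw]
      simp [Matrix.vecMul_vecMul]
    rw [h1, sqrP, toMat_rowsP (by
      intro r hr
      obtain ⟨k, -, rfl⟩ := List.mem_map.1 hr
      exact vecP_lt _ _),
      List.getD_eq_getElem _ _ (by simp), List.getElem_map, List.getElem_range, rowVec_vecP,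
      toMat_powP, ← hψz]
    congr 1
    funext j
    revert j
    decide
  refine ⟨ψ, c, ?_, hψz, hψh⟩
  have h1 := List.all_eq_true.1 companion_all c (List.mem_range.2 hc2)
  simp only [Bool.or_eq_true, Bool.not_eq_true', beq_iff_eq] at h1
  rcases h1 with (h1 | h1) | h1
  · refine absurd ?_ (toMat_ne h1)
    rw [toMat_pow23P, ← hψz, ← map_pow, hz, map_one, toMat_oneP]
  · exact Or.inl h1
  · exact Or.inr h1

variable [Fintype G] [IsSimpleGroup G] (hG : Nat.card G = ord)
include hG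

omit [IsSimpleGroup G] in
/-- An element of order five mapping an element of order eleven to its cube. -/
theorem exists_five [Fintype (IrrCharacter G)] (T : Tbl G) {h : G} (hh : orderOf h = 11) :
    ∃ n : G, orderOf n = 5 ∧ n⁻¹ * h * n = h ^ 3 := by
  have : Fact (Nat.Prime 5) := ⟨Nat.prime_five⟩
  obtain ⟨x, hxP, hx1, hc⟩ := Local.exists_conj_P hG (Or.inr (Or.inl rfl)) T.L11 hh
  obtain ⟨c, hc⟩ := isConj_iff.1 hc
  have hx : orderOf x = 11 := T.L11.setup.orderOf_eq hxP hx1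
  set N := Subgroup.normalizer (T.L11.P : Set G) with hN
  obtain ⟨n, hn⟩ := exists_prime_orderOf_dvd_card' (G := N) 5
    (by rw [hN, T.L11.card_normalizer, T.e11]; exact dvd_mul_right 5 _)
  have hno : orderOf (n : G) = 5 := by rw [Subgroup.orderOf_coe, hn]
  have hnx : (n : G)⁻¹ * x * n ∈ T.L11.P := by
    simpa using (Subgroup.mem_normalizer_iff.1 (inv_mem n.2) x).1 hxP
  have hzp : Subgroup.zpowers x = T.L11.P := Subgroup.eq_of_le_of_card_ge
    (Subgroup.zpowers_le.2 hxP) (le_of_eq (by rw [T.L11.setup.card, Nat.card_zpowers, hx]))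
  rw [← hzp, mem_zpowers_iff_mem_range_orderOf, Finset.mem_image] at hnx
  obtain ⟨k, hk11, hk⟩ := hnx
  rw [hx, Finset.mem_range] at hk11
  have hit : ∀ j : ℕ, ((n : G) ^ j)⁻¹ * x * (n : G) ^ j = x ^ (k ^ j) := by
    intro j
    induction j with
    | zero => simp
    | succ j ih =>
      rw [pow_succ (n : G) j, show ((n : G) ^ j * n)⁻¹ * x * ((n : G) ^ j * n) =
        (n : G)⁻¹ * (((n : G) ^ j)⁻¹ * x * (n : G) ^ j) * n by group, ih, ← conj_pow_inv, ← hk,
        ← pow_mul, pow_succ']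
  have h5 : k ^ 5 % 11 = 1 := by
    have h1 := hit 5
    rw [show (n : G) ^ 5 = 1 by rw [← hno, pow_orderOf_eq_one], inv_one, one_mul, mul_one] at h1
    have h2 : x ^ (k ^ 5) = x ^ 1 := by rw [pow_one, ← h1]
    rw [pow_eq_pow_iff_modEq, hx] at h2
    exact h2
  have hk1 : k ≠ 1 := fun e => by
    rw [e, pow_one] at hk
    have hd : orderOf (n : G) ∣ Nat.card (Subgroup.centralizer ({x} : Set G)) :=
      Subgroup.orderOf_dvd_natCard _ (Subgroup.mem_centralizer_singleton_iff.2 (by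
        calc (n : G) * x = (n : G) * ((n : G)⁻¹ * x * n) := by rw [← hk]
          _ = x * n := by group))
    rw [hno, T.L11.setup.centralizer_singleton hxP hx1, T.L11.setup.card_centralizer, T.v11] at hd
    norm_num at hd
  have hall : ∀ k < 11, k ^ 5 % 11 = 1 → k ≠ 1 → ∃ j < 5, k ^ j % 11 = 3 := by decide +kernel
  obtain ⟨j, hj, hj3⟩ := hall k hk11 h5 hk1
  have hj0 : j ≠ 0 := fun e => by simp [e] at hj3
  have hno' : orderOf ((n : G) ^ j) = 5 := by
    rw [Nat.Coprime.orderOf_pow, hno]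
    rw [hno]
    exact Nat.prime_five.coprime_iff_not_dvd.2
      (Nat.not_dvd_of_pos_of_lt (Nat.pos_of_ne_zero hj0) hj)
  have e3 : ((n : G) ^ j)⁻¹ * x * (n : G) ^ j = x ^ 3 := by
    rw [hit, pow_eq_pow_iff_modEq, hx]; exact hj3
  refine ⟨c⁻¹ * (n : G) ^ j * c, ?_, ?_⟩
  · have := Order7920.orderOf_conj_eq' c⁻¹ ((n : G) ^ j)
    rwa [inv_inv, hno'] at this
  · rw [← mul_left_cancel_iff (a := c), ← mul_right_cancel_iff (a := c⁻¹), ← conj_pow, hc, ← e3,
      ← hc]
    group

/-- The representation in standard coordinates. -/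
theorem exists_std : ∃ (z h : G) (ψ : G →* Matrix (Fin 11) (Fin 11) (ZMod 2)),
    orderOf z = 23 ∧ orderOf h = 11 ∧ h⁻¹ * z * h = z ^ 2 ∧
    ψ z = toMat zP ∧ ψ h = toMat hP ∧ Function.Injective ψ := by
  have : Fintype (IrrCharacter G) := Fintype.ofFinite _
  obtain ⟨φ, z, h, hz, hh, hzh, hφ⟩ := exists_phi hG
  have hz23 : z ^ 23 = 1 := hz ▸ pow_orderOf_eq_one z
  have hh11 : (h⁻¹) ^ 11 = 1 := by rw [inv_pow, ← hh, pow_orderOf_eq_one, inv_one]
  have hrel : (h⁻¹)⁻¹ * z * h⁻¹ = z ^ 2 := by rw [inv_inv]; exact hzh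
  obtain ⟨ψ, c, hc, hψz, hψh⟩ := exists_coords φ hz23 hh11 hrel hφ
  suffices hs : ∃ (z' : G) (ψ' : G →* Matrix (Fin 11) (Fin 11) (ZMod 2)),
      orderOf z' = 23 ∧ (h⁻¹)⁻¹ * z' * h⁻¹ = z' ^ 2 ∧ ψ' z' = toMat zP ∧
        ψ' h⁻¹ = toMat hP by
    obtain ⟨z', ψ', h1, h2, h3, h4⟩ := hs
    refine ⟨z', h⁻¹, ψ', h1, by rw [orderOf_inv, hh], h2, h3, h4, ?_⟩
    rw [injective_iff_map_eq_one]
    intro g hg
    rcases (inferInstance : (MonoidHom.ker ψ').Normal).eq_bot_or_eq_top with e | e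
    · rw [← Subgroup.mem_bot, ← e]; exact hg
    · have : ψ' z' = 1 := by rw [← MonoidHom.mem_ker, e]; trivial
      rw [h3, ← toMat_oneP] at this
      exact absurd this (toMat_ne std_spec.2.2.2.2.1)
  obtain ⟨s1, s2, -, -, -, -⟩ := std_spec
  rcases hc with rfl | rfl
  · exact ⟨z, ψ, hz, hrel, hψz.trans (toMat_eq s1), hψh.trans (toMat_eq s2)⟩
  · obtain ⟨o1, o2, o3, o4, o5⟩ := swap_spec
    have p1 : toMat swapP * toMat swapInvP = 1 := by rw [← toMat_mulP, toMat_eq o2, toMat_oneP]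
    have p2 : toMat swapInvP * toMat swapP = 1 := by rw [← toMat_mulP, toMat_eq o3, toMat_oneP]
    refine ⟨z⁻¹, conjHom ψ _ _ p1 p2, by rw [orderOf_inv, hz], ?_, ?_, ?_⟩
    · rw [inv_pow, ← hrel]; group
    · have e : ψ z⁻¹ = toMat zInvAltP := by
        rw [← one_mul (ψ z⁻¹), ← toMat_oneP, ← toMat_eq o1, toMat_mulP, ← hψz, mul_assoc,
          ← map_mul, mul_inv_cancel, map_one, mul_one]
      rw [conjHom_apply, e, ← toMat_mulP, ← toMat_mulP]
      exact toMat_eq o4
    · rw [conjHom_apply, hψh, ← toMat_mulP, ← toMat_mulP]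
      exact toMat_eq o5

omit [Group G] [Fintype G] [IsSimpleGroup G] hG in
/-- The images of the cyclic vector determine the image of the element of order five. -/
theorem exists_candidate {Y : Matrix (Fin 11) (Fin 11) (ZMod 2)}
    (hY : toMat hP * Y = Y * toMat hP ^ 3) : ∃ r, r < 2048 ∧ toMat (candY r) = Y := by
  refine ⟨rowNat (rowVec 3 ᵥ* Y), rowNat_lt _, ?_⟩
  obtain ⟨-, -, -, -, -, hB⟩ := std_spec
  obtain ⟨hlen, hcub⟩ := hCubes_spec
  rw [candY, toMat_mulP]
  have hR : toMat (rowsP (hCubes.map (vecP (rowNat (rowVec 3 ᵥ* Y))))) = toMat basisP * Y := by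
    funext i
    have hsemi : SemiconjBy Y (toMat hP ^ 3) (toMat hP) := hY.symm
    have e := List.all_eq_true.1 hcub i (List.mem_range.2 i.2)
    rw [toMat_rowsP (by
        intro r hr
        obtain ⟨k, -, rfl⟩ := List.mem_map.1 hr
        exact vecP_lt _ _),
      List.getD_eq_getElem _ _ (by rw [List.length_map, hlen]; exact i.2), List.getElem_map,
      rowVec_vecP, rowVec_rowNat, ← List.getD_eq_getElem hCubes 0 (hlen.symm ▸ i.2),
      toMat_eq e, toMat_powP, pow_mul, Matrix.vecMul_vecMul, (hsemi.pow_right (i : ℕ)).eq,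
      Matrix.mul_apply_eq_vecMul, basisP,
      toMat_rowsP (by
        intro r hr
        obtain ⟨k, -, rfl⟩ := List.mem_map.1 hr
        exact vecP_lt _ _),
      List.getD_eq_getElem _ _ (by simp), List.getElem_map, List.getElem_range, rowVec_vecP,
      toMat_powP, Matrix.vecMul_vecMul]
  rw [hR, ← mul_assoc, ← toMat_mulP, toMat_eq hB, toMat_oneP, one_mul]

end CfsgLib.Blocks.Order10200960
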