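import Cfsg.Agent.Lib.Blocks.Order10200960.Basic
import Cfsg.Agent.Lib.Blocks.PrimeSylow.DegreeCount
import Cfsg.Agent.Lib.Blocks.Order95040.Congr
import Cfsg.Agent.Lib.Char.DegreeCenter

/-!
# Values at a central involution of the complement for seven

With three classes for seven a value at a central involution of the complement is congruent to
plus or minus the degree, unless seven characters have that degree.
-/

set_option autoImplicit false

namespace CfsgLib.Blocks.Order10200960

open Cfsg CfsgLib CfsgLib.Char CfsgLib.CharIntegral CfsgLib.Blocks.PrimeSylow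
open CfsgLib.Blocks.Order95040 (deg cent deg_cast deg_trivChar deg_eq_finrank)
open scoped Classical ComplexConjugate

/-- An integer that is `p` times an algebraic integer is divisible by `p`. -/
theorem dvd_of_eq_mul_integral {p : ℕ} (hp : p ≠ 0) {m : ℤ} {z : ℂ} (hz : IsIntegral ℤ z)
    (h : (m : ℂ) = (p : ℂ) * z) : (p : ℤ) ∣ m := by
  rw [← Int.natAbs_dvd_natAbs, Int.natAbs_natCast]
  refine CharIntegral.dvd_of_isIntegral_div hp ?_
  have hz' : (m : ℂ) / (p : ℂ) = z := by
    rw [h, mul_div_cancel_left₀ _ (Nat.cast_ne_zero.2 hp)]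
  rcases Int.natAbs_eq m with e | e
  · rw [e, Int.cast_natCast] at hz'
    exact hz' ▸ hz
  · rw [e, Int.cast_neg, Int.cast_natCast, neg_div] at hz'
    have h1 := (hz' ▸ hz).neg
    rwa [neg_neg] at h1

variable {G : Type*} [Group G] [Fintype G]

/-- The sum of the values over a coset of powers is `p` times an algebraic integer. -/
theorem exists_sum_coset {p A B : ℕ} {g : G} (hA : orderOf g ∣ p * A) (χ : IrrCharacter G) :
    ∃ z : ℂ, IsIntegral ℤ z ∧
      ∑ k ∈ Finset.range p, (χ : G → ℂ) (g ^ (k * A + B)) = (p : ℂ) * z := by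
  obtain ⟨n, ρ, hρ, hρc'⟩ := χ.2
  have hρc := hρc'.symm
  obtain ⟨μ, hμ, -, hpow, -⟩ := exists_eigenvalues ρ g
  set S := Finset.univ.filter fun i => μ i ^ A = 1
  refine ⟨∑ i ∈ S, μ i ^ B, IsIntegral.sum _ fun i _ => IsIntegral.pow
    ⟨Polynomial.X ^ orderOf g - 1, Polynomial.monic_X_pow_sub_C 1 (orderOf_pos g).ne',
      by simp [hμ i]⟩ _, ?_⟩
  simp only [hρc, hpow]
  rw [Finset.sum_comm, Finset.mul_sum, Finset.sum_filter]
  refine Finset.sum_congr rfl fun i _ => ?_
  have hroot : (μ i ^ A) ^ p = 1 := by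
    obtain ⟨c, hc⟩ := hA
    rw [← pow_mul, mul_comm, hc, pow_mul, hμ i, one_pow]
  have hg := Order7920.geom_root hroot
  simp only [pow_add, pow_mul', ← Finset.sum_mul, hg]
  split_ifs with h <;> simp

variable [IsSimpleGroup G] (hG : Nat.card G = ord)
include hG

omit [IsSimpleGroup G] in
/-- A central involution of the complement acts by a sign on a character of the complement. -/
theorem exists_sign {V : Subgroup G} {s : G} (hsV : s ∈ V) (hs : orderOf s = 2)
    (hcent : ∀ v ∈ V, Commute s v) (η : IrrCharacter V) :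
    ∃ σ : ℤ, (σ = 1 ∨ σ = -1) ∧ (η : V → ℂ) ⟨s, hsV⟩ = (σ : ℂ) * (η : V → ℂ) 1 := by
  obtain ⟨m, ρ, hρ, hρc'⟩ := η.2
  have := hρ
  have hρc := hρc'.symm
  obtain ⟨c, hc⟩ := exists_scalar_of_mem_center ρ (z := ⟨s, hsV⟩)
    (Subgroup.mem_center_iff.2 fun w => Subtype.ext ((hcent w w.2).symm.eq))
  have h1 := character_smul_of_scalar ρ hc 1
  have h2 := character_smul_of_scalar ρ hc ⟨s, hsV⟩
  rw [mul_one] at h1
  have hss : (⟨s, hsV⟩ : V) * ⟨s, hsV⟩ = 1 := Subtype.ext (by
    rw [Subgroup.coe_mul, ← pow_two, ← hs, pow_orderOf_eq_one, Subgroup.coe_one])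
  rw [hss, h1, ← mul_assoc] at h2
  have hne : ρ.character 1 ≠ 0 := hρc' ▸ IsIrr.apply_one_ne_zero η.2
  have hc2 : c * c = 1 := by
    refine mul_right_cancel₀ hne ?_
    rw [one_mul, ← h2]
  rw [hρc]
  rcases mul_self_eq_one_iff.1 hc2 with e | e
  · exact ⟨1, Or.inl rfl, by rw [h1, e, Int.cast_one]⟩
  · exact ⟨-1, Or.inr rfl, by rw [h1, e]; push_cast; ring⟩

/-- The congruence at a central involution of the complement. -/
theorem value_mod_seven (L : Local G 7) (he : L.e = 3) {s : G} (hsV : s ∈ L.V)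
    (hs : orderOf s = 2) (hcent : ∀ v ∈ L.V, Commute s v) {χ : IrrCharacter G}
    (hd : ¬ 7 ∣ deg χ) [Fintype (IrrCharacter G)] :
    ((ival s χ - (deg χ : ℤ)) % 7 = 0 ∨ (ival s χ + (deg χ : ℤ)) % 7 = 0) ∨
      7 ≤ (Finset.univ.filter fun ψ : IrrCharacter G => deg ψ = deg χ).card := by
  have : Fact (Nat.Prime 7) := ⟨by norm_num⟩
  have := Fintype.ofFinite L.P
  have := Fintype.ofFinite (IrrCharacter L.P)
  have := Fintype.ofFinite (IrrCharacter L.V)
  obtain ⟨M, hM⟩ := CfsgLib.ZStar.exists_isPModular (p := 7) (by norm_num)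
  have : M.IsPrime := hM.2.1.isPrime
  have h := L.setup
  obtain ⟨η, hη⟩ := h.exists_mem_blockSet hM hd
  have hrel : (Subgroup.centralizer (L.P : Set G)).relIndex
      (Subgroup.normalizer (L.P : Set G)) = 3 := by
    have h1 := Subgroup.relIndex_mul_relIndex ⊥ (Subgroup.centralizer (L.P : Set G))
      (Subgroup.normalizer (L.P : Set G)) bot_le (Blocks.centralizer_le_normalizer' L.P)
    rw [Subgroup.relIndex_bot_left, Subgroup.relIndex_bot_left, L.card_normalizer,
      h.card_centralizer, he, mul_comm (7 * Nat.card L.V)] at h1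
    exact Nat.eq_of_mul_eq_mul_right (Nat.mul_pos (by norm_num) Nat.card_pos) h1
  have horb := h.card_orbit_mul η
  rw [hrel] at horb
  rcases (Nat.dvd_prime (by norm_num : Nat.Prime 3)).1 ⟨_, (mul_comm _ _).trans horb |>.symm⟩
    with hi | hi
  · -- seven characters of one degree
    refine Or.inr ?_
    obtain ⟨-, Y, ε, w, θ, hε, hYB, -, hYθ, -, hXcard, hBcard, hX, -, -, hrel'⟩ :=
      h.exists_structure hM η (isPBlock_blockOf χ) (mem_blockOf_self χ) hη
    rw [hi] at hXcard hBcard
    set B := blockOf M (χ : G → ℂ) with hB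
    obtain ⟨x0, hx0⟩ : ∃ x0, B \ Y = {x0} :=
      Set.ncard_eq_one.1 (by rw [← Nat.card_coe_set_eq, hXcard])
    have hx0m : x0 ∈ B \ Y := by rw [hx0]; rfl
    have hsame : ∀ ψ ∈ B, deg ψ = deg x0 := fun ψ hψ => by
      by_cases hY : ψ ∈ Y
      · obtain ⟨μ, hμ, rfl⟩ := hYθ ψ hY
        have h1 := hrel' μ hμ 1 (by rw [orderOf_one]; norm_num)
        rw [hx0, finsum_mem_singleton, deg_cast, deg_cast] at h1
        have h2 : ε * (deg (θ μ) : ℤ) + w x0 * (deg x0 : ℤ) = 0 := by exact_mod_cast h1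
        rcases hε with rfl | rfl <;> rcases (hX x0 hx0m).1 with e | e <;> rw [e] at h2 <;>
          have := charDegree_pos (θ μ) <;> have := charDegree_pos x0 <;> omega
      · have : ψ ∈ B \ Y := ⟨hψ, hY⟩
        rw [hx0, Set.mem_singleton_iff] at this
        rw [this]
    refine le_trans (le_of_eq ?_) (Finset.card_le_card (s := B.toFinset) fun ψ hψ => ?_)
    · rw [← Set.ncard_eq_toFinset_card', ← Nat.card_coe_set_eq, hBcard]
    · rw [Finset.mem_filter]
      exact ⟨Finset.mem_univ _, (hsame ψ (Set.mem_toFinset.1 hψ)).trans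
        (hsame χ (mem_blockOf_self χ)).symm⟩
  · -- a stable character of the complement
    refine Or.inl ?_
    rw [hi] at horb
    have : Subsingleton (orbitV L.P η) :=
      (Nat.card_eq_one_iff_unique.1 (Nat.eq_of_mul_eq_mul_right (by norm_num) horb)).1
    obtain ⟨σ, hσ, hσv⟩ := exists_sign hG hsV hs hcent η
    have hval : ∀ x ∈ L.P, x ≠ 1 → (χ : G → ℂ) (x * s) = (σ : ℂ) * (χ : G → ℂ) x := by
      intro x hx hx1
      have key : ∀ v : L.V, (χ : G → ℂ) (x * v) =
          dval (χ : G → ℂ) x (η : L.V → ℂ) * (η : L.V → ℂ) v := fun v => by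
        rw [h.apply_eq_sum (IsIrr.isClassFunction χ.2) hx v, Finset.sum_eq_single η]
        · intro η' _ hne
          rw [h.dval_eq_zero_of_not_orbit hM hη (fun hm => hne ?_) hx hx1, zero_mul]
          exact congrArg Subtype.val (Subsingleton.elim
            (⟨η', hm⟩ : orbitV L.P η) ⟨η, h.mem_orbit_self η⟩)
        · exact fun hi => absurd (Finset.mem_univ _) hi
      have h1 := key 1
      rw [OneMemClass.coe_one, mul_one] at h1
      rw [key ⟨s, hsV⟩, hσv, h1]
      ring
    obtain ⟨x, hx, hx1⟩ := L.exists_mem_P hG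
    have hxo := h.orderOf_eq hx hx1
    have hc := h.commute hx hsV
    obtain ⟨z1, hz1, e1⟩ := exists_sum_coset (p := 7) (A := 2) (B := 7) (g := x * s)
      (by rw [hc.orderOf_mul_eq_mul_orderOf_of_coprime (by rw [hxo, hs]; norm_num), hxo, hs]) χ
    obtain ⟨z2, hz2, e2⟩ := exists_sum_coset (p := 7) (A := 1) (B := 0) (g := x ^ 2)
      (by rw [mul_one, ← hxo, orderOf_dvd_iff_pow_eq_one, ← pow_mul, mul_comm, pow_mul,
            pow_orderOf_eq_one, one_pow]) χ
    have hpow : ∀ k, (x * s) ^ (k * 2 + 7) = x ^ (2 * k) * s := fun k => by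
      rw [hc.mul_pow, ← pow_mod_orderOf s, hs, show (k * 2 + 7) % 2 = 1 by omega, pow_one,
        pow_add x, ← hxo, pow_orderOf_eq_one, mul_one, mul_comm k 2]
    simp only [hpow] at e1
    simp only [mul_one, add_zero, ← pow_mul] at e2
    rw [Finset.sum_range_succ'] at e1 e2
    rw [Finset.sum_congr rfl fun k hk => hval (x ^ (2 * (k + 1))) (Subgroup.pow_mem _ hx _)
      (fun e => by
        have := hxo ▸ orderOf_dvd_of_pow_eq_one e
        have := Finset.mem_range.1 hk
        omega), ← Finset.mul_sum] at e1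
    simp only [mul_zero, pow_zero, one_mul, deg_cast] at e1 e2
    rw [(Local.ival_spec hG hs χ).1] at e1
    have hdvd : (7 : ℤ) ∣ ival s χ - σ * (deg χ : ℤ) := by
      refine dvd_of_eq_mul_integral (p := 7) (by norm_num) (z := z1 - (σ : ℂ) * z2)
        (hz1.sub ((isIntegral_algebraMap (x := σ)).mul hz2)) ?_
      push_cast
      linear_combination e1 - (σ : ℂ) * e2
    rcases hσ with rfl | rfl
    · exact Or.inl (Int.emod_eq_zero_of_dvd (by simpa using hdvd))
    · exact Or.inr (Int.emod_eq_zero_of_dvd (by simpa using hdvd))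

end CfsgLib.Blocks.Order10200960
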