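import Cfsg.Agent.Lib.Blocks.Order10200960.Seven
import Cfsg.Agent.Lib.Blocks.Order10200960.Residue
import Cfsg.Agent.Lib.Blocks.Order10200960.TablesDegreesSmall
import Cfsg.Agent.Lib.Blocks.Order10200960.TablesDegreesLarge

/-!
# The degrees and the values at an involution, order 10200960
-/

set_option autoImplicit false

namespace CfsgLib.Blocks.Order10200960

open Cfsg CfsgLib CfsgLib.Char CfsgLib.CharIntegral CfsgLib.Blocks.PrimeSylow
open CfsgLib.Blocks.Order95040 (deg cent deg_cast deg_trivChar deg_eq_finrank)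
open scoped Classical ComplexConjugate

/-- All cells. -/
def allCells : List Cell := (1, 1) :: (253, 13) :: tableCells

theorem pool23_spec : (degD.all fun d =>
    !((d % 23 == 1 || d % 23 == 22) && ord / (23 * 1) % d == 0 && decide (d * d ≤ budE)) ||
      pool23.contains d) = true := by
  decide +kernel

theorem budE_eq : budE = ord - (1 + 1035 * 1035 + 2024 * 2024 + 2 * (990 * 990)) := by
  unfold budE; rfl

theorem nodup_pool23 : pool23.Nodup := by decide +kernel

variable {G : Type*} [Group G] [Fintype G] [IsSimpleGroup G] (hG : Nat.card G = ord)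
include hG

theorem Local.qsum_eq_zero [Fintype (IrrCharacter G)] {p : ℕ} [Fact p.Prime]
    (hp : p = 7 ∨ p = 11 ∨ p = 23) (L : Local G p) (hV : Nat.card L.V = 1) (hodd : Odd L.e) {s : G}
    (hs : orderOf s = 2) {θ : IrrCharacter G} (hθ : θ ∈ L.data.Y) {b : List Cell}
    (hb : (b : Multiset Cell) = L.xs.val.map (cell s)) :
    qsum p b - L.data.ε * (ival s θ * ival s θ) * ((ord / deg θ : ℕ) : ℤ) = 0 := by
  obtain ⟨j, -, hj0, h⟩ := L.pairs_int hG hp hs hθ
  rw [hj0 hodd, ← qsum_eq p hb, hV] at h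
  simp only [Nat.cast_zero, mul_zero, zero_mul, Nat.cast_one, one_mul, mul_eq_zero, or_self] at h
  refine h.resolve_left fun h0 => ?_
  have h2 : 0 < ord / cent s := Nat.div_pos (Nat.le_of_dvd (by norm_num [ord]) (cent_dvd hG s))
    Nat.card_pos
  omega

/-- The degrees and the values at an involution. -/
theorem exists_cells [Fintype (IrrCharacter G)] :
    ∃ s : G, orderOf s = 2 ∧ cent s = 2688 ∧
      (Finset.univ : Finset (IrrCharacter G)).val.map (cell s) = (allCells : Multiset Cell) := by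
  have : Fact (Nat.Prime 7) := ⟨by norm_num⟩
  have : Fact (Nat.Prime 11) := ⟨by norm_num⟩
  have : Fact (Nat.Prime 23) := ⟨by norm_num⟩
  obtain ⟨L⟩ := exists_local hG (p := 7) (Or.inl rfl)
  obtain ⟨L11⟩ := exists_local hG (p := 11) (Or.inr (Or.inl rfl))
  obtain ⟨L23⟩ := exists_local hG (p := 23) (Or.inr (Or.inr rfl))
  have hp7 : (7 : ℕ) = 7 ∨ (7 : ℕ) = 11 ∨ (7 : ℕ) = 23 := Or.inl rfl
  have hp11 : (11 : ℕ) = 7 ∨ (11 : ℕ) = 11 ∨ (11 : ℕ) = 23 := Or.inr (Or.inl rfl)
  have hp23 : (23 : ℕ) = 7 ∨ (23 : ℕ) = 11 ∨ (23 : ℕ) = 23 := Or.inr (Or.inr rfl)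
  obtain ⟨he, hcV, hcells⟩ := shape7 hG L L11 L23
  obtain ⟨he11, hV11⟩ := shape11 hG L11 L L23
  obtain ⟨he23, hV23⟩ := shape23 hG L23
  obtain ⟨n, hn⟩ : ∃ n, Nat.card L.V = 2 ^ n := by
    rcases hcV with h | h
    · exact ⟨1, h⟩
    · exact ⟨4, h⟩
  obtain ⟨s, hsV, hs, hcent, hok⟩ := L.exists_involution_central hG hp7
    (by rcases hcV with h | h <;> rw [h] <;> norm_num)
  rw [he] at hok
  obtain ⟨hC, hxc, hYc⟩ := hcells s hsV hs hok
  refine ⟨s, hs, ?_⟩
  have hD : ∀ χ : IrrCharacter G, χ ≠ trivChar G → deg χ ∈ degD := fun χ hne =>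
    deg_memD hG L11 L L23 hne
  obtain ⟨θ7, hθ7⟩ := L.exists_theta
  obtain ⟨θ11, hθ11⟩ := L11.exists_theta
  obtain ⟨θ23, hθ23⟩ := L23.exists_theta
  have hY7 : L.data.Y.card = 2 := by rw [L.cardY_eq (by norm_num), he]
  have hY11 : L11.data.Y.card = 2 := by rw [L11.cardY_eq (by norm_num), he11]
  have hY23 : L23.data.Y.card = 2 := by rw [L23.cardY_eq (by norm_num), he23]
  -- the principal block for seven
  have hY7m : L.data.Y.val.map (cell s) = Multiset.replicate 2 (990, -18) :=
    Multiset.eq_replicate.2 ⟨by rw [Multiset.card_map, ← Finset.card_def, hY7], fun t ht => by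
      obtain ⟨θ', hθ', rfl⟩ := Multiset.mem_map.1 ht
      exact hYc θ' hθ'⟩
  have hl7 : (([(1035, 27), (2024, 8), (990, -18), (990, -18)] : List Cell) : Multiset Cell) =
      L.nt.val.map (cell s) := by
    rw [L.nt_val, Multiset.map_add, hxc, hY7m]; rfl
  have hmem7 : ∀ χ ∈ L.nt, deg χ = 1035 ∨ deg χ = 2024 ∨ deg χ = 990 := fun χ hχ => by
    have h1 : cell s χ ∈ ([(1035, 27), (2024, 8), (990, -18), (990, -18)] : List Cell) := by
      rw [← Multiset.mem_coe, hl7]; exact Multiset.mem_map_of_mem _ hχ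
    simp only [cell, List.mem_cons, List.not_mem_nil, or_false, Prod.mk.injEq] at h1
    omega
  have hfilt : (L23.xs.filter fun χ => χ ∈ L.nt) = L.data.Y := by
    ext χ
    simp only [Finset.mem_filter]
    constructor
    · rintro ⟨h1, h2⟩
      have h3 := (L23.εX_eq (by norm_num) (Finset.mem_of_mem_erase h1)).2
      rw [L.nt_eq, Finset.mem_union] at h2
      refine h2.resolve_left fun h2 => ?_
      have h4 : deg χ ∈ ((sevenCells.1.map Prod.fst : List ℕ) : Multiset ℕ) := by
        rw [map_fst hxc.symm]; exact Multiset.mem_map_of_mem _ h2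
      simp [sevenCells] at h4
      omega
    · intro h
      have hd : deg χ = 990 := congrArg Prod.fst (hYc χ h)
      have hn : χ ∈ L.nt := by rw [L.nt_eq]; exact Finset.mem_union_right _ h
      refine ⟨?_, hn⟩
      rcases L23.residue (by norm_num) ((L23.mem_nt_iff hV23).2
        ⟨L.ne_triv_of_mem_nt hn, by rw [hd]; norm_num⟩) with ⟨h1, -⟩ | ⟨-, h1⟩
      · exact h1
      · rw [he23, hd] at h1; omega
  set S23 := L23.xs \ L.nt with hS23
  have hS23c : S23.card = 8 := by
    have h1 := congrArg Multiset.card (val_split L23.xs L.nt)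
    rw [Multiset.card_add, hfilt, ← Finset.card_def, ← Finset.card_def, ← Finset.card_def,
      L23.card_xs, he23, hY7] at h1
    rw [hS23]
    omega
  have hS23m : ∀ χ ∈ S23, χ ≠ trivChar G ∧ χ ∈ L23.xs := fun χ hχ =>
    ⟨Finset.ne_of_mem_erase (Finset.mem_sdiff.1 hχ).1, (Finset.mem_sdiff.1 hχ).1⟩
  have hY23m : ∀ χ ∈ L23.data.Y, deg χ % 23 = 11 ∨ deg χ % 23 = 12 := fun χ hχ => by
    have h : χ ∈ L23.nt := by rw [L23.nt_eq]; exact Finset.mem_union_right _ hχ
    rcases L23.residue (by norm_num) h with ⟨h1, -⟩ | ⟨-, h1⟩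
    · exact absurd hχ (Finset.disjoint_left.1 L23.disjoint_xs h1)
    · rw [he23] at h1; omega
  have hd1 : Disjoint S23 L23.data.Y := Finset.disjoint_of_subset_left Finset.sdiff_subset
    L23.disjoint_xs
  have hd2 : Disjoint L.nt (S23 ∪ L23.data.Y) := Finset.disjoint_union_right.2
    ⟨Finset.disjoint_sdiff, Finset.disjoint_left.2 fun χ h1 h2 => by
      have := hmem7 χ h1
      have := hY23m χ h2
      omega⟩
  set T := L.nt ∪ (S23 ∪ L23.data.Y) with hT
  have hTtriv : trivChar G ∉ T := by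
    simp only [hT, Finset.mem_union, not_or]
    exact ⟨fun h => L.ne_triv_of_mem_nt h rfl, fun h => (hS23m _ h).1 rfl, L23.triv_notMem_Y⟩
  have hTval : T.val = L.nt.val + (S23.val + L23.data.Y.val) := by
    rw [hT, ← Finset.disjUnion_eq_union _ _ hd2, Finset.disjUnion_val,
      ← Finset.disjUnion_eq_union _ _ hd1, Finset.disjUnion_val]
  have hsub23 : ∀ χ : IrrCharacter G, χ ≠ trivChar G → ¬ 23 ∣ deg χ → χ ∈ T := fun χ hne hd => by
    have h1 := (L23.mem_nt_iff hV23).2 ⟨hne, hd⟩
    rw [L23.nt_eq, Finset.mem_union] at h1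
    rcases h1 with h1 | h1
    · by_cases h7 : χ ∈ L.nt
      · exact Finset.mem_union_left _ h7
      · exact Finset.mem_union_right _ (Finset.mem_union_left _ (Finset.mem_sdiff.2 ⟨h1, h7⟩))
    · exact Finset.mem_union_right _ (Finset.mem_union_right _ h1)
  have hbudT := Local.sum_deg_le hG hTtriv
  have hnt7d : ∑ χ ∈ L.nt, deg χ * deg χ = 1035 * 1035 + 2024 * 2024 + 2 * (990 * 990) := by
    rw [← dsq_eq (map_fst hl7)]; rfl
  have hY23d : ∑ χ ∈ L23.data.Y, deg χ * deg χ = 2 * (deg θ23 * deg θ23) := by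
    rw [Finset.sum_congr rfl fun θ' hθ' => by rw [L23.deg_Y hθ23 hθ'], Finset.sum_const,
      smul_eq_mul, hY23]
  rw [hT, Finset.sum_union hd2, Finset.sum_union hd1, hnt7d, hY23d] at hbudT
  have hbudE : ∑ χ ∈ S23, deg χ * deg χ + 2 * (deg θ23 * deg θ23) ≤ budE := by
    have hb : budE = ord - (1 + 1035 * 1035 + 2024 * 2024 + 2 * (990 * 990)) := budE_eq
    generalize budE = b at hb ⊢
    generalize ord = o at hb hbudT
    omega
  obtain ⟨t, ht, htm⟩ := combos_sound (mn := fun _ => 0) nodup_pool23 (k := 8) (B := budE)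
    (B' := 0) (S23.val.map deg) (fun d hd => by
      obtain ⟨χ, hχ, rfl⟩ := Multiset.mem_map.1 hd
      obtain ⟨hne, hx⟩ := hS23m χ hχ
      have hX := Finset.mem_of_mem_erase hx
      obtain ⟨h1, -, -⟩ := L23.of_const hG hp23 hne (L23.data.sgnX χ hX) (L23.data.valX χ hX)
      obtain ⟨-, hres⟩ := L23.εX_eq (by norm_num) hX
      rw [hV23] at h1
      have h2 := List.all_eq_true.1 pool23_spec _ (hD χ hne)
      have hle : deg χ * deg χ ≤ budE :=
        le_trans (Finset.single_le_sum (f := fun ψ => deg ψ * deg ψ) (fun _ _ => Nat.zero_le _) hχ)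
          (by omega)
      simp only [Bool.or_eq_true, Bool.not_eq_true', Bool.and_eq_false_iff, Bool.or_eq_false_iff,
        beq_eq_false_iff_ne, decide_eq_false_iff_not, List.contains_iff_mem] at h2
      rcases h2 with ((h2 | h2) | h2) | h2
      · omega
      · exact absurd h1 h2
      · exact absurd hle h2
      · exact h2)
    (by rw [Multiset.card_map, ← Finset.card_def, hS23c])
    (by rw [Multiset.map_map]
        simp only [Finset.sum] at hbudE
        simp only [Function.comp_def]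
        omega)
    (by simp)
  have hxs23 : (((990 :: 990 :: flat t : List ℕ)) : Multiset ℕ) = L23.xs.val.map deg := by
    rw [val_split L23.xs L.nt, hfilt, Multiset.map_add, ← htm,
      show L.data.Y.val.map deg = (L.data.Y.val.map (cell s)).map Prod.fst by
        rw [Multiset.map_map]; rfl, hY7m]
    rfl
  obtain ⟨-, hε23, hy23⟩ := L23.dsum_xs (by norm_num) hθ23 hxs23
  set F := 1035 :: 2024 :: 990 :: 990 :: (flat t ++ [deg θ23, deg θ23]) with hF
  have hFm : (F : Multiset ℕ) = T.val.map deg := by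
    rw [hTval, Multiset.map_add, Multiset.map_add, ← htm,
      show L23.data.Y.val.map deg = Multiset.replicate 2 (deg θ23) from Multiset.eq_replicate.2
        ⟨by rw [Multiset.card_map, ← Finset.card_def, hY23], fun d hd => by
          obtain ⟨θ', hθ', rfl⟩ := Multiset.mem_map.1 hd
          exact L23.deg_Y hθ23 hθ'⟩, ← map_fst hl7]
    rfl
  obtain ⟨B, hB, hBm, hBn, hall, hyl, -⟩ := L11.join_mem hG he11 hV11 hD hTtriv hFm
    (nodup_pool11.filter _) (pool := pool11.filter fun d => d % 23 == 0) (fun χ hχ => by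
      obtain ⟨h1, h2⟩ := Finset.mem_sdiff.1 hχ
      refine List.mem_filter.2 ⟨L11.mem_pool11 hG hV11 hD h1,
        beq_iff_eq.2 (Nat.mod_eq_zero_of_dvd ?_)⟩
      by_contra h23
      exact h2 (hsub23 χ (Finset.ne_of_mem_erase h1) h23)) hθ11
  obtain ⟨-, hε11, hy11⟩ := L11.dsum_xs (by norm_num) hθ11 hall
  have hθ11ne : θ11 ≠ trivChar G := fun e => L11.triv_notMem_Y (e ▸ hθ11)
  have hy02 : ((yEl F).length = 0 ∧ 23 ∣ deg θ11) ∨ (yEl F).length = 2 := by
    by_cases h23 : 23 ∣ deg θ11
    · refine Or.inl ⟨?_, h23⟩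
      rw [hyl, Finset.card_eq_zero, Finset.filter_eq_empty_iff]
      intro θ' hθ' hm
      have hd := L11.deg_Y hθ11 hθ'
      have hr : deg θ' % 11 = 5 ∨ deg θ' % 11 = 6 := by
        have h : θ' ∈ L11.nt := by rw [L11.nt_eq]; exact Finset.mem_union_right _ hθ'
        rcases L11.residue (by norm_num) h with ⟨h1, -⟩ | ⟨-, h1⟩
        · exact absurd hθ' (Finset.disjoint_left.1 L11.disjoint_xs h1)
        · rw [he11] at h1; omega
      rw [hT, Finset.mem_union, Finset.mem_union] at hm
      rcases hm with hm | hm | hm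
      · have := hmem7 θ' hm
        omega
      · exact ((L23.mem_nt_iff hV23).1
          (by rw [L23.nt_eq]; exact Finset.mem_union_left _ (hS23m θ' hm).2)).2 (hd ▸ h23)
      · have := hY23m θ' hm
        omega
    · refine Or.inr ?_
      rw [hyl, Finset.filter_true_of_mem fun θ' hθ' =>
        hsub23 θ' (fun e => L11.triv_notMem_Y (e ▸ hθ')) (by rwa [L11.deg_Y hθ11 hθ']), hY11]
  -- all the named characters
  set S11 := L11.xs \ T with hS11
  have hd3 : Disjoint T S11 := Finset.disjoint_sdiff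
  have hd4 : Disjoint (T ∪ S11) (L11.data.Y \ T) := Finset.disjoint_union_left.2
    ⟨Finset.disjoint_sdiff, Finset.disjoint_of_subset_left Finset.sdiff_subset
      (Finset.disjoint_of_subset_right Finset.sdiff_subset L11.disjoint_xs)⟩
  set N := T ∪ S11 ∪ (L11.data.Y \ T) with hN
  have hNval : N.val = T.val + S11.val + (L11.data.Y \ T).val := by
    rw [hN, ← Finset.disjUnion_eq_union _ _ hd4, Finset.disjUnion_val,
      ← Finset.disjUnion_eq_union _ _ hd3, Finset.disjUnion_val]
  have hS11m : ∀ χ ∈ S11, χ ≠ trivChar G ∧ χ ∈ L11.xs := fun χ hχ =>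
    ⟨Finset.ne_of_mem_erase (Finset.mem_sdiff.1 hχ).1, (Finset.mem_sdiff.1 hχ).1⟩
  have hNtriv : trivChar G ∉ N := by
    simp only [hN, Finset.mem_union, not_or]
    exact ⟨⟨hTtriv, fun h => (hS11m _ h).1 rfl⟩,
      fun h => L11.triv_notMem_Y (Finset.mem_sdiff.1 h).1⟩
  have hYsd : (L11.data.Y \ T).card = 2 - (yEl F).length := by
    have h1 := congrArg Multiset.card (val_split L11.data.Y T)
    rw [Multiset.card_add, ← Finset.card_def, ← Finset.card_def, ← Finset.card_def, hY11,
      ← hyl] at h1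
    omega
  have hNm : (namesE t B : Multiset ℕ) = N.val.map deg := by
    simp only [namesE, hy23, ← hF, hy11]
    rw [← Multiset.coe_add, ← Multiset.coe_add, hFm, hBm, Multiset.coe_replicate, hNval,
      Multiset.map_add, Multiset.map_add]
    congr 1
    exact (Multiset.eq_replicate.2 ⟨by rw [Multiset.card_map, ← Finset.card_def, hYsd],
      fun d hd => by
        obtain ⟨θ', hθ', rfl⟩ := Multiset.mem_map.1 hd
        exact L11.deg_Y hθ11 (Finset.mem_sdiff.1 hθ').1⟩).symm
  have hout : ∀ χ : IrrCharacter G, χ ≠ trivChar G → χ ∉ N → 253 ∣ deg χ := fun χ hne hn => by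
    have h23 : 23 ∣ deg χ := by
      by_contra h
      exact hn (Finset.mem_union_left _ (Finset.mem_union_left _ (hsub23 χ hne h)))
    have h11 : 11 ∣ deg χ := by
      by_contra h
      have h1 := (L11.mem_nt_iff hV11).2 ⟨hne, h⟩
      rw [L11.nt_eq, Finset.mem_union] at h1
      refine hn ?_
      by_cases hT' : χ ∈ T
      · exact Finset.mem_union_left _ (Finset.mem_union_left _ hT')
      rcases h1 with h1 | h1
      · exact Finset.mem_union_left _ (Finset.mem_union_right _ (Finset.mem_sdiff.2 ⟨h1, hT'⟩))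
      · exact Finset.mem_union_right _ (Finset.mem_sdiff.2 ⟨h1, hT'⟩)
    exact Nat.Coprime.mul_dvd_of_dvd_of_dvd (by norm_num : Nat.Coprime 11 23) h11 h23
  set R := Finset.univ.erase (trivChar G) \ N with hR
  have hsplit : (Finset.univ : Finset (IrrCharacter G)).val =
      trivChar G ::ₘ (R.val + N.val) := by
    have hsub : N ⊆ Finset.univ.erase (trivChar G) := fun χ hχ =>
      Finset.mem_erase.2 ⟨fun e => hNtriv (e ▸ hχ), Finset.mem_univ χ⟩
    rw [hR, ← Finset.disjUnion_val _ _ (Finset.sdiff_disjoint), Finset.disjUnion_eq_union,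
      Finset.sdiff_union_of_subset hsub, Finset.erase_val,
      Multiset.cons_erase (Finset.mem_univ_val _)]
  have hsum : ∀ {M : Type} [AddCommMonoid M] (f : IrrCharacter G → M),
      ∑ χ, f χ = f (trivChar G) + (∑ χ ∈ R, f χ + ∑ χ ∈ N, f χ) := fun {M} _ f => by
    simp only [Finset.sum, hsplit, Multiset.map_cons, Multiset.sum_cons, Multiset.map_add,
      Multiset.sum_add]
  have hR253 : ∀ χ ∈ R, 253 ∣ deg χ := fun χ hχ => by
    obtain ⟨h1, h2⟩ := Finset.mem_sdiff.1 hχ
    exact hout χ (Finset.ne_of_mem_erase h1) h2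
  have hsq : ∑ χ : IrrCharacter G, deg χ * deg χ = ord := by
    have h1 := sum_sq_degree (G := G)
    rw [hG] at h1
    simp only [deg_cast, sq] at h1
    exact_mod_cast h1
  rw [hsum, deg_trivChar, ← dsq_eq hNm] at hsq
  have hR64 : 64009 ∣ ∑ χ ∈ R, deg χ * deg χ := Finset.dvd_sum fun χ hχ => by
    have := mul_dvd_mul (hR253 χ hχ) (hR253 χ hχ)
    exact this
  have hcand : (t, B) ∈ candE := by
    refine List.mem_flatMap.2 ⟨t, List.mem_filter.2 ⟨ht, ?_⟩, ?_⟩
    · have h1 := L23.data.modY θ23 hθ23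
      have h2 : ((L23.e : ℕ) : ℤ) = 11 := by rw [he23]; rfl
      simp only [h2] at h1
      simp only [hy23, hε23, dsq_eq htm, Bool.and_eq_true, beq_iff_eq, decide_eq_true_eq,
        List.contains_iff_mem]
      exact ⟨⟨Int.emod_eq_zero_of_dvd (by simpa using Int.modEq_iff_dvd.1 h1.symm), hbudE⟩,
        hD θ23 fun e => L23.triv_notMem_Y (e ▸ hθ23)⟩
    · simp only [hy23, ← hF]
      rw [if_pos (by rw [decide_eq_true_eq]; exact hy02.imp And.left id)]
      refine List.mem_map.2 ⟨B, List.mem_filter.2 ⟨hB, ?_⟩, rfl⟩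
      simp only [hy11, Bool.and_eq_true, Bool.or_eq_true, beq_iff_eq]
      refine ⟨?_, ?_⟩
      · rcases hy02 with h | h
        · exact Or.inr (Nat.mod_eq_zero_of_dvd h.2)
        · exact Or.inl h
      · obtain ⟨k, hk⟩ := hR64
        have : ord - (1 + dsq (namesE t B)) = 64009 * k := by omega
        rw [this, Nat.mul_mod_right]
  have hcount : ∀ χ ∈ N, ¬ 253 ∣ deg χ →
      (Finset.univ.filter fun ψ : IrrCharacter G => deg ψ = deg χ).card ≤
        (namesE t B).count (deg χ) := fun χ hχ hd => by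
    rw [← Multiset.coe_count, hNm, Multiset.count_map, ← Finset.filter_val, ← Finset.card_def]
    refine Finset.card_le_card fun ψ hψ => ?_
    have hψd := (Finset.mem_filter.1 hψ).2
    refine Finset.mem_filter.2 ⟨?_, hψd.symm⟩
    by_contra hn
    refine hd (hψd ▸ hout ψ (fun e => ?_) hn)
    have h1 := Order443520.one_lt_deg (perfect hG) (χ := χ) (fun e => hNtriv (e ▸ hχ))
    rw [e, deg_trivChar] at hψd
    omega
  have hvalE : ∀ χ ∈ N, ¬ 253 ∣ deg χ → ival s χ ∈ valsE (cent s) (namesE t B) (deg χ) := by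
    intro χ hχ hd
    refine List.mem_filter.2 ⟨Local.ival_valsAt hG hs (fun e => hNtriv (e ▸ hχ)), ?_⟩
    simp only [Bool.or_eq_true, beq_iff_eq, decide_eq_true_eq]
    by_cases h7 : 7 ∣ deg χ
    · exact Or.inl (Or.inl (Or.inl (Nat.mod_eq_zero_of_dvd h7)))
    rcases value_mod_seven hG L he hsV hs (hcent n hn) h7 with (h | h) | h
    · exact Or.inl (Or.inr h)
    · exact Or.inr h
    · exact Or.inl (Or.inl (Or.inr (h.trans (hcount χ hχ hd))))
  -- the columns
  have hnt7s : ∑ χ ∈ L.nt, (ival s χ).natAbs * (ival s χ).natAbs = 1441 := by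
    rw [← nsq_eq hl7]; rfl
  have hbud := Local.sum_sq_le hG hs hTtriv
  rw [hT, Finset.sum_union hd2, Finset.sum_union hd1, hnt7s,
    L23.sum_sq_Y hG hp23 hs hθ23, he23] at hbud
  obtain ⟨T', hT', hT'm⟩ := Local.vals_mem hG hs (S := S23) (fun h => (hS23m _ h).1 rfl)
    (combos_runs nodup_pool23 ht).1 htm (vs := valsE (cent s) (namesE t B))
    (fun χ hχ => hvalE χ (Finset.mem_union_left _ (Finset.mem_union_left _
      (Finset.mem_union_right _ (Finset.mem_union_left _ hχ)))) fun h => by
        have h1 := (L23.εX_eq (by norm_num) (Finset.mem_of_mem_erase (hS23m χ hχ).2)).2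
        omega)
    (Bd := cent s - 1442) (by omega)
  have hxs23c : (((990, -18) :: (990, -18) :: T' : List Cell) : Multiset Cell) =
      L23.xs.val.map (cell s) := by
    rw [val_split L23.xs L.nt, hfilt, Multiset.map_add, ← hT'm, hY7m]
    rfl
  have hw23 : L23.data.ε * vsum 23 ((990, -18) :: (990, -18) :: T') = ival s θ23 := by
    rw [vsum_eq 23 hxs23c, ← L23.val_sum hG hp23 hs hθ23, ← mul_assoc]
    rcases L23.data.sgnY with h | h <;> simp [h]
  have hq23 := L23.qsum_eq_zero hG hp23 hV23 (by rw [he23]; decide) hs hθ23 hxs23c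
  set Fc : List Cell := (1035, 27) :: (2024, 8) :: (990, -18) :: (990, -18) ::
    (T' ++ [(deg θ23, ival s θ23), (deg θ23, ival s θ23)]) with hFc
  have hFcm : (Fc : Multiset Cell) = T.val.map (cell s) := by
    rw [hTval, Multiset.map_add, Multiset.map_add, ← hT'm, ← hl7,
      show L23.data.Y.val.map (cell s) = Multiset.replicate 2 (cell s θ23) from
        Multiset.eq_replicate.2 ⟨by rw [Multiset.card_map, ← Finset.card_def, hY23], fun c hc => by
          obtain ⟨θ', hθ', rfl⟩ := Multiset.mem_map.1 hc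
          exact L23.sameY_val hG hp23 hs hθ23 hθ'⟩]
    rfl
  have hbudN := Local.sum_sq_le hG hs (S := T ∪ S11) (fun h => hNtriv (Finset.mem_union_left _ h))
  rw [Finset.sum_union hd3, hT, Finset.sum_union hd2, Finset.sum_union hd1, hnt7s,
    L23.sum_sq_Y hG hp23 hs hθ23, he23, ← nsq_eq hT'm] at hbudN
  rw [← nsq_eq hT'm] at hbud
  obtain ⟨W, hW, hWm⟩ := Local.vals_mem hG hs (S := S11) (fun h => (hS11m _ h).1 rfl) hBn hBm
    (vs := valsE (cent s) (namesE t B))
    (fun χ hχ => hvalE χ (Finset.mem_union_left _ (Finset.mem_union_right _ hχ)) fun h => by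
        have h1 := (L11.εX_eq (by norm_num) (Finset.mem_of_mem_erase (hS11m χ hχ).2)).2
        omega)
    (Bd := cent s - (1442 + nsq T' + 2 * ((ival s θ23).natAbs * (ival s θ23).natAbs))) (by omega)
  have hk : checkE (cent s) (t, B) = true := by
    rcases hC with h | h <;> rw [h]
    · exact List.all_eq_true.1 table_large _ hcand
    · exact List.all_eq_true.1 table_small _ hcand
  unfold checkE at hk
  simp only [hy23, hε23, List.all_eq_true] at hk
  have hk1 := hk T' hT'
  simp only [hw23, hq23, Local.okv_cell hG hs (fun e => L23.triv_notMem_Y (e ▸ hθ23)),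
    Bool.true_and, beq_self_eq_true, Bool.and_true, Bool.or_eq_true, Bool.not_eq_true',
    decide_eq_false_iff_not, List.all_eq_true, ← hFc] at hk1
  have hk2 := hk1.resolve_left (not_not.2 (by omega)) W hW
  obtain ⟨hpmT, hyT⟩ := L11.filter_pm hG he11 hV11 hTtriv
  have hys : ((Fc.filter fun t => t.1 % 11 == 5 || t.1 % 11 == 6 : List Cell) : Multiset Cell) =
      (L11.data.Y.filter fun χ => χ ∈ T).val.map (cell s) := by
    rw [coe_filter_map hFcm,
      show (T.filter fun χ => ((cell s χ).1 % 11 == 5 || (cell s χ).1 % 11 == 6) = true)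
        = L11.data.Y.filter (fun χ => χ ∈ T) from hyT]
  have hxs11c : ((Fc.filter (fun t => t.1 % 11 == 1 || t.1 % 11 == 10) ++ W : List Cell) :
      Multiset Cell) = L11.xs.val.map (cell s) := by
    rw [← Multiset.coe_add, coe_filter_map hFcm, hWm, ← Multiset.map_add,
      show (T.filter fun χ => ((cell s χ).1 % 11 == 1 || (cell s χ).1 % 11 == 10) = true)
        = L11.xs.filter (fun χ => χ ∈ T) from hpmT, hS11, ← val_split]
  have hfit := L11.fit_true hG he11 hV11 hs hθ11 hxs11c (Finset.filter_subset _ _) hys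
    (U := T ∪ S11) (fun h => hNtriv (Finset.mem_union_left _ h))
    (fun χ h1 h2 => Finset.mem_filter.2 ⟨h2, (Finset.mem_union.1 h1).resolve_right fun h =>
      Finset.disjoint_left.1 L11.disjoint_xs (hS11m χ h).2 h2⟩)
    (used := 1442 + nsq T' + 2 * ((ival s θ23).natAbs * (ival s θ23).natAbs) + nsq W) (by
      rw [Finset.sum_union hd3, hT, Finset.sum_union hd2, Finset.sum_union hd1, hnt7s,
        L23.sum_sq_Y hG hp23 hs hθ23, he23, ← nsq_eq hT'm, ← nsq_eq hWm]
      omega)
  rcases hk2 with hk2 | hk2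
  · rw [hfit] at hk2; exact absurd hk2 (by decide)
  rw [Bool.and_eq_true, beq_iff_eq, List.isPerm_iff] at hk2
  obtain ⟨hC2, hperm⟩ := hk2
  refine ⟨hC2, ?_⟩
  obtain ⟨-, hεc, hyc⟩ := L11.dsum_xs (by norm_num) hθ11 (map_fst hxs11c)
  have hw11 : L11.data.ε * vsum 11 (Fc.filter (fun t => t.1 % 11 == 1 || t.1 % 11 == 10) ++ W) =
      ival s θ11 := by
    rw [vsum_eq 11 hxs11c, ← L11.val_sum hG hp11 hs hθ11, ← mul_assoc]
    rcases L11.data.sgnY with h | h <;> simp [h]
  rw [hεc, hyc, hw11] at hperm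
  have hNc : N.val.map (cell s) = (tableCells : Multiset Cell) := by
    rw [← Multiset.coe_eq_coe.2 hperm, ← Multiset.coe_add, ← Multiset.coe_add, hFcm, hWm,
      Multiset.coe_replicate, hNval, Multiset.map_add, Multiset.map_add]
    congr 1
    refine Multiset.eq_replicate.2 ⟨?_, fun c hc => ?_⟩
    · have h1 := congrArg Multiset.card hys
      rw [Multiset.coe_card, Multiset.card_map, ← Finset.card_def, ← hyl] at h1
      rw [Multiset.card_map, ← Finset.card_def, hYsd, h1]
    · obtain ⟨θ', hθ', rfl⟩ := Multiset.mem_map.1 hc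
      exact L11.sameY_val hG hp11 hs hθ11 (Finset.mem_sdiff.1 hθ').1
  have hNd : dsq (namesE t B) = ord - 1 - 64009 := by
    rw [dsq_eq hNm, Finset.sum, show N.val.map (fun χ => deg χ * deg χ) =
      (N.val.map (cell s)).map fun c : Cell => c.1 * c.1 by rw [Multiset.map_map]; rfl, hNc]
    rfl
  have hNv : ∑ χ ∈ N, (deg χ : ℤ) * ival s χ = -3290 := by
    rw [Finset.sum, show N.val.map (fun χ => (deg χ : ℤ) * ival s χ) =
      (N.val.map (cell s)).map fun c : Cell => (c.1 : ℤ) * c.2 by rw [Multiset.map_map]; rfl, hNc]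
    rfl
  have hRsum : ∑ χ ∈ R, deg χ * deg χ = 64009 := by
    unfold ord at hNd hsq; omega
  have hlow : ∀ χ ∈ R, 64009 ≤ deg χ * deg χ := fun χ hχ => by
    have h1 := Nat.le_of_dvd (charDegree_pos χ) (hR253 χ hχ)
    exact le_trans (by norm_num) (Nat.mul_le_mul h1 h1)
  have hcard : R.card = 1 := by
    have h1 := Finset.card_nsmul_le_sum R _ 64009 hlow
    rw [hRsum, smul_eq_mul] at h1
    have h2 : R.card ≠ 0 := fun h => by
      rw [Finset.card_eq_zero.1 h, Finset.sum_empty] at hRsum
      norm_num at hRsum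
    omega
  obtain ⟨χ₁, hχ₁⟩ := Finset.card_eq_one.1 hcard
  have hdχ : deg χ₁ = 253 := by
    rw [hχ₁, Finset.sum_singleton] at hRsum
    exact Nat.mul_self_inj.1 hRsum
  have hs1 : s ≠ 1 := fun e => by simp [e] at hs
  have horth : ∑ χ : IrrCharacter G, (deg χ : ℤ) * ival s χ = 0 := by
    have h1 := sum_degree_mul_apply_of_ne_one hs1
    simp only [deg_cast, fun χ => (Local.ival_spec hG hs χ).1] at h1
    exact_mod_cast h1
  rw [hsum, deg_trivChar, ival_triv, hNv, hχ₁, Finset.sum_singleton, hdχ] at horth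
  rw [hsplit, Multiset.map_cons, Multiset.map_add, hNc, hχ₁, Finset.singleton_val,
    Multiset.map_singleton, cell, cell, deg_trivChar, ival_triv, hdχ,
    show ival s χ₁ = 13 by push_cast at horth; omega]
  rfl

omit [IsSimpleGroup G] in
theorem card_of_cells [Fintype (IrrCharacter G)] {s : G}
    (h : (Finset.univ : Finset (IrrCharacter G)).val.map (cell s) = (allCells : Multiset Cell)) :
    (Finset.univ.filter fun χ : IrrCharacter G => ¬ 7 ∣ deg χ).card = 10 := by
  have h1 : Multiset.card ((((Finset.univ : Finset (IrrCharacter G)).val.map (cell s)).filter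
      fun c : Cell => ¬ 7 ∣ c.1)) = 10 := by rw [h]; rfl
  rw [Multiset.filter_map, Multiset.card_map] at h1
  rw [Finset.card_def, Finset.filter_val]
  exact h1

/-- The complement for seven has order two. -/
theorem card_V_two [Fintype (IrrCharacter G)] (L : Local G 7) (L11 : Local G 11) (L23 : Local G 23)
    {s : G}
    (h : (Finset.univ : Finset (IrrCharacter G)).val.map (cell s) = (allCells : Multiset Cell)) :
    Nat.card L.V = 2 := by
  have : Fact (Nat.Prime 7) := ⟨by norm_num⟩
  obtain ⟨he, hcV, -⟩ := shape7 hG L L11 L23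
  refine hcV.resolve_right fun h16 => ?_
  have := Fintype.ofFinite L.P
  have := Fintype.ofFinite (IrrCharacter L.V)
  obtain ⟨M, hM⟩ := CfsgLib.ZStar.exists_isPModular (p := 7) (by norm_num)
  have : M.IsPrime := hM.2.1.isPrime
  have hset := L.setup
  have hrel : (Subgroup.centralizer (L.P : Set G)).relIndex
      (Subgroup.normalizer (L.P : Set G)) = 3 := by
    have h1 := Subgroup.relIndex_mul_relIndex ⊥ (Subgroup.centralizer (L.P : Set G))
      (Subgroup.normalizer (L.P : Set G)) bot_le (Blocks.centralizer_le_normalizer' L.P)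
    rw [Subgroup.relIndex_bot_left, Subgroup.relIndex_bot_left, L.card_normalizer,
      hset.card_centralizer, he, mul_comm (7 * Nat.card L.V)] at h1
    exact Nat.eq_of_mul_eq_mul_right (Nat.mul_pos (by norm_num) Nat.card_pos) h1
  have hm := hset.mul_card_pPrime hM
  have h10 : Nat.card {χ : IrrCharacter G // ¬ 7 ∣ charDegree (χ : G → ℂ)} = 10 := by
    rw [Nat.card_eq_fintype_card, Fintype.card_subtype]
    exact card_of_cells hG h
  rw [hrel, h10] at hm
  have h7 : ∀ η : IrrCharacter L.V, 7 ≤ hset.inertialIndex (η : L.V → ℂ) *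
      (hset.inertialIndex (η : L.V → ℂ) + (7 - 1) / hset.inertialIndex (η : L.V → ℂ)) := fun η => by
    have horb := hset.card_orbit_mul η
    rw [hrel] at horb
    rcases (Nat.dvd_prime (by norm_num : Nat.Prime 3)).1
      ⟨_, (mul_comm _ _).trans horb |>.symm⟩ with hi | hi <;> rw [hi] <;> norm_num
  have h4 := Finset.card_nsmul_le_sum (Finset.univ : Finset (IrrCharacter L.V)) _ 7 fun η _ => h7 η
  rw [← hm, Finset.card_univ, smul_eq_mul] at h4
  have hsq : ∑ η : IrrCharacter L.V, deg η * deg η = 16 := by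
    have h1 := sum_sq_degree (G := L.V)
    rw [h16] at h1
    simp only [deg_cast, sq] at h1
    exact_mod_cast h1
  rw [← Finset.add_sum_erase _ _ (Finset.mem_univ (trivChar L.V)), deg_trivChar] at hsq
  have hle : ∀ η ∈ (Finset.univ : Finset (IrrCharacter L.V)).erase (trivChar L.V),
      deg η * deg η ≤ 4 := fun η hη => by
    have h1 : deg η ∣ 16 := h16 ▸ charDegree_dvd_card η
    have h2 : deg η * deg η ≤ 15 :=
      le_trans (Finset.single_le_sum (f := fun ψ => deg ψ * deg ψ) (fun _ _ => Nat.zero_le _) hη)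
        (by omega)
    have h3 : deg η ≤ 3 := by
      by_contra hlt
      have := Nat.mul_le_mul (show 4 ≤ deg η by omega) (show 4 ≤ deg η by omega)
      omega
    have : deg η ≠ 3 := fun e => by rw [e] at h1; norm_num at h1
    exact Nat.mul_le_mul (show deg η ≤ 2 by omega) (show deg η ≤ 2 by omega)
  have h5 := Finset.sum_le_card_nsmul _ _ 4 hle
  rw [Finset.card_erase_of_mem (Finset.mem_univ _), Finset.card_univ, smul_eq_mul] at h5
  omega

end CfsgLib.Blocks.Order10200960
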