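import Cfsg.Agent.Lib.Blocks.Order10200960.Shape

/-!
# Completions of given characters to the principal block for eleven
-/

set_option autoImplicit false

namespace CfsgLib.Blocks.Order10200960

open Cfsg CfsgLib CfsgLib.Char CfsgLib.CharIntegral CfsgLib.Blocks.PrimeSylow
open CfsgLib.Blocks.Order95040 (deg cent deg_cast deg_trivChar deg_eq_finrank)
open CfsgLib.Blocks.Order443520 (one_lt_deg deg_dvd_card)
open scoped Classical ComplexConjugate

theorem pool11_spec : (degD.all fun d =>
    !((d % 11 == 1 || d % 11 == 10) && ord / (11 * 1) % d == 0) || pool11.contains d) = true := by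
  decide +kernel

theorem nodup_pool11 : pool11.Nodup := by decide +kernel

section Lists

variable {α : Type*}

theorem coe_filter_map {β : Type*} {T : Finset α} {f : α → β} {l : List β}
    (hl : (l : Multiset β) = T.val.map f) (q : β → Bool) :
    ((l.filter q : List β) : Multiset β) = (T.filter fun a => q (f a) = true).val.map f := by
  have e : l.filter q = l.filter fun d => decide (q d = true) :=
    List.filter_congr fun d _ => by cases q d <;> rfl
  rw [e, ← Multiset.filter_coe, hl, Multiset.filter_map, Finset.filter_val]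
  rfl

theorem val_split [DecidableEq α] (A T : Finset α) :
    A.val = (A.filter fun a => a ∈ T).val + (A \ T).val := by
  rw [Finset.sdiff_eq_filter, Finset.filter_val, Finset.filter_val, Multiset.filter_add_not]

end Lists

variable {G : Type*} [Group G] [Fintype G] [IsSimpleGroup G] (hG : Nat.card G = ord)
include hG

namespace Local

theorem mem_pool11 (L : Local G 11) (hV : Nat.card L.V = 1)
    (hD : ∀ χ : IrrCharacter G, χ ≠ trivChar G → deg χ ∈ degD) {χ : IrrCharacter G}
    (hχ : χ ∈ L.xs) : deg χ ∈ pool11 := by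
  have : Fact (Nat.Prime 11) := ⟨by norm_num⟩
  obtain ⟨hne, hX⟩ := Finset.mem_erase.1 hχ
  obtain ⟨h1, -, -⟩ := L.of_const hG (Or.inr (Or.inl rfl)) hne (L.data.sgnX χ hX)
    (L.data.valX χ hX)
  have h2 := List.all_eq_true.1 pool11_spec _ (hD χ hne)
  obtain ⟨-, hres⟩ := L.εX_eq (by norm_num) hX
  rw [hV] at h1
  simp only [Bool.or_eq_true, Bool.not_eq_true', Bool.and_eq_false_iff, Bool.or_eq_false_iff,
    beq_eq_false_iff_ne, List.contains_iff_mem] at h2
  rcases h2 with (h2 | h2) | h2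
  · omega
  · exact absurd h1 h2
  · exact h2

omit [IsSimpleGroup G] in
theorem filter_pm (L : Local G 11) (he : L.e = 5) (hV : Nat.card L.V = 1)
    {T : Finset (IrrCharacter G)} (hT : trivChar G ∉ T) :
    (T.filter fun χ => (deg χ % 11 == 1 || deg χ % 11 == 10) = true) =
        L.xs.filter (fun χ => χ ∈ T) ∧
      (T.filter fun χ => (deg χ % 11 == 5 || deg χ % 11 == 6) = true) =
        L.data.Y.filter fun χ => χ ∈ T := by
  have : Fact (Nat.Prime 11) := ⟨by norm_num⟩
  have key : ∀ χ ∈ T, ¬ 11 ∣ deg χ → χ ∈ L.nt := fun χ hχ h =>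
    (L.mem_nt_iff hV).2 ⟨fun e => hT (e ▸ hχ), h⟩
  have hxs : ∀ χ ∈ L.xs, deg χ % 11 = 1 ∨ deg χ % 11 = 10 := fun χ hχ =>
    (L.εX_eq (by norm_num) (Finset.mem_of_mem_erase hχ)).2
  have hY : ∀ χ ∈ L.data.Y, deg χ % 11 = 5 ∨ deg χ % 11 = 6 := fun χ hχ => by
    have h : χ ∈ L.nt := by rw [L.nt_eq]; exact Finset.mem_union_right _ hχ
    rcases L.residue (by norm_num) h with ⟨h1, -⟩ | ⟨-, h1⟩
    · exact absurd hχ (Finset.disjoint_left.1 L.disjoint_xs h1)
    · rw [he] at h1; omega
  constructor <;> ext χ <;>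
    simp only [Finset.mem_filter, Bool.or_eq_true, beq_iff_eq] <;> constructor
  · rintro ⟨hχ, hd⟩
    refine ⟨?_, hχ⟩
    rcases L.residue (by norm_num) (key χ hχ (by omega)) with ⟨h1, -⟩ | ⟨-, h1⟩
    · exact h1
    · rw [he] at h1; omega
  · exact fun h => ⟨h.2, hxs χ h.1⟩
  · rintro ⟨hχ, hd⟩
    refine ⟨?_, hχ⟩
    rcases L.residue (by norm_num) (key χ hχ (by omega)) with ⟨h1, h2⟩ | ⟨h1, -⟩
    · omega
    · exact h1
  · exact fun h => ⟨h.2, hY χ h.1⟩

/-- The completion is listed. -/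
theorem join_mem (L : Local G 11) (he : L.e = 5) (hV : Nat.card L.V = 1)
    (hD : ∀ χ : IrrCharacter G, χ ≠ trivChar G → deg χ ∈ degD)
    {T : Finset (IrrCharacter G)} (hT : trivChar G ∉ T) {l : List ℕ}
    (hl : (l : Multiset ℕ) = T.val.map deg) {pool : List ℕ} (hnd : pool.Nodup)
    (hpool : ∀ χ ∈ L.xs \ T, deg χ ∈ pool) {θ : IrrCharacter G} (hθ : θ ∈ L.data.Y) :
    ∃ B ∈ join11 l pool, (flat B : Multiset ℕ) = (L.xs \ T).val.map deg ∧
      (B.map Prod.fst).Nodup ∧
      ((pmEl l ++ flat B : List ℕ) : Multiset ℕ) = L.xs.val.map deg ∧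
      (yEl l).length = (L.data.Y.filter fun χ => χ ∈ T).card ∧
      ((pmEl l : List ℕ) : Multiset ℕ) = (L.xs.filter fun χ => χ ∈ T).val.map deg := by
  have : Fact (Nat.Prime 11) := ⟨by norm_num⟩
  obtain ⟨hpmT, hyT⟩ := L.filter_pm hG he hV hT
  have hpm : ((pmEl l : List ℕ) : Multiset ℕ) = (L.xs.filter fun χ => χ ∈ T).val.map deg := by
    rw [pmEl, coe_filter_map hl, hpmT]
  have hy : ((yEl l : List ℕ) : Multiset ℕ) = (L.data.Y.filter fun χ => χ ∈ T).val.map deg := by
    rw [yEl, coe_filter_map hl, hyT]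
  have hpml : (pmEl l).length = (L.xs.filter fun χ => χ ∈ T).card := by
    have := congrArg Multiset.card hpm
    rwa [Multiset.coe_card, Multiset.card_map] at this
  have hyl : (yEl l).length = (L.data.Y.filter fun χ => χ ∈ T).card := by
    have := congrArg Multiset.card hy
    rwa [Multiset.coe_card, Multiset.card_map] at this
  have hx4 : L.xs.card = 4 := by rw [L.card_xs, he]
  have hY2 : L.data.Y.card = 2 := by rw [L.cardY_eq (by norm_num), he]
  have hle1 := L.xs.card_filter_le fun χ => χ ∈ T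
  have hle2 := L.data.Y.card_filter_le fun χ => χ ∈ T
  have hsplit : L.xs.card = (L.xs.filter fun χ => χ ∈ T).card + (L.xs \ T).card := by
    have := congrArg Multiset.card (val_split L.xs T)
    rw [Multiset.card_add] at this
    exact this
  have hsplitY : L.data.Y.card = (L.data.Y.filter fun χ => χ ∈ T).card + (L.data.Y \ T).card := by
    have := congrArg Multiset.card (val_split L.data.Y T)
    rw [Multiset.card_add] at this
    exact this
  have htriv : trivChar G ∉ T ∪ (L.xs \ T) ∪ (L.data.Y \ T) := by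
    simp only [Finset.mem_union, Finset.mem_sdiff, not_or, not_and]
    exact ⟨⟨hT, fun h => absurd h (Finset.notMem_erase _ _)⟩, fun h => absurd h L.triv_notMem_Y⟩
  have hbud := sum_deg_le hG htriv
  rw [Finset.sum_union (Finset.disjoint_union_left.2
      ⟨Finset.disjoint_sdiff, Finset.disjoint_of_subset_left Finset.sdiff_subset
        (Finset.disjoint_of_subset_right Finset.sdiff_subset L.disjoint_xs)⟩),
    Finset.sum_union Finset.disjoint_sdiff,
    Finset.sum_congr (s₁ := L.data.Y \ T) rfl fun θ' hθ' => by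
      rw [L.deg_Y hθ (Finset.mem_sdiff.1 hθ').1],
    Finset.sum_const, smul_eq_mul, ← dsq_eq hl] at hbud
  obtain ⟨B, hB, hBm⟩ := combos_sound (mn := fun _ => 0) hnd
    (k := 4 - (pmEl l).length) (B := ord - 1 - dsq l) (B' := 0) ((L.xs \ T).val.map deg)
    (fun d hd => by
      obtain ⟨χ, hχ, rfl⟩ := Multiset.mem_map.1 hd
      exact hpool χ hχ)
    (by rw [Multiset.card_map, ← Finset.card_def]; omega)
    (by rw [Multiset.map_map]
        simp only [Finset.sum] at hbud
        simp only [Function.comp_def]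
        omega)
    (by simp)
  have hall : ((pmEl l ++ flat B : List ℕ) : Multiset ℕ) = L.xs.val.map deg := by
    rw [← Multiset.coe_add, hpm, hBm, ← Multiset.map_add, ← val_split]
  obtain ⟨hS, hε, hy'⟩ := L.dsum_xs (by norm_num) hθ hall
  refine ⟨B, ?_, hBm, (combos_runs hnd hB).1, hall, hyl, hpm⟩
  unfold join11
  rw [if_pos (by simp only [Bool.and_eq_true, decide_eq_true_eq]; omega)]
  refine List.mem_filter.2 ⟨hB, ?_⟩
  simp only [hy', hε, Bool.and_eq_true, decide_eq_true_eq, beq_iff_eq, List.all_eq_true,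
    List.contains_iff_mem]
  refine ⟨⟨⟨?_, fun d hd => ?_⟩, ?_⟩, hD θ fun e => L.triv_notMem_Y (e ▸ hθ)⟩
  · have h1 := L.data.modY θ hθ
    have h2 : ((L.e : ℕ) : ℤ) = 5 := by rw [he]; rfl
    simp only [h2] at h1
    exact Int.emod_eq_zero_of_dvd (by simpa using Int.modEq_iff_dvd.1 h1.symm)
  · rw [← Multiset.mem_coe, hy] at hd
    obtain ⟨θ', hθ', rfl⟩ := Multiset.mem_map.1 hd
    exact L.deg_Y hθ (Finset.mem_filter.1 hθ').1
  · rw [dsq_eq hBm]
    have : 2 - (yEl l).length = (L.data.Y \ T).card := by omega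
    rw [this, add_assoc, add_assoc]
    exact le_trans (le_of_eq (by ring)) hbud

/-- The column fits. -/
theorem fit_true [Fintype (IrrCharacter G)] (L : Local G 11) (he : L.e = 5)
    (hV : Nat.card L.V = 1) {s : G} (hs : orderOf s = 2) {θ : IrrCharacter G}
    (hθ : θ ∈ L.data.Y) {a : List Cell} (ha : (a : Multiset Cell) = L.xs.val.map (cell s))
    {ys : List Cell} {Y' : Finset (IrrCharacter G)} (hY' : Y' ⊆ L.data.Y)
    (hys : (ys : Multiset Cell) = Y'.val.map (cell s)) {U : Finset (IrrCharacter G)}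
    (hU : trivChar G ∉ U) (hdisj : ∀ χ ∈ U, χ ∈ L.data.Y → χ ∈ Y') {used : ℕ}
    (hused : used ≤ 1 + ∑ χ ∈ U, (ival s χ).natAbs * (ival s χ).natAbs) :
    fit11 (cent s) a ys used = true := by
  have : Fact (Nat.Prime 11) := ⟨by norm_num⟩
  have hp : (11 : ℕ) = 7 ∨ (11 : ℕ) = 11 ∨ (11 : ℕ) = 23 := Or.inr (Or.inl rfl)
  have hθne : θ ≠ trivChar G := fun e => L.triv_notMem_Y (e ▸ hθ)
  obtain ⟨hS, hε, hy⟩ := L.dsum_xs (by norm_num) hθ (map_fst ha)
  have hw : L.data.ε * vsum 11 a = ival s θ := by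
    rw [vsum_eq 11 ha, ← L.val_sum hG hp hs hθ, ← mul_assoc]
    rcases L.data.sgnY with h | h <;> simp [h]
  have hY2 : L.data.Y.card = 2 := by rw [L.cardY_eq (by norm_num), he]
  have hyl : ys.length = Y'.card := by
    have := congrArg Multiset.card hys
    rwa [Multiset.coe_card, Multiset.card_map] at this
  simp only [fit11, hy, hε, hw, Bool.and_eq_true, decide_eq_true_eq, beq_iff_eq, List.all_eq_true]
  refine ⟨⟨⟨okv_cell hG hs hθne, fun t ht => ?_⟩, ?_⟩, ?_⟩
  · rw [← Multiset.mem_coe, hys] at ht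
    obtain ⟨θ', hθ', rfl⟩ := Multiset.mem_map.1 ht
    exact congrArg Prod.snd (L.sameY_val hG hp hs hθ (hY' hθ'))
  · have htriv : trivChar G ∉ U ∪ (L.data.Y \ Y') := by
      simp only [Finset.mem_union, Finset.mem_sdiff, not_or, not_and]
      exact ⟨hU, fun h => absurd h L.triv_notMem_Y⟩
    have hbud := sum_sq_le hG hs htriv
    rw [Finset.sum_union (Finset.disjoint_left.2 fun χ hχ h =>
        (Finset.mem_sdiff.1 h).2 (hdisj χ hχ (Finset.mem_sdiff.1 h).1)),
      Finset.sum_congr (s₁ := L.data.Y \ Y') rfl fun θ' hθ' => by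
        rw [show ival s θ' = ival s θ from
          congrArg Prod.snd (L.sameY_val hG hp hs hθ (Finset.mem_sdiff.1 hθ').1)],
      Finset.sum_const, smul_eq_mul, Finset.card_sdiff_of_subset hY', hY2, ← hyl] at hbud
    omega
  · obtain ⟨j, -, hj0, h⟩ := L.pairs_int hG hp hs hθ
    rw [hj0 (by rw [he]; decide), ← qsum_eq 11 ha, hV] at h
    simp only [Nat.cast_zero, mul_zero, zero_mul, Nat.cast_one, one_mul, mul_eq_zero, or_self] at h
    refine h.resolve_left fun h0 => ?_
    have h1 := cent_mul_index hG s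
    have h2 : 0 < ord / cent s := Nat.div_pos (Nat.le_of_dvd (by norm_num [ord]) (cent_dvd hG s))
      Nat.card_pos
    omega

/-- The cells of given degrees in a set are listed. -/
theorem vals_mem {s : G} (hs : orderOf s = 2) {S : Finset (IrrCharacter G)}
    (hS : trivChar G ∉ S) {B : List Run} (hnd : (B.map Prod.fst).Nodup)
    (hB : (flat B : Multiset ℕ) = S.val.map deg) {vs : ℕ → List ℤ}
    (hvs : ∀ χ ∈ S, ival s χ ∈ vs (deg χ)) {Bd : ℕ}
    (hBd : ∑ χ ∈ S, (ival s χ).natAbs * (ival s χ).natAbs ≤ Bd) :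
    ∃ W ∈ vals vs B Bd, (W : Multiset Cell) = S.val.map (cell s) := by
  refine vals_sound hnd _ (fun t ht => ?_) ?_ ?_
  · obtain ⟨χ, hχ, rfl⟩ := Multiset.mem_map.1 ht
    exact hvs χ hχ
  · rw [Multiset.map_map, hB]; rfl
  · rw [Multiset.map_map]
    simp only [Finset.sum] at hBd
    simpa [Function.comp_def, cell] using hBd

theorem ival_valsAt {s : G} (hs : orderOf s = 2) {χ : IrrCharacter G} (hne : χ ≠ trivChar G) :
    ival s χ ∈ valsAt (cent s) (deg χ) :=
  mem_valsAt (cent_le hG fun e => by simp [e] at hs) (okv_cell hG hs hne)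

theorem ival_valsFree {s : G} (hs : orderOf s = 2) {χ : IrrCharacter G} (hne : χ ≠ trivChar G) :
    ival s χ ∈ valsFree (deg χ) := by
  obtain ⟨-, h4, hlt⟩ := ival_spec hG hs χ
  exact mem_window h4 (by have := hlt hne; omega)

end Local

end CfsgLib.Blocks.Order10200960
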