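import Cfsg.Agent.Lib.Blocks.Order10200960.Parity
import Mathlib.Analysis.SpecialFunctions.Complex.CircleAddChar
import Mathlib.NumberTheory.LegendreSymbol.AddCharacter
import Mathlib.LinearAlgebra.Trace
import Mathlib.LinearAlgebra.Matrix.NonsingularInverse

/-!
# An idempotent of rank one from the normalizer of a Sylow subgroup of order 23

The Gauss period weights on the cyclic group of order 23 times the average over an element of
order eleven give an idempotent of trace one in the representation of degree 22.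
-/

set_option autoImplicit false

namespace CfsgLib.Blocks.Order10200960

open Cfsg CfsgLib CfsgLib.Char CfsgLib.CharIntegral CfsgLib.Blocks.PrimeSylow
open CfsgLib.Blocks.Order95040 (deg cent deg_cast deg_trivChar deg_eq_finrank)
open CfsgLib.Blocks.Order443520 (val_of_conj)
open scoped Classical ComplexConjugate

instance fact_prime_twentyThree : Fact (Nat.Prime 23) := ⟨by norm_num⟩
instance fact_prime_eleven : Fact (Nat.Prime 11) := ⟨by norm_num⟩

variable {G : Type*} [Group G]

/-- The powers of an element, indexed by residues. -/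
def pw (g : G) {n : ℕ} (i : ZMod n) : G := g ^ i.val

theorem pw_cast {g : G} {n : ℕ} [NeZero n] (hg : g ^ n = 1) (m : ℕ) :
    pw g (m : ZMod n) = g ^ m := by
  rw [pw, ZMod.val_natCast, ← pow_eq_pow_mod m hg]

theorem pw_zero (g : G) {n : ℕ} : pw g (0 : ZMod n) = 1 := by rw [pw, ZMod.val_zero, pow_zero]

theorem pw_add {g : G} {n : ℕ} [NeZero n] (hg : g ^ n = 1) (a b : ZMod n) :
    pw g (a + b) = pw g a * pw g b := by
  rw [pw, ZMod.val_add, ← pow_eq_pow_mod _ hg, pow_add]
  rfl

theorem pw_neg {g : G} {n : ℕ} [NeZero n] (hg : g ^ n = 1) (a : ZMod n) :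
    pw g (-a) = (pw g a)⁻¹ := by
  refine eq_inv_of_mul_eq_one_left ?_
  rw [← pw_add hg, neg_add_cancel, pw_zero]

theorem orderOf_pw {g : G} {p : ℕ} [Fact p.Prime] (hg : orderOf g = p) {i : ZMod p} (hi : i ≠ 0) :
    orderOf (pw g i) = p := by
  have h1 : g ^ p = 1 := by rw [← hg]; exact pow_orderOf_eq_one g
  refine orderOf_eq_prime (by rw [pw, pow_right_comm, h1, one_pow]) ?_
  intro e
  have h := orderOf_dvd_of_pow_eq_one e
  rw [hg] at h
  exact hi ((ZMod.val_eq_zero i).1 (Nat.eq_zero_of_dvd_of_lt h (ZMod.val_lt i)))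

/-- An element normalizing as the doubling moves the powers as the doubling. -/
theorem pw_conj {z h : G} (hz : z ^ 23 = 1) (hc : h * z * h⁻¹ = z ^ 2) (j : ZMod 11)
    (i : ZMod 23) : pw h j * pw z i = pw z (2 ^ j.val * i) * pw h j := by
  have key : ∀ k m : ℕ, h ^ k * z ^ m = z ^ (2 ^ k * m) * h ^ k := by
    intro k
    induction k with
    | zero => intro m; simp
    | succ k ih =>
      intro m
      have h1 : h * z ^ (2 ^ k * m) = z ^ (2 * (2 ^ k * m)) * h := by
        rw [pow_mul z 2, ← hc, conj_pow, inv_mul_cancel_right]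
      rw [pow_succ', mul_assoc, ih, ← mul_assoc, h1, mul_assoc, pow_succ' 2 k, mul_assoc]
  rw [show (2 : ZMod 23) ^ j.val * i = ((2 ^ j.val * i.val : ℕ) : ZMod 23) by
    push_cast; rw [ZMod.natCast_zmod_val], pw_cast hz]
  exact key _ _

theorem two_pow_ne_zero (k : ℕ) : (2 : ZMod 23) ^ k ≠ 0 := pow_ne_zero k (by decide)

theorem two_pow_ne_one : ∀ j : ZMod 11, j ≠ 0 → (2 : ZMod 23) ^ j.val ≠ 1 := by decide +kernel

/-- The squares modulo 23. -/
def squares : Finset (ZMod 23) := {1, 2, 3, 4, 6, 8, 9, 12, 13, 16, 18}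

theorem squares_two : squares.image (fun a => a * 2) = squares := by decide +kernel

theorem squares_card : squares.card = 11 := by decide +kernel

theorem squares_ne_zero : ∀ a ∈ squares, a ≠ 0 := by decide +kernel

/-- The Gauss periods. -/
noncomputable def eta (i : ZMod 23) : ℂ := ∑ a ∈ squares, ZMod.stdAddChar (a * i)

theorem eta_zero : eta 0 = 11 := by
  simp [eta, squares_card]

theorem eta_two (i : ZMod 23) : eta (2 * i) = eta i := by
  conv_rhs => rw [eta, ← squares_two]
  rw [Finset.sum_image fun a _ b _ e => mul_right_cancel₀ (by decide) e, eta]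
  exact Finset.sum_congr rfl fun a _ => by rw [mul_assoc]

theorem eta_pow (k : ℕ) (i : ZMod 23) : eta (2 ^ k * i) = eta i := by
  induction k with
  | zero => simp
  | succ k ih => rw [pow_succ', mul_assoc, eta_two, ih]

theorem sum_char (b : ZMod 23) :
    ∑ x : ZMod 23, ZMod.stdAddChar (x * b) = if b = 0 then (23 : ℂ) else 0 := by
  rw [AddChar.sum_mulShift b (ZMod.isPrimitive_stdAddChar 23)]
  split_ifs <;> simp

theorem sum_eta : ∑ i : ZMod 23, eta i = 0 := by
  simp only [eta]
  rw [Finset.sum_comm]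
  refine Finset.sum_eq_zero fun a ha => ?_
  rw [show ∑ i : ZMod 23, ZMod.stdAddChar (a * i) = ∑ i : ZMod 23, ZMod.stdAddChar (i * a) from
    Finset.sum_congr rfl fun i _ => by rw [mul_comm], sum_char, if_neg (squares_ne_zero a ha)]

theorem eta_conv (m : ZMod 23) : ∑ i : ZMod 23, eta i * eta (m - i) = 23 * eta m := by
  simp only [eta]
  rw [Finset.mul_sum]
  simp only [Finset.sum_mul_sum]
  rw [Finset.sum_comm]
  refine Finset.sum_congr rfl fun a ha => ?_
  rw [Finset.sum_comm]
  have key : ∀ b, ∑ i : ZMod 23, ZMod.stdAddChar (a * i) * ZMod.stdAddChar (b * (m - i)) =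
      ZMod.stdAddChar (b * m) * if a - b = 0 then (23 : ℂ) else 0 := fun b => by
    rw [← sum_char, Finset.mul_sum]
    refine Finset.sum_congr rfl fun i _ => ?_
    rw [← AddChar.map_add_eq_mul, ← AddChar.map_add_eq_mul]
    congr 1
    ring
  simp only [key, sub_eq_zero, mul_ite, mul_zero]
  rw [Finset.sum_ite_eq squares a, if_pos ha, mul_comm]

theorem eta_isIntegral (i : ZMod 23) : IsIntegral ℤ (eta i) := by
  refine IsIntegral.sum _ fun a _ => IsIntegral.of_pow (n := 23) (by norm_num) ?_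
  have h : (23 : ℕ) • (a * i) = 0 := by
    rw [nsmul_eq_mul, show ((23 : ℕ) : ZMod 23) = 0 from ZMod.natCast_self 23, zero_mul]
  rw [← AddChar.map_nsmul_eq_pow, h, AddChar.map_zero_eq_one]
  exact isIntegral_one

theorem eta_mem {M : Ideal AlgInt} [M.IsPrime] (i : ZMod 23) : eta i ∈ localRing M :=
  mem_localRing_of_isIntegral (eta_isIntegral i)

/-- The periods are zero or one modulo two. -/
theorem rv_eta {M : Ideal AlgInt} [M.IsPrime] (hM : IsPModular 2 M) (i : ZMod 23) :
    rv M (eta i) = 0 ∨ rv M (eta i) = 1 := by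
  have : CharP (Res M) 2 := charP_residueField hM
  have hm : ∀ x : ZMod 23, ZMod.stdAddChar x ∈ localRing M := fun x => by
    refine mem_localRing_of_pow_eq_one (n := 23) (by norm_num) ?_
    rw [← AddChar.map_nsmul_eq_pow, nsmul_eq_mul,
      show ((23 : ℕ) : ZMod 23) = 0 from ZMod.natCast_self 23, zero_mul, AddChar.map_zero_eq_one]
  have h : rv M (eta i) ^ 2 = rv M (eta i) := by
    conv_rhs => rw [← eta_two i]
    simp only [eta]
    rw [rv_sum _ _ fun a _ => hm _, rv_sum _ _ fun a _ => hm _, sum_pow_char 2]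
    refine Finset.sum_congr rfl fun a _ => ?_
    rw [pow_two, ← rv_mul (hm _) (hm _), ← AddChar.map_add_eq_mul]
    congr 2
    ring
  rcases eq_or_ne (rv M (eta i)) 0 with h0 | h0
  · exact Or.inl h0
  · exact Or.inr (mul_right_cancel₀ h0 (by rw [← pow_two, one_mul, h]))

variable [Fintype G] [Fintype (IrrCharacter G)]

/-- A normalized pair of orders 23 and 11. -/
theorem exists_frob [IsSimpleGroup G] (hG : Nat.card G = ord) (T : Tbl G) :
    ∃ z h : G, orderOf z = 23 ∧ orderOf h = 11 ∧ h * z * h⁻¹ = z ^ 2 := by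
  obtain ⟨z, hzP, hz1⟩ := Local.exists_mem_P hG T.L23
  have hz : orderOf z = 23 :=
    orderOf_eq_prime (T.L23.setup.pow_eq_one hzP) hz1
  set N := Subgroup.normalizer (T.L23.P : Set G) with hN
  obtain ⟨n, hn⟩ := exists_prime_orderOf_dvd_card' (G := N) 11
    (by rw [hN, T.L23.card_normalizer, T.e23]; exact dvd_mul_right 11 _)
  have hno : orderOf (n : G) = 11 := by rw [Subgroup.orderOf_coe, hn]
  have hnz : (n : G) * z * (n : G)⁻¹ ∈ T.L23.P := (Subgroup.mem_normalizer_iff.1 n.2 z).1 hzP
  obtain ⟨k, hk⟩ : ∃ k : ℕ, k < 23 ∧ (n : G) * z * (n : G)⁻¹ = z ^ k := by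
    have hP : Subgroup.zpowers z = T.L23.P := Subgroup.eq_of_le_of_card_ge
      (Subgroup.zpowers_le.2 hzP) (le_of_eq (by rw [T.L23.setup.card, Nat.card_zpowers, hz]))
    rw [← hP, mem_zpowers_iff_mem_range_orderOf, Finset.mem_image] at hnz
    obtain ⟨k, hk, he⟩ := hnz
    exact ⟨k, by rw [← hz]; exact Finset.mem_range.1 hk, he.symm⟩
  obtain ⟨hklt, hk⟩ := hk
  have hit : ∀ j : ℕ, (n : G) ^ j * z * ((n : G) ^ j)⁻¹ = z ^ (k ^ j) := by
    intro j
    induction j with
    | zero => simp
    | succ j ih =>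
      rw [pow_succ' (n : G) j, show (n : G) * (n : G) ^ j * z * ((n : G) * (n : G) ^ j)⁻¹ =
        (n : G) * ((n : G) ^ j * z * ((n : G) ^ j)⁻¹) * (n : G)⁻¹ by group, ih, ← conj_pow, hk,
        ← pow_mul, pow_succ']
  have h11 : k ^ 11 % 23 = 1 := by
    have h := hit 11
    rw [show (n : G) ^ 11 = 1 by rw [← hno, pow_orderOf_eq_one], one_mul, inv_one, mul_one] at h
    have h2 : z ^ (k ^ 11) = z ^ 1 := by rw [pow_one, ← h]
    rw [pow_eq_pow_iff_modEq, hz] at h2
    exact h2
  have hk1 : k ≠ 1 := fun e => by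
    rw [e, pow_one, mul_inv_eq_iff_eq_mul] at hk
    have h : orderOf (n : G) ∣ cent z :=
      Subgroup.orderOf_dvd_natCard _ (Subgroup.mem_centralizer_singleton_iff.2 hk)
    rw [hno, (cent_prime hG T).2.2 hz] at h
    norm_num at h
  have hall : ∀ k < 23, k ^ 11 % 23 = 1 → k ≠ 1 → ∃ j < 11, k ^ j % 23 = 2 := by decide +kernel
  obtain ⟨j, hj, hj2⟩ := hall k hklt h11 hk1
  refine ⟨z, (n : G) ^ j, hz, ?_, ?_⟩
  · have hj0 : j ≠ 0 := fun e => by simp [e] at hj2
    rw [Nat.Coprime.orderOf_pow, hno]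
    rw [hno]
    exact (by norm_num : Nat.Prime 11).coprime_iff_not_dvd.2
      (Nat.not_dvd_of_pos_of_lt (Nat.pos_of_ne_zero hj0) hj)
  · rw [hit, pow_eq_pow_iff_modEq, hz]
    exact hj2

/-- The functions the idempotent of rank one gives. -/
structure Coeff (χ : G → ℂ) (z h : G) (c : G → ℂ) : Prop where
  one : c 1 = 1
  eq : ∀ g, c g = (253 : ℂ)⁻¹ *
    ∑ i : ZMod 23, ∑ j : ZMod 11, eta i * χ (g * pw z i * pw h j)
  mul : ∀ x a, c a * c x = (253 : ℂ)⁻¹ *
    ∑ i : ZMod 23, ∑ j : ZMod 11, eta i * c (x * (pw z i * pw h j) * a)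
  sum_zero : ∀ x a, ∑ i : ZMod 23, c (x * pw z i * a) = 0
  le : ∀ {d : ℕ} (x a : Fin d → G), (Matrix.of fun k l => c (x k * a l)).det ≠ 0 → d ≤ 22
  trace : ∀ (x a : Fin 22 → G), (Matrix.of fun k l => c (x k * a l)).det ≠ 0 → ∀ g,
    ((Matrix.of fun k l => c (x k * a l)).adjugate *
        Matrix.of fun k l => c (x k * g * a l)).trace =
      (Matrix.of fun k l => c (x k * a l)).det * χ g

variable [IsSimpleGroup G] (hG : Nat.card G = ord) (T : Tbl G)
include hG

/-- The coefficient function exists. -/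
theorem exists_coeff {z h : G} (hz : orderOf z = 23) (hh : orderOf h = 11)
    (hc : h * z * h⁻¹ = z ^ 2) : ∃ c : G → ℂ, Coeff (T.c22 : G → ℂ) z h c := by
  have hz23 : z ^ 23 = 1 := hz ▸ pow_orderOf_eq_one z
  have hh11 : h ^ 11 = 1 := hh ▸ pow_orderOf_eq_one h
  have d22 : deg T.c22 = 22 := T.degs.2.1
  have hne : T.c22 ≠ trivChar G := fun e => by rw [e, deg_trivChar] at d22; norm_num at d22
  obtain ⟨n, ρ, -, hρc⟩ := T.c22.2
  have hn : Module.finrank ℂ (Fin n → ℂ) = 22 := by
    rw [Module.finrank_fin_fun]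
    exact (deg_eq_finrank hρc.symm).symm.trans d22
  set V := Fin n → ℂ
  have htr : ∀ g, LinearMap.trace ℂ V (ρ g) = (T.c22 : G → ℂ) g := fun g => by rw [← hρc]; rfl
  set P := pw z (n := 23)
  set H := pw h (n := 11)
  set A : Module.End ℂ V := (23 : ℂ)⁻¹ • ∑ i : ZMod 23, eta i • ρ (P i) with hA
  set B : Module.End ℂ V := (11 : ℂ)⁻¹ • ∑ j : ZMod 11, ρ (H j) with hB
  set S : Module.End ℂ V := ∑ i : ZMod 23, ρ (P i) with hS
  set E : Module.End ℂ V := A * B with hE
  have hshift : ∀ i, ∑ j : ZMod 23, ρ (P (i + j)) = S := fun i =>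
    Equiv.sum_comp (Equiv.addLeft i) fun m => ρ (P m)
  have hAA : A * A = A := by
    rw [hA, smul_mul_smul_comm, Finset.sum_mul_sum]
    simp only [smul_mul_smul_comm, ← map_mul, P, ← pw_add hz23]
    rw [Finset.sum_congr rfl fun i _ => (Equiv.sum_comp (Equiv.subRight i) fun j =>
        (eta i * eta j) • ρ (pw z (i + j))).symm, Finset.sum_comm]
    simp only [Equiv.subRight_apply, add_sub_cancel, ← Finset.sum_smul, eta_conv, Finset.smul_sum,
      smul_smul]
    exact Finset.sum_congr rfl fun i _ => by congr 1; ring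
  have hBB : B * B = B := by
    have hj : ∀ i, ∑ j : ZMod 11, ρ (H (i + j)) = ∑ j : ZMod 11, ρ (H j) := fun i =>
      Equiv.sum_comp (Equiv.addLeft i) fun m => ρ (H m)
    rw [hB, smul_mul_smul_comm, Finset.sum_mul_sum]
    simp only [← map_mul, H, ← pw_add hh11]
    simp only [H] at hj
    rw [Finset.sum_congr rfl fun i _ => hj i, Finset.sum_const, Finset.card_univ, ZMod.card,
      ← Nat.cast_smul_eq_nsmul ℂ, smul_smul]
    norm_num
  have hprod : A * B =
      (253 : ℂ)⁻¹ • ∑ i : ZMod 23, ∑ j : ZMod 11, eta i • ρ (P i * H j) := by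
    rw [hA, hB, smul_mul_smul_comm, Finset.sum_mul_sum]
    simp only [smul_mul_assoc, ← map_mul]
    norm_num
  have hBA : B * A = A * B := by
    rw [hprod, hA, hB, smul_mul_smul_comm, Finset.sum_mul_sum, Finset.sum_comm (γ := ZMod 23)]
    simp only [mul_smul_comm, ← map_mul, P, H, pw_conj hz23 hc]
    rw [show ((11 : ℂ)⁻¹ * (23 : ℂ)⁻¹) = (253 : ℂ)⁻¹ by norm_num]
    congr 1
    refine Finset.sum_congr rfl fun j _ => ?_
    exact Fintype.sum_bijective _ (mulLeft_bijective₀ _ (two_pow_ne_zero j.val)) _ _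
      fun i => by rw [eta_pow]
  have hEE : E * E = E := by
    rw [hE, mul_assoc, ← mul_assoc B, hBA, mul_assoc A B, hBB, ← mul_assoc, hAA]
  have hχ : ∀ (i : ZMod 23) (j : ZMod 11), (T.c22 : G → ℂ) (P i * H j) =
      if j = 0 then (if i = 0 then 22 else -1) else 0 := fun i j => by
    split_ifs with hj hi
    · rw [hj, hi]
      simp only [P, H, pw_zero, mul_one]
      rw [deg_cast, d22, Nat.cast_ofNat]
    · rw [hj]
      simp only [P, H, pw_zero, mul_one]
      rw [val23 hG T hne (by omega) (orderOf_pw hz hi), d22]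
      norm_num [sgn]
    · obtain ⟨w, hw⟩ : ∃ w : ZMod 23, w - 2 ^ j.val * w = i :=
        ⟨i / (1 - 2 ^ j.val), by
          rw [show i / (1 - 2 ^ j.val) - 2 ^ j.val * (i / (1 - 2 ^ j.val)) =
            i / (1 - 2 ^ j.val) * (1 - 2 ^ j.val) by ring,
            div_mul_cancel₀ _ (sub_ne_zero.2 (two_pow_ne_one j hj).symm)]⟩
      have hcj : IsConj (pw h j) (P i * H j) := isConj_iff.2 ⟨pw z w, by
        rw [← pw_neg hz23, mul_assoc, pw_conj hz23 hc, ← mul_assoc, ← pw_add hz23, mul_neg,
          ← sub_eq_add_neg, hw]⟩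
      rw [← val_of_conj (χ := T.c22) hcj]
      exact vanish_one hG (Or.inr (Or.inl rfl)) (by rw [d22]; norm_num)
        (by rw [orderOf_pw hh hj])
  have hE1 : LinearMap.trace ℂ V E = 1 := by
    rw [hE, hprod, map_smul, map_sum]
    simp only [map_sum, map_smul, htr, hχ, smul_eq_mul, mul_ite, mul_zero, Finset.sum_ite_eq',
      Finset.mem_univ, if_true]
    have h1 : (∑ i : ZMod 23, if i = 0 then eta i * 22 else eta i * -1) =
        eta 0 * 23 - ∑ i : ZMod 23, eta i := by
      rw [eq_sub_iff_add_eq, ← Finset.sum_add_distrib]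
      rw [Finset.sum_eq_single (0 : ZMod 23) (fun b _ hb => by rw [if_neg hb]; ring)
        (fun h => absurd (Finset.mem_univ _) h), if_pos rfl]
      ring
    rw [h1, sum_eta, eta_zero]
    norm_num
  have hr1 : Module.finrank ℂ (LinearMap.range E) = 1 := by
    have h := (LinearMap.IsIdempotentElem.isProj_range E hEE).trace
    rw [hE1] at h
    exact_mod_cast h.symm
  have hS0 : S = 0 := by
    have hSS : ((23 : ℂ)⁻¹ • S) * ((23 : ℂ)⁻¹ • S) = (23 : ℂ)⁻¹ • S := by
      rw [smul_mul_smul_comm, hS, Finset.sum_mul_sum]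
      simp only [← map_mul, P, ← pw_add hz23]
      simp only [P] at hshift
      rw [Finset.sum_congr rfl fun i _ => hshift i, Finset.sum_const, Finset.card_univ, ZMod.card,
        ← Nat.cast_smul_eq_nsmul ℂ, smul_smul, hS]
      norm_num
      rfl
    have htr0 : LinearMap.trace ℂ V ((23 : ℂ)⁻¹ • S) = 0 := by
      rw [map_smul, hS, map_sum, Finset.sum_congr rfl fun i _ => htr (P i),
        Finset.sum_congr rfl fun i _ => show (T.c22 : G → ℂ) (P i) =
          if i = 0 then 22 else -1 by
            have e := hχ i 0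
            simp only [H, pw_zero, mul_one] at e
            exact e]
      have h1 : (∑ i : ZMod 23, if i = 0 then (22 : ℂ) else -1) = 0 := by
        rw [Finset.sum_ite, Finset.sum_const, Finset.sum_const, Finset.filter_eq', if_pos
          (Finset.mem_univ _), Finset.card_singleton, Finset.filter_ne',
          Finset.card_erase_of_mem (Finset.mem_univ _), Finset.card_univ, ZMod.card]
        norm_num
      rw [h1, smul_zero]
    have h := (LinearMap.IsIdempotentElem.isProj_range _ hSS).trace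
    rw [htr0] at h
    have h' : Module.finrank ℂ (LinearMap.range ((23 : ℂ)⁻¹ • S)) = 0 := by exact_mod_cast h.symm
    have h'' := LinearMap.range_eq_bot.1 (Submodule.finrank_eq_zero.1 h')
    exact (smul_eq_zero.1 h'').resolve_left (by norm_num)
  obtain ⟨w, hw0, hw⟩ := finrank_eq_one_iff'.1 hr1
  obtain ⟨φ, hφ⟩ := Module.Projective.exists_dual_ne_zero ℂ
    (show (w : V) ≠ 0 from fun e => hw0 (Subtype.ext e))
  set w0 : V := w.1
  set f0 : V →ₗ[ℂ] ℂ := (φ w0)⁻¹ • (φ ∘ₗ E) with hf0
  have hEv : ∀ v, E v = f0 v • w0 := fun v => by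
    obtain ⟨c, hc'⟩ := hw ⟨E v, LinearMap.mem_range_self E v⟩
    have h1 : c • w0 = E v := congrArg Subtype.val hc'
    rw [hf0, LinearMap.smul_apply, LinearMap.comp_apply, ← h1, map_smul, smul_eq_mul, smul_eq_mul,
      mul_comm c, ← mul_assoc, inv_mul_cancel₀ hφ, one_mul]
  have hf1 : f0 w0 = 1 := by
    obtain ⟨v, hv⟩ := LinearMap.mem_range.1 w.2
    have : E w0 = w0 := by
      rw [show w0 = E v from hv.symm, ← Module.End.mul_apply, hEE]
    rw [hf0, LinearMap.smul_apply, LinearMap.comp_apply, this, smul_eq_mul, inv_mul_cancel₀ hφ]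
  set c : G → ℂ := fun g => f0 (ρ g w0) with hcdef
  have hρ2 : ∀ a b (v : V), ρ a (ρ b v) = ρ (a * b) v := fun a b v => by
    rw [map_mul, Module.End.mul_apply]
  have hmain : ∀ x a, c a * c x = (253 : ℂ)⁻¹ *
      ∑ i : ZMod 23, ∑ j : ZMod 11, eta i * c (x * (P i * H j) * a) := fun x a => by
    have h1 : f0 (ρ x (E (ρ a w0))) = c a * c x := by
      rw [hEv, map_smul, map_smul, smul_eq_mul]
    rw [← h1, hE, hprod]
    simp only [LinearMap.smul_apply, LinearMap.sum_apply, map_smul, map_sum, hρ2, smul_eq_mul,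
      ← mul_assoc x, c]
  refine ⟨c, ?_, fun g => ?_, hmain, fun x a => ?_, fun {d} x a hdet => ?_, fun x a hdet g => ?_⟩
  · show f0 (ρ 1 w0) = 1
    rw [map_one, Module.End.one_apply, hf1]
  · have h1 : ρ g * E = f0.smulRight (ρ g w0) := LinearMap.ext fun v => by
      rw [Module.End.mul_apply, hEv, map_smul]
      rfl
    show f0 (ρ g w0) = _
    rw [← LinearMap.trace_smulRight, ← h1, hE, hprod]
    simp only [mul_smul_comm, Finset.mul_sum, map_smul, map_sum, ← map_mul, htr, smul_eq_mul,
      mul_assoc, P, H]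
  · have h1 : f0 (ρ x (S (ρ a w0))) = 0 := by
      rw [hS0, LinearMap.zero_apply, map_zero, map_zero]
    rw [hS] at h1
    simpa only [LinearMap.sum_apply, map_sum, hρ2, P, ← mul_assoc] using h1
  · -- at most 22 independent vectors
    have hli : LinearIndependent ℂ fun l => ρ (a l) w0 := by
      rw [Fintype.linearIndependent_iff]
      intro v hv
      have h2 : (Matrix.of fun k l => c (x k * a l)).mulVec v = 0 := funext fun k => by
        have h3 := congrArg (fun u => f0 (ρ (x k) u)) hv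
        simp only [map_sum, map_smul, map_zero, hρ2, smul_eq_mul] at h3
        rw [Matrix.mulVec, Pi.zero_apply, ← h3]
        exact Finset.sum_congr rfl fun l _ => mul_comm _ _
      exact congrFun (Matrix.eq_zero_of_mulVec_eq_zero hdet h2)
    have h4 := hli.fintype_card_le_finrank
    rwa [Fintype.card_fin, hn] at h4
  · have hli : LinearIndependent ℂ fun l => ρ (a l) w0 := by
      rw [Fintype.linearIndependent_iff]
      intro v hv
      have h2 : (Matrix.of fun k l => c (x k * a l)).mulVec v = 0 := funext fun k => by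
        have h3 := congrArg (fun u => f0 (ρ (x k) u)) hv
        simp only [map_sum, map_smul, map_zero, hρ2, smul_eq_mul] at h3
        rw [Matrix.mulVec, Pi.zero_apply, ← h3]
        exact Finset.sum_congr rfl fun l _ => mul_comm _ _
      exact congrFun (Matrix.eq_zero_of_mulVec_eq_zero hdet h2)
    let b := basisOfLinearIndependentOfCardEqFinrank hli (by rw [Fintype.card_fin, hn])
    set A0 := Matrix.of fun k l => c (x k * a l)
    have hQ : A0 * LinearMap.toMatrix b b (ρ g) = Matrix.of fun k l => c (x k * g * a l) := by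
      ext k l
      have hs := b.sum_repr (ρ g (b l))
      have h3 := congrArg (fun u => f0 (ρ (x k) u)) hs
      simp only [map_sum, map_smul, smul_eq_mul] at h3
      simp only [b, coe_basisOfLinearIndependentOfCardEqFinrank, hρ2] at h3
      rw [Matrix.mul_apply, Matrix.of_apply, show c (x k * g * a l) = f0 (ρ (x k * (g * a l)) w0) by
        rw [← mul_assoc], ← h3]
      refine Finset.sum_congr rfl fun m _ => ?_
      simp only [A0, Matrix.of_apply, LinearMap.toMatrix_apply, b,
        coe_basisOfLinearIndependentOfCardEqFinrank, hρ2]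
      exact mul_comm _ _
    rw [← hQ, ← mul_assoc, Matrix.adjugate_mul, Matrix.smul_mul, one_mul, Matrix.trace_smul,
      smul_eq_mul, ← LinearMap.trace_eq_matrix_trace ℂ b, htr]

end CfsgLib.Blocks.Order10200960
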