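import Cfsg.Agent.Lib.Blocks.Order10200960.Bits

/-!
# The standard generators and the conditions on a candidate of order five
-/

set_option autoImplicit false

namespace CfsgLib.Blocks.Order10200960

/-- The companion matrix of a factor of the twenty-third cyclotomic polynomial. -/
def zP : ℕ := 959926040216646359620290665473122306
/-- Doubling the exponents. -/
def hP : ℕ := 2188297187760550817657923409121648641
/-- The generator of order five. -/
def stdP : ℕ := 42475296114816520349401601361010689

/-- The inverse of the companion matrix of the other factor. -/
def zInvAltP : ℕ := 664776296793042175264223897302601274
/-- Coordinates turning this inverse into `zP`. -/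
def swapP : ℕ := 1760008129590352405668633580393320449
def swapInvP : ℕ := 476858918927017888979215465436645377
/-- Coordinates turning the dual representation into the standard one. -/
def flipP : ℕ := 2227073446469441338517745572443751585
def flipInvP : ℕ := 896546093019972445704483830002622809
/-- The inverse of the basis formed by the images of a cyclic vector under `hP`. -/
def basisInvP : ℕ := 303729081072499962647673041342953471

/-- The powers of the cube of `hP`. -/
def hCubes : List ℕ :=
  [1329552593586084350528447794605199361, 959282424164809293263164248638881793,
   2070429659910108294511715251731521537, 952948734296966792201820157501374465,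
   2188297187760550817657923409121648641, 1808258059639590837412388037861365761,
   1905575940012868756816827659315804161, 41798882240224183952077988184338433,
   1067249776775209897855043996571697153, 2587998706158662673639691759813394433,
   166163641598181333107680873898065921]

/-- The images of a cyclic vector under the powers of `hP`. -/
def basisP : ℕ := rowsP ((List.range 11).map fun k => vecP 3 (powP hP k))

/-- The candidate with given image of the cyclic vector. -/
def candY (r : ℕ) : ℕ := mulP basisInvP (rowsP (hCubes.map (vecP r)))

/-- The order is impossible in the group. -/
def badPow (X : ℕ) : Bool :=
  !(eqP (pow720P X) oneP || eqP (pow14P X) oneP || eqP (pow11P X) oneP || eqP (pow23P X) oneP)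

/-- The candidate in the dual coordinates. -/
def flipY (Y : ℕ) : ℕ := mulP (mulP flipP (trP (pow4P Y))) flipInvP

/-- A power of `hP` or the duality takes the candidate to the standard generator. -/
def moves (Y : ℕ) : Bool :=
  (List.range 11).any fun j =>
    eqP (mulP (powP hP j) Y) stdP || eqP (mulP (powP hP j) (flipY Y)) stdP

/-- The words tested. -/
def testWords : List (List ℕ) := [[0, 2], [0, 0, 2], [0, 0, 0, 2]]

/-- The condition on a candidate. -/
def checkY (Y : ℕ) : Bool :=
  !eqP (pow5P Y) oneP || testWords.any (fun w => badPow (evalP zP hP Y w)) || moves Y

end CfsgLib.Blocks.Order10200960
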