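import Cfsg.Agent.Lib.Blocks.Order10200960.Frob
import Cfsg.Agent.Lib.Blocks.Order443520.Descent
import Cfsg.Agent.Lib.Blocks.Order95040.Mod2

/-!
# A module of dimension eleven over two elements

The functions `x ↦ c (x * a)` reduced modulo two span a module whose dimension is 11 or 22; in
dimension 22 its trace is the reduced character of degree 22, which has the shape
`f g + f g⁻¹`, so it is not absolutely irreducible.
-/

set_option autoImplicit false

namespace CfsgLib.Blocks.Order10200960

open Cfsg CfsgLib CfsgLib.Char CfsgLib.CharIntegral CfsgLib.Blocks.PrimeSylow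
open CfsgLib.Blocks.Order443520 (IsTraceLike card_mod_fixed algRep_surjective no_trace_split
  rv_intCast)
open scoped Classical
open Matrix

variable {G : Type*} [Group G]

/-- The right translations of functions on the group. -/
def rightTrans : G →* Module.End (ZMod 2) (G → ZMod 2) where
  toFun g :=
    { toFun := fun f x => f (x * g)
      map_add' := fun _ _ => rfl
      map_smul' := fun _ _ => rfl }
  map_one' := LinearMap.ext fun f => funext fun x => congrArg f (mul_one x)
  map_mul' g h := LinearMap.ext fun f => funext fun x => congrArg f (mul_assoc x g h).symm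

theorem rightTrans_apply (g : G) (f : G → ZMod 2) (x : G) : rightTrans g f x = f (x * g) := rfl

/-- The translate of a function on the group. -/
def trans' (cb : G → ZMod 2) (a : G) : G → ZMod 2 := fun x => cb (x * a)

theorem rightTrans_trans (cb : G → ZMod 2) (g a : G) :
    rightTrans g (trans' cb a) = trans' cb (g * a) :=
  funext fun x => congrArg cb (mul_assoc x g a)

/-- The module spanned by the translates, in coordinates. -/
structure Mdl (cb : G → ZMod 2) (d : ℕ) where
  φ : G →* Matrix (Fin d) (Fin d) (ZMod 2)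
  a : Fin d → G
  x : Fin d → G
  det_ne : (Matrix.of fun k l => cb (x k * a l)).det ≠ 0
  coord : (Fin d → ZMod 2) →ₗ[ZMod 2] (G → ZMod 2)
  coord_inj : Function.Injective coord
  coord_single : ∀ l, coord (Pi.single l 1) = trans' cb (a l)
  coord_range : ∀ b, ∃ v, coord v = trans' cb b
  coord_mulVec : ∀ g v, coord ((φ g).mulVec v) = rightTrans g (coord v)

variable [Fintype G]

/-- The module exists. -/
theorem exists_mdl (cb : G → ZMod 2) : ∃ d, Nonempty (Mdl cb d) := by
  set s := Set.range (trans' cb) with hs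
  set U := Submodule.span (ZMod 2) s
  obtain ⟨d, f, hfs, hspan, hli⟩ : ∃ d, ∃ f : Fin d → (G → ZMod 2), (∀ i, f i ∈ s) ∧
      Submodule.span (ZMod 2) (Set.range f) = Submodule.span (ZMod 2) s ∧
      LinearIndependent (ZMod 2) f :=
    ⟨_, Submodule.exists_fun_fin_finrank_span_eq (ZMod 2) s⟩
  choose a ha using hfs
  let coord : (Fin d → ZMod 2) →ₗ[ZMod 2] (G → ZMod 2) := Fintype.linearCombination (ZMod 2) f
  have hinj : Function.Injective coord := hli.fintypeLinearCombination_injective
  have hrange : ∀ w ∈ U, ∃ v, coord v = w := fun w hw => by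
    rw [← LinearMap.mem_range, Fintype.range_linearCombination, hspan]
    exact hw
  have hmem : ∀ v, coord v ∈ U := fun v => by
    rw [show U = Submodule.span (ZMod 2) (Set.range f) from hspan.symm,
      ← Fintype.range_linearCombination]
    exact LinearMap.mem_range_self _ v
  have hinv : ∀ g, ∀ w ∈ U, rightTrans g w ∈ U := fun g w hw => by
    have hle : U ≤ U.comap (rightTrans g) := Submodule.span_le.2 (by
      rintro _ ⟨b, rfl⟩
      show rightTrans g (trans' cb b) ∈ U
      rw [rightTrans_trans]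
      exact Submodule.subset_span ⟨_, rfl⟩)
    exact hle hw
  choose pre hpre using hrange
  let Φ : G → Matrix (Fin d) (Fin d) (ZMod 2) := fun g => Matrix.of fun k l =>
    pre (rightTrans g (f l)) (hinv g _ (by
      rw [← ha l]; exact Submodule.subset_span ⟨_, rfl⟩)) k
  have hΦ : ∀ g v, coord ((Φ g).mulVec v) = rightTrans g (coord v) := fun g => by
    refine LinearMap.congr_fun (f := coord ∘ₗ (Φ g).mulVecLin) (g := rightTrans g ∘ₗ coord) ?_
    refine (Pi.basisFun (ZMod 2) (Fin d)).ext fun l => ?_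
    simp only [LinearMap.comp_apply, Pi.basisFun_apply, Matrix.mulVecLin_apply,
      Matrix.mulVec_single_one]
    rw [show (Φ g).col l = pre (rightTrans g (f l)) _ from rfl, hpre,
      Fintype.linearCombination_apply_single, one_smul]
  have hΦ1 : ∀ M N : Matrix (Fin d) (Fin d) (ZMod 2),
      (∀ v, coord (M.mulVec v) = coord (N.mulVec v)) → M = N := fun M N h =>
    Matrix.ext_of_mulVec_single fun i => hinj (h _)
  let φ : G →* Matrix (Fin d) (Fin d) (ZMod 2) :=
    { toFun := Φ
      map_one' := hΦ1 _ _ fun v => by rw [hΦ, map_one, Matrix.one_mulVec]; rfl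
      map_mul' := fun g h => hΦ1 _ _ fun v => by
        rw [hΦ, ← Matrix.mulVec_mulVec, hΦ, hΦ, map_mul]; rfl }
  -- rows
  set Mx : Matrix G (Fin d) (ZMod 2) := Matrix.of fun x l => cb (x * a l) with hMx
  have hcol : Mx.col = f := by
    funext l x
    rw [← ha l]
    rfl
  have hrank : Mx.rank = d := by
    rw [Matrix.rank_eq_finrank_span_cols, hcol, finrank_span_eq_card hli, Fintype.card_fin]
  obtain ⟨r, hrs, -, hrli⟩ :=
    Submodule.exists_fun_fin_finrank_span_eq (ZMod 2) (Set.range Mx.row)
  choose x hx using hrs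
  let e : Fin d ≃ Fin (Module.finrank (ZMod 2) (Submodule.span (ZMod 2) (Set.range Mx.row))) :=
    finCongr (hrank.symm.trans (Matrix.rank_eq_finrank_span_row Mx))
  refine ⟨d, ⟨⟨φ, a, fun k => x (e k), ?_, coord, hinj, fun l => ?_, fun b => ?_, hΦ⟩⟩⟩
  · have hrow : (Matrix.of fun k l => cb (x (e k) * a l)).row = fun k => r (e k) := by
      funext k
      exact (hx (e k))
    have h1 : IsUnit (Matrix.of fun k l => cb (x (e k) * a l)) :=
      Matrix.linearIndependent_rows_iff_isUnit.1 (hrow ▸ hrli.comp _ e.injective)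
    exact ((Matrix.isUnit_iff_isUnit_det _).1 h1).ne_zero
  · rw [Fintype.linearCombination_apply_single, one_smul, ← ha l]
  · exact ⟨pre _ (Submodule.subset_span ⟨b, rfl⟩), hpre _ _⟩

variable {M : Ideal AlgInt} [M.IsPrime]

/-- The mod two data of the coefficient function. -/
theorem exists_reduce [Fintype (IrrCharacter G)] [IsSimpleGroup G] (hG : Nat.card G = ord)
    (T : Tbl G) (hM : IsPModular 2 M) {z h : G} {c : G → ℂ}
    (hc : Coeff (T.c22 : G → ℂ) z h c) (κ : ZMod 2 →+* Res M) :
    (∀ g, c g ∈ localRing M) ∧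
    ∃ (cb : G → ZMod 2) (eb : ZMod 23 → ZMod 2), (∀ g, κ (cb g) = rv M (c g)) ∧ cb 1 = 1 ∧
      (∀ x a, ∑ i : ZMod 23, cb (x * pw z i * a) = 0) ∧
      ∀ x a, cb a * cb x =
        ∑ i : ZMod 23, ∑ j : ZMod 11, eb i * cb (x * (pw z i * pw h j) * a) := by
  have : CharP (Res M) 2 := charP_residueField hM
  have h253 : ((253 : ℕ) : ℂ)⁻¹ ∈ localRing M := inv_natCast_mem hM (by norm_num)
  have h253' : rv M ((253 : ℕ) : ℂ)⁻¹ = 1 := by
    have e := rv_mul (M := M) (natCast_mem _ 253) h253
    rw [mul_inv_cancel₀ (Nat.cast_ne_zero.2 (by norm_num)), rv_natCast, natCast_res] at e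
    rw [← Nat.cast_one, rv_natCast, Nat.cast_one] at e
    simpa using e.symm
  rw [Nat.cast_ofNat] at h253 h253'
  have hmem : ∀ g, c g ∈ localRing M := fun g => by
    rw [hc.eq g]
    exact mul_mem h253 (sum_mem fun i _ => sum_mem fun j _ => mul_mem (eta_mem i) (mem_val _ _))
  refine ⟨hmem, ?_⟩
  have hterm : ∀ (χ : G → ℂ), (∀ g, χ g ∈ localRing M) → ∀ F : ZMod 23 → ZMod 11 → G,
      rv M ((253 : ℂ)⁻¹ * ∑ i : ZMod 23, ∑ j : ZMod 11, eta i * χ (F i j)) =
        ∑ i : ZMod 23, ∑ j : ZMod 11, rv M (eta i) * rv M (χ (F i j)) := fun χ hχ F => by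
    have hm : ∀ i j, eta i * χ (F i j) ∈ localRing M := fun i j => mul_mem (eta_mem i) (hχ _)
    rw [rv_mul h253 (sum_mem fun i _ => sum_mem fun j _ => hm i j), h253', one_mul,
      rv_sum _ _ fun i _ => sum_mem fun j _ => hm i j]
    refine Finset.sum_congr rfl fun i _ => ?_
    rw [rv_sum _ _ fun j _ => hm i j]
    exact Finset.sum_congr rfl fun j _ => rv_mul (eta_mem i) (hχ _)
  have heb : ∀ i, ∃ e : ZMod 2, κ e = rv M (eta i) := fun i => by
    rcases rv_eta hM i with e | e
    · exact ⟨0, by rw [map_zero, e]⟩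
    · exact ⟨1, by rw [map_one, e]⟩
  choose eb heb using heb
  have hint : ∀ g, ∃ v : ZMod 2, κ v = rv M ((T.c22 : G → ℂ) g) := fun g => by
    obtain ⟨v, hv⟩ := (int_single hG T g).1
    exact ⟨(v : ZMod 2), by rw [map_intCast, hv, rv_intCast]⟩
  choose χb hχb using hint
  have hcb : ∀ g, ∃ v : ZMod 2, κ v = rv M (c g) := fun g => by
    refine ⟨∑ i : ZMod 23, ∑ j : ZMod 11, eb i * χb (g * pw z i * pw h j), ?_⟩
    rw [hc.eq g, hterm _ (fun g => mem_val _ g) (fun i j => g * pw z i * pw h j)]
    simp only [map_sum, map_mul, heb, hχb]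
  choose cb hcb using hcb
  refine ⟨cb, eb, hcb, κ.injective ?_, fun x a => κ.injective ?_, fun x a => κ.injective ?_⟩
  · rw [hcb, hc.one, map_one, ← Nat.cast_one, rv_natCast, Nat.cast_one]
  · rw [map_sum, map_zero, Finset.sum_congr rfl fun i _ => hcb (x * pw z i * a),
      ← rv_sum _ _ fun i _ => hmem _, hc.sum_zero]
    simpa using rv_natCast (M := M) 0
  · rw [map_mul, hcb, hcb, ← rv_mul (hmem a) (hmem x), hc.mul x a,
      hterm c hmem (fun i j => x * (pw z i * pw h j) * a)]
    simp only [map_sum, map_mul, heb, hcb]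

variable [Fintype (IrrCharacter G)] [IsSimpleGroup G] (hG : Nat.card G = ord)
include hG

/-- A representation of degree eleven over two elements, nontrivial on an element of order 23. -/
theorem exists_phi : ∃ (φ : G →* Matrix (Fin 11) (Fin 11) (ZMod 2)) (z h : G),
    orderOf z = 23 ∧ orderOf h = 11 ∧ h * z * h⁻¹ = z ^ 2 ∧ φ z ≠ 1 := by
  obtain ⟨M, hM⟩ := CfsgLib.ZStar.exists_isPModular Nat.prime_two
  have := hM.1
  have : M.IsPrime := by
    first
      | infer_instance
      | exact hM.2.1.isPrime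
  have : CharP (Res M) 2 := charP_residueField hM
  obtain ⟨T, f, hf, hχf⟩ := exists_traceLike hG hM
  obtain ⟨z, h, hz, hh, hzh⟩ := exists_frob hG T
  obtain ⟨c, hc⟩ := exists_coeff hG T hz hh hzh
  set κ := ZMod.castHom (dvd_refl 2) (Res M) with hκ
  obtain ⟨hmem, cb, eb, hcb, hone, hsum, hmul⟩ := exists_reduce hG T hM hc κ
  obtain ⟨d, ⟨R⟩⟩ := exists_mdl cb
  have hz23 : z ^ 23 = 1 := hz ▸ pow_orderOf_eq_one z
  have hφz : (R.φ z) ^ 23 = 1 := by rw [← map_pow, hz23, map_one]
  -- the lifted matrices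
  let AS : G → Matrix (Fin d) (Fin d) (localRing M) := fun g =>
    Matrix.of fun k l => ⟨c (R.x k * g * R.a l), hmem _⟩
  let Ab : G → Matrix (Fin d) (Fin d) (ZMod 2) := fun g =>
    Matrix.of fun k l => cb (R.x k * g * R.a l)
  have hAS : ∀ g, (resHom M).mapMatrix (AS g) = κ.mapMatrix (Ab g) := fun g => by
    ext k l
    simp only [RingHom.mapMatrix_apply, Matrix.map_apply, AS, Ab, Matrix.of_apply, hcb]
    exact (rv_coe (M := M) ⟨_, hmem _⟩).symm
  have hA1 : ∀ g, (localRing M).subtype.mapMatrix (AS g) =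
      Matrix.of fun k l => c (R.x k * g * R.a l) := fun g => by ext k l; rfl
  have hAb1 : (Ab 1).det = 1 := by
    rcases (by decide : ∀ v : ZMod 2, v = 0 ∨ v = 1) (Ab 1).det with e | e
    · exfalso
      apply R.det_ne
      simp only [Ab, mul_one] at e
      exact e
    · exact e
  have hdetC : (Matrix.of fun k l => c (R.x k * R.a l)).det ≠ 0 := by
    have e1 : (Matrix.of fun k l => c (R.x k * R.a l)) =
        (localRing M).subtype.mapMatrix (AS 1) := by rw [hA1]; simp only [mul_one]
    intro e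
    rw [e1, ← RingHom.map_det, Subring.coe_subtype, ZeroMemClass.coe_eq_zero] at e
    have h1 := congrArg (resHom M) e
    rw [RingHom.map_det, hAS, ← RingHom.map_det, hAb1, map_one, map_zero] at h1
    exact one_ne_zero h1
  have hd : d ≤ 22 := hc.le R.x R.a hdetC
  -- no fixed vectors
  have hfix : ∀ v, (R.φ z).mulVec v = v → v = 0 := by
    intro v hv
    have hall : ∀ w : Fin d → ZMod 2, ∑ i : ZMod 23, rightTrans (pw z i) (R.coord w) = 0 := by
      refine fun w => LinearMap.congr_fun
        (f := ∑ i : ZMod 23, (rightTrans (pw z i)) ∘ₗ R.coord) (g := 0) ?_ w |> fun e => by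
          simpa [LinearMap.sum_apply] using e
      refine (Pi.basisFun (ZMod 2) (Fin d)).ext fun l => funext fun x => ?_
      simp only [LinearMap.sum_apply, LinearMap.comp_apply, Pi.basisFun_apply, R.coord_single,
        rightTrans_trans, Finset.sum_apply, LinearMap.zero_apply, Pi.zero_apply, trans',
        ← mul_assoc]
      exact hsum x (R.a l)
    have hpw : ∀ n : ℕ, rightTrans (z ^ n) (R.coord v) = R.coord v := fun n => by
      induction n with
      | zero => rw [pow_zero, map_one]; rfl
      | succ n ih =>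
        rw [pow_succ, map_mul, Module.End.mul_apply, ← R.coord_mulVec, hv, ih]
    have h1 := hall v
    simp only [pw, hpw, Finset.sum_const, Finset.card_univ, ZMod.card,
      ← Nat.cast_smul_eq_nsmul (ZMod 2)] at h1
    rw [show ((23 : ℕ) : ZMod 2) = 1 from rfl, one_smul] at h1
    exact R.coord_inj (h1.trans (map_zero _).symm)
  have hd11 : ∀ W : Submodule (ZMod 2) (Fin d → ZMod 2),
      (∀ g, ∀ v ∈ W, (R.φ g).mulVec v ∈ W) →
      Module.finrank (ZMod 2) W = 0 ∨ Module.finrank (ZMod 2) W = 11 ∨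
        Module.finrank (ZMod 2) W = 22 := by
    intro W hW
    have h1 := card_mod_fixed (R.φ z) (p := 23) hφz W (hW z)
    have h2 : Nat.card {v : Fin d → ZMod 2 // v ∈ W ∧ (R.φ z).mulVec v = v} = 1 := by
      rw [Nat.card_eq_one_iff_unique]
      exact ⟨⟨fun a b => Subtype.ext ((hfix _ a.2.2).trans (hfix _ b.2.2).symm)⟩,
        ⟨⟨0, W.zero_mem, Matrix.mulVec_zero _⟩⟩⟩
    rw [h2] at h1
    have h3 : Module.finrank (ZMod 2) W ≤ 22 :=
      ((Submodule.finrank_le W).trans (le_of_eq (Module.finrank_fin_fun _))).trans hd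
    revert h1 h3
    generalize Module.finrank (ZMod 2) W = m
    intro h1 h3
    unfold Nat.ModEq at h1
    interval_cases m <;> first | omega | norm_num at h1
  have hd0 : 0 < d := by
    refine Nat.pos_of_ne_zero fun e => ?_
    obtain ⟨v, hv⟩ := R.coord_range 1
    have hv0 : v = 0 := funext fun l => absurd l.2 (by omega)
    have h1 := congrFun hv 1
    rw [hv0, map_zero, trans', mul_one, hone] at h1
    exact zero_ne_one h1
  have hzne : R.φ z ≠ 1 := fun e => by
    have h1 := congrFun (hfix (fun _ => 1) (by rw [e, Matrix.one_mulVec])) ⟨0, hd0⟩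
    exact one_ne_zero h1
  have htop := hd11 ⊤ fun _ _ _ => trivial
  rw [finrank_top, Module.finrank_fin_fun] at htop
  rcases htop with e | e | e
  · omega
  · subst e
    exact ⟨R.φ, z, h, hz, hh, hzh, hzne⟩
  subst e
  by_contra hno
  have hirr : ∀ W : Submodule (ZMod 2) (Fin 22 → ZMod 2),
      (∀ g, ∀ v ∈ W, (R.φ g).mulVec v ∈ W) → W = ⊥ ∨ W = ⊤ := by
    intro W hW
    rcases hd11 W hW with e | e | e
    · exact Or.inl (Submodule.finrank_eq_zero.1 e)
    · exfalso
      obtain ⟨v, hv, hv0⟩ := W.ne_bot_iff.1 fun e' => by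
        rw [e', finrank_bot] at e; omega
      obtain ⟨ψ, hψ⟩ := Order95040.exists_hom_restrict R.φ W hW z
        ⟨v, hv, fun e' => hv0 (hfix v e')⟩ e
      exact hno ⟨ψ, z, h, hz, hh, hzh, hψ⟩
    · exact Or.inr (Submodule.eq_top_of_finrank_eq (e.trans (Module.finrank_fin_fun _).symm))
  -- the commutant
  obtain ⟨v1, hv1⟩ := R.coord_range 1
  have hv1e : R.coord v1 = cb := hv1.trans (funext fun x => congrArg cb (mul_one x))
  have hv10 : v1 ≠ 0 := fun e => by
    rw [e, map_zero] at hv1e
    exact zero_ne_one ((congrFun hv1e 1).trans hone)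
  set Ê : Matrix (Fin 22) (Fin 22) (ZMod 2) :=
    ∑ i : ZMod 23, ∑ j : ZMod 11, eb i • R.φ (pw z i * pw h j) with hÊ
  have hEcoord : ∀ v, R.coord (Ê.mulVec v) =
      ∑ i : ZMod 23, ∑ j : ZMod 11, eb i • rightTrans (pw z i * pw h j) (R.coord v) := fun v => by
    simp only [hÊ, Matrix.sum_mulVec, Matrix.smul_mulVec, map_sum, map_smul, R.coord_mulVec]
  have hEl : ∀ b v, R.coord v = trans' cb b → Ê.mulVec v = cb b • v1 := fun b v hv => by
    refine R.coord_inj (funext fun x => ?_)
    rw [hEcoord, hv, map_smul, hv1e]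
    simp only [Finset.sum_apply, Pi.smul_apply, smul_eq_mul, rightTrans_trans, trans', hmul x b,
      ← mul_assoc]
  have hEv1 : Ê.mulVec v1 = v1 := by rw [hEl 1 v1 hv1, hone, one_smul]
  have hErange : ∀ v, ∃ t : ZMod 2, Ê.mulVec v = t • v1 := fun v => by
    refine ⟨∑ l, v l * cb (R.a l), ?_⟩
    conv_lhs => rw [pi_eq_sum_univ' v]
    rw [Matrix.mulVec_sum, Finset.sum_smul]
    refine Finset.sum_congr rfl fun l _ => ?_
    rw [Matrix.mulVec_smul, hEl (R.a l) _ (R.coord_single l), smul_smul]
  have hcomm : ∀ J : Matrix (Fin 22) (Fin 22) (ZMod 2), (∀ g, J * R.φ g = R.φ g * J) →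
      J = 0 ∨ J = 1 := by
    intro J hJ
    have hJE : J * Ê = Ê * J := by
      simp only [hÊ, Finset.mul_sum, Finset.sum_mul, Matrix.mul_smul, Matrix.smul_mul, hJ]
    obtain ⟨t, ht⟩ := hErange (J.mulVec v1)
    rw [Matrix.mulVec_mulVec, ← hJE, ← Matrix.mulVec_mulVec, hEv1] at ht
    set J' := J - t • (1 : Matrix (Fin 22) (Fin 22) (ZMod 2)) with hJ'
    have hJ'0 : J' = 0 := by
      have hker : J'.mulVec v1 = 0 := by
        rw [hJ', Matrix.sub_mulVec, Matrix.smul_mulVec, Matrix.one_mulVec, ht, sub_self]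
      have hJc : ∀ g, J' * R.φ g = R.φ g * J' := fun g => by
        rw [hJ', sub_mul, mul_sub, hJ, Matrix.smul_mul, Matrix.mul_smul, one_mul, mul_one]
      rcases hirr (LinearMap.ker J'.mulVecLin) (fun g v hv => by
        rw [LinearMap.mem_ker, Matrix.mulVecLin_apply] at hv ⊢
        rw [Matrix.mulVec_mulVec, hJc, ← Matrix.mulVec_mulVec, hv, Matrix.mulVec_zero]) with e | e
      · exact absurd (by
          have h1 : v1 ∈ LinearMap.ker J'.mulVecLin := hker
          rwa [e, Submodule.mem_bot] at h1) hv10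
      · refine Matrix.ext_of_mulVec_single fun i => ?_
        have h1 : Pi.single i (1 : ZMod 2) ∈ LinearMap.ker J'.mulVecLin := by rw [e]; trivial
        rw [Matrix.zero_mulVec]
        exact h1
    rw [hJ', sub_eq_zero] at hJ'0
    rcases (by decide : ∀ v : ZMod 2, v = 0 ∨ v = 1) t with rfl | rfl
    · exact Or.inl (hJ'0.trans (zero_smul _ _))
    · exact Or.inr (hJ'0.trans (one_smul _ _))
  refine no_trace_split κ R.φ (by norm_num) (algRep_surjective R.φ (by norm_num) hirr hcomm) hf 0
    fun g => ?_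
  -- the trace
  have hΦ : Ab 1 * R.φ g = Ab g := by
    ext k l
    have h1 := congrFun (R.coord_mulVec g (Pi.single l 1)) (R.x k)
    rw [R.coord_single, rightTrans_trans, Matrix.mulVec_single_one] at h1
    have h2 : R.coord ((R.φ g).col l) = ∑ m, (R.φ g) m l • trans' cb (R.a m) := by
      conv_lhs => rw [pi_eq_sum_univ' ((R.φ g).col l)]
      simp only [map_sum, map_smul, R.coord_single]
      rfl
    rw [h2] at h1
    simp only [Finset.sum_apply, Pi.smul_apply, smul_eq_mul, trans'] at h1
    simp only [Matrix.mul_apply, Ab, Matrix.of_apply, mul_one]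
    rw [mul_assoc, ← h1]
    exact Finset.sum_congr rfl fun m _ => mul_comm _ _
  have htrC := hc.trace R.x R.a hdetC g
  have hS : ((AS 1).adjugate * AS g).trace =
      (AS 1).det * ⟨(T.c22 : G → ℂ) g, mem_val _ g⟩ := by
    apply Subtype.val_injective
    rw [← Subring.coe_subtype, map_mul, RingHom.map_det]
    rw [show ∀ X : Matrix (Fin 22) (Fin 22) (localRing M), (localRing M).subtype X.trace =
      (X.map (localRing M).subtype.toAddMonoidHom).trace from fun X =>
        AddMonoidHom.map_trace (localRing M).subtype.toAddMonoidHom X]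
    rw [show ((AS 1).adjugate * AS g).map (localRing M).subtype.toAddMonoidHom =
        (localRing M).subtype.mapMatrix ((AS 1).adjugate * AS g) from rfl,
      map_mul, RingHom.map_adjugate, hA1, hA1]
    simp only [mul_one]
    exact htrC
  have hR := congrArg (resHom M) hS
  rw [map_mul, RingHom.map_det, hAS, ← RingHom.map_det, hAb1, map_one, one_mul,
    show ∀ X : Matrix (Fin 22) (Fin 22) (localRing M), (resHom M) X.trace =
      (X.map (resHom M).toAddMonoidHom).trace from fun X =>
        AddMonoidHom.map_trace (resHom M).toAddMonoidHom X,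
    show ((AS 1).adjugate * AS g).map (resHom M).toAddMonoidHom =
        (resHom M).mapMatrix ((AS 1).adjugate * AS g) from rfl,
    map_mul, RingHom.map_adjugate, hAS, hAS, ← RingHom.map_adjugate, ← map_mul, ← hΦ, ← mul_assoc,
    Matrix.adjugate_mul, hAb1, one_smul, one_mul, ← rv_coe] at hR
  rw [zero_add, ← hχf g, ← hR]
  exact AddMonoidHom.map_trace κ.toAddMonoidHom _

end CfsgLib.Blocks.Order10200960
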