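import Cfsg.Agent.Lib.Blocks.Order10200960.Degrees
import Cfsg.Agent.Lib.Blocks.Order443520.Names

/-!
# The seventeen characters by name, and their values at elements of orders 23, 11 and 7
-/

set_option autoImplicit false

namespace CfsgLib.Blocks.Order10200960

open Cfsg CfsgLib CfsgLib.Char CfsgLib.CharIntegral CfsgLib.Blocks.PrimeSylow
open CfsgLib.Blocks.Order95040 (deg cent deg_cast deg_trivChar deg_eq_finrank)
open CfsgLib.Blocks.Order443520 (exists_list_map_eq deg_one val_of_conj)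
open scoped Classical ComplexConjugate

variable {G : Type*} [Group G] [Fintype G]

/-- The characters by name, with the local data and an involution. -/
structure Tbl (G : Type*) [Group G] [Fintype G] [Fintype (IrrCharacter G)] where
  L7 : Local G 7
  L11 : Local G 11
  L23 : Local G 23
  e7 : L7.e = 3
  v7 : Nat.card L7.V = 2
  e11 : L11.e = 5
  v11 : Nat.card L11.V = 1
  e23 : L23.e = 11
  v23 : Nat.card L23.V = 1
  xdeg : L7.xs.val.map deg = (([1035, 2024] : List ℕ) : Multiset ℕ)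
  ydeg : ∀ θ ∈ L7.data.Y, deg θ = 990
  t : G
  ht : orderOf t = 2
  c253 : IrrCharacter G
  c22 : IrrCharacter G
  a45 : IrrCharacter G
  b45 : IrrCharacter G
  c230 : IrrCharacter G
  a231 : IrrCharacter G
  b231 : IrrCharacter G
  c231 : IrrCharacter G
  a770 : IrrCharacter G
  b770 : IrrCharacter G
  a896 : IrrCharacter G
  b896 : IrrCharacter G
  a990 : IrrCharacter G
  b990 : IrrCharacter G
  c1035 : IrrCharacter G
  c2024 : IrrCharacter G
  univ_eq : (Finset.univ : Finset (IrrCharacter G)).val =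
    (([trivChar G, c253, c22, a45, b45, c230, a231, b231, c231, a770, b770, a896, b896, a990,
      b990, c1035, c2024] : List (IrrCharacter G)) : Multiset (IrrCharacter G))
  cells : [trivChar G, c253, c22, a45, b45, c230, a231, b231, c231, a770, b770, a896, b896, a990,
    b990, c1035, c2024].map (cell t) = allCells

/-- The table exists. -/
theorem exists_tbl [IsSimpleGroup G] [Fintype (IrrCharacter G)] (hG : Nat.card G = ord) :
    Nonempty (Tbl G) := by
  have : Fact (Nat.Prime 7) := ⟨by norm_num⟩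
  have : Fact (Nat.Prime 11) := ⟨by norm_num⟩
  have : Fact (Nat.Prime 23) := ⟨by norm_num⟩
  obtain ⟨L7⟩ := exists_local hG (p := 7) (Or.inl rfl)
  obtain ⟨L11⟩ := exists_local hG (p := 11) (Or.inr (Or.inl rfl))
  obtain ⟨L23⟩ := exists_local hG (p := 23) (Or.inr (Or.inr rfl))
  obtain ⟨t, ht, -, hcells⟩ := exists_cells hG
  have hv7 := card_V_two hG L7 L11 L23 hcells
  obtain ⟨he7, -, hsev⟩ := shape7 hG L7 L11 L23
  obtain ⟨h5, h6⟩ := shape11 hG L11 L7 L23
  obtain ⟨h3, h4⟩ := shape23 hG L23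
  obtain ⟨s, hsV, hs, hok⟩ := L7.exists_involution hG (Or.inl rfl) (by rw [hv7])
  rw [he7] at hok
  obtain ⟨-, hxc, hYc⟩ := hsev s hsV hs hok
  have hx : L7.xs.val.map deg = (([1035, 2024] : List ℕ) : Multiset ℕ) := (map_fst hxc.symm).symm
  have hy : ∀ θ ∈ L7.data.Y, deg θ = 990 := fun θ hθ => congrArg Prod.fst (hYc θ hθ)
  obtain ⟨l, hl, hlm⟩ := exists_list_map_eq (cell t) allCells _ hcells
  have hlen : l.length = 17 := by
    have := congrArg List.length hlm
    simpa [allCells, tableCells] using this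
  match l, hlen, hl, hlm with
  | [x0, c253, c22, a45, b45, c230, a231, b231, c231, a770, b770, a896, b896, a990, b990, c1035,
      c2024], _, hl, hlm =>
    have h0 : x0 = trivChar G := deg_one (perfect hG) (by
      have h := congrArg (fun m : List Cell => m.head?) hlm
      simp only [List.map_cons, List.head?_cons, allCells, Option.some.injEq, cell,
        Prod.mk.injEq] at h
      exact h.1)
    subst h0
    exact ⟨⟨L7, L11, L23, he7, hv7, h5, h6, h3, h4, hx, hy, t, ht, c253, c22, a45, b45, c230,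
      a231, b231, c231, a770, b770, a896, b896, a990, b990, c1035, c2024, hl.symm, hlm⟩⟩

namespace Tbl

variable [Fintype (IrrCharacter G)] (T : Tbl G)

theorem sum_eq {M : Type*} [AddCommMonoid M] (f : IrrCharacter G → M) :
    ∑ χ, f χ = f (trivChar G) + (f T.c253 + (f T.c22 + (f T.a45 + (f T.b45 + (f T.c230 +
      (f T.a231 + (f T.b231 + (f T.c231 + (f T.a770 + (f T.b770 + (f T.a896 + (f T.b896 +
      (f T.a990 + (f T.b990 + (f T.c1035 + f T.c2024))))))))))))))) := by
  simp [Finset.sum, T.univ_eq]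

theorem cases_eq (χ : IrrCharacter G) :
    χ = trivChar G ∨ χ = T.c253 ∨ χ = T.c22 ∨ χ = T.a45 ∨ χ = T.b45 ∨ χ = T.c230 ∨ χ = T.a231 ∨
      χ = T.b231 ∨ χ = T.c231 ∨ χ = T.a770 ∨ χ = T.b770 ∨ χ = T.a896 ∨ χ = T.b896 ∨ χ = T.a990 ∨
      χ = T.b990 ∨ χ = T.c1035 ∨ χ = T.c2024 := by
  have h := Finset.mem_univ χ
  rw [← Finset.mem_val, T.univ_eq] at h
  simpa using h

theorem nodup : [trivChar G, T.c253, T.c22, T.a45, T.b45, T.c230, T.a231, T.b231, T.c231, T.a770,
    T.b770, T.a896, T.b896, T.a990, T.b990, T.c1035, T.c2024].Nodup := by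
  have h := (Finset.univ : Finset (IrrCharacter G)).nodup
  rwa [T.univ_eq, Multiset.coe_nodup] at h

theorem ne45 : T.a45 ≠ T.b45 := by
  have h := T.nodup
  simp [List.nodup_cons] at h
  tauto

theorem ne770 : T.a770 ≠ T.b770 := by
  have h := T.nodup
  simp [List.nodup_cons] at h
  tauto

theorem ne896 : T.a896 ≠ T.b896 := by
  have h := T.nodup
  simp [List.nodup_cons] at h
  tauto

theorem ne990 : T.a990 ≠ T.b990 := by
  have h := T.nodup
  simp [List.nodup_cons] at h
  tauto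

theorem ne231 : T.a231 ≠ T.b231 ∧ T.a231 ≠ T.c231 ∧ T.b231 ≠ T.c231 := by
  have h := T.nodup
  simp [List.nodup_cons] at h
  tauto

theorem degs : deg T.c253 = 253 ∧ deg T.c22 = 22 ∧ deg T.a45 = 45 ∧ deg T.b45 = 45 ∧
    deg T.c230 = 230 ∧ deg T.a231 = 231 ∧ deg T.b231 = 231 ∧ deg T.c231 = 231 ∧
    deg T.a770 = 770 ∧ deg T.b770 = 770 ∧ deg T.a896 = 896 ∧ deg T.b896 = 896 ∧
    deg T.a990 = 990 ∧ deg T.b990 = 990 ∧ deg T.c1035 = 1035 ∧ deg T.c2024 = 2024 := by
  have h := congrArg (List.map Prod.fst) T.cells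
  simp only [List.map_cons, List.map_nil, allCells, tableCells, cell, List.cons.injEq, and_true]
    at h
  exact h.2

theorem vals : ival T.t T.c253 = 13 ∧ ival T.t T.c22 = 6 ∧ ival T.t T.a45 = -3 ∧
    ival T.t T.b45 = -3 ∧ ival T.t T.c230 = 22 ∧ ival T.t T.a231 = 7 ∧ ival T.t T.b231 = 7 ∧
    ival T.t T.c231 = 7 ∧ ival T.t T.a770 = -14 ∧ ival T.t T.b770 = -14 ∧ ival T.t T.a896 = 0 ∧
    ival T.t T.b896 = 0 ∧ ival T.t T.a990 = -18 ∧ ival T.t T.b990 = -18 ∧
    ival T.t T.c1035 = 27 ∧ ival T.t T.c2024 = 8 := by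
  have h := congrArg (List.map Prod.snd) T.cells
  simp only [List.map_cons, List.map_nil, allCells, tableCells, cell, List.cons.injEq, and_true]
    at h
  exact h.2

/-- Members are told apart by their degrees. -/
theorem eq_of_deg {χ : IrrCharacter G} :
    (deg χ = 22 → χ = T.c22) ∧ (deg χ = 230 → χ = T.c230) ∧ (deg χ = 253 → χ = T.c253) ∧
      (deg χ = 1035 → χ = T.c1035) ∧ (deg χ = 2024 → χ = T.c2024) ∧
      (deg χ = 45 → χ = T.a45 ∨ χ = T.b45) ∧ (deg χ = 770 → χ = T.a770 ∨ χ = T.b770) ∧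
      (deg χ = 896 → χ = T.a896 ∨ χ = T.b896) ∧ (deg χ = 990 → χ = T.a990 ∨ χ = T.b990) ∧
      (deg χ = 231 → χ = T.a231 ∨ χ = T.b231 ∨ χ = T.c231) := by
  obtain ⟨d1, d2, d3, d4, d5, d6, d7, d8, d9, d10, d11, d12, d13, d14, d15, d16⟩ := T.degs
  rcases T.cases_eq χ with rfl | rfl | rfl | rfl | rfl | rfl | rfl | rfl | rfl | rfl | rfl | rfl |
    rfl | rfl | rfl | rfl | rfl <;> simp [*, deg_trivChar]

end Tbl

variable [IsSimpleGroup G] (hG : Nat.card G = ord)
include hG

/-- The value of a non-exceptional member at an element of order `p`. -/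
theorem val_const {p : ℕ} [Fact p.Prime] (hp : p = 7 ∨ p = 11 ∨ p = 23) (L : Local G p)
    {χ : IrrCharacter G} (hχ : χ ∈ L.xs) {g : G} (hg : orderOf g = p) :
    (χ : G → ℂ) g = (sgn p (deg χ) : ℂ) := by
  obtain ⟨x, hx, hx1, hc⟩ := Local.exists_conj_P hG hp L hg
  have hm := Finset.mem_of_mem_erase hχ
  have h := L.data.valX χ hm x hx hx1 1 (one_mem _)
  rw [mul_one, (L.εX_eq (by rcases hp with rfl | rfl | rfl <;> norm_num) hm).1] at h
  rw [val_of_conj hc, h]

omit [IsSimpleGroup G] hG in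
/-- A member of degree congruent to `±1` is not exceptional. -/
theorem mem_xs {p : ℕ} [Fact p.Prime] (L : Local G p) (hp : 3 ≤ p) (hV : Nat.card L.V = 1)
    {χ : IrrCharacter G} (hne : χ ≠ trivChar G) (hd : ¬ p ∣ deg χ)
    (h1 : deg χ % p ≠ L.e % p) (h2 : (deg χ + L.e) % p ≠ 0) : χ ∈ L.xs := by
  rcases L.residue hp ((L.mem_nt_iff hV).2 ⟨hne, hd⟩) with ⟨h, -⟩ | ⟨-, h⟩
  · exact h
  · rcases h with h | h
    · exact absurd h h1
    · exact absurd h h2

variable [Fintype (IrrCharacter G)] (T : Tbl G)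

include T in
/-- The value at an element of order 23 of a member of degree congruent to `±1`. -/
theorem val23 {χ : IrrCharacter G} (hne : χ ≠ trivChar G)
    (hd : deg χ % 23 = 1 ∨ deg χ % 23 = 22) {z : G} (hz : orderOf z = 23) :
    (χ : G → ℂ) z = (sgn 23 (deg χ) : ℂ) := by
  have : Fact (Nat.Prime 23) := ⟨by norm_num⟩
  exact val_const hG (Or.inr (Or.inr rfl)) T.L23 (mem_xs T.L23 (by norm_num) T.v23 hne (by omega)
    (by rw [T.e23]; omega) (by rw [T.e23]; omega)) hz

include T in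
/-- The value at an element of order eleven of a member of degree congruent to `±1`. -/
theorem val11 {χ : IrrCharacter G} (hne : χ ≠ trivChar G)
    (hd : deg χ % 11 = 1 ∨ deg χ % 11 = 10) {h : G} (hh : orderOf h = 11) :
    (χ : G → ℂ) h = (sgn 11 (deg χ) : ℂ) := by
  have : Fact (Nat.Prime 11) := ⟨by norm_num⟩
  exact val_const hG (Or.inr (Or.inl rfl)) T.L11 (mem_xs T.L11 (by norm_num) T.v11 hne (by omega)
    (by rw [T.e11]; omega) (by rw [T.e11]; omega)) hh

omit [IsSimpleGroup G] hG in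
/-- The non-exceptional members of the principal 7-block. -/
theorem seven_xs : T.c1035 ∈ T.L7.xs ∧ T.c2024 ∈ T.L7.xs := by
  have key : ∀ d ∈ [1035, 2024], ∃ χ ∈ T.L7.xs, deg χ = d := fun d hd => by
    rw [← Multiset.mem_coe, ← T.xdeg] at hd
    obtain ⟨χ, h1, h2⟩ := Multiset.mem_map.1 hd
    exact ⟨χ, h1, h2⟩
  obtain ⟨χ, h1, h2⟩ := key 1035 (by simp)
  obtain ⟨ψ, h3, h4⟩ := key 2024 (by simp)
  rw [T.eq_of_deg.2.2.2.1 h2] at h1
  rw [T.eq_of_deg.2.2.2.2.1 h4] at h3
  exact ⟨h1, h3⟩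

/-- The values at an element of order seven of the non-exceptional members. -/
theorem val7 {x : G} (hx : orderOf x = 7) :
    (T.c1035 : G → ℂ) x = -1 ∧ (T.c2024 : G → ℂ) x = 1 := by
  have : Fact (Nat.Prime 7) := ⟨by norm_num⟩
  obtain ⟨h1, h2⟩ := seven_xs T
  rw [val_const hG (Or.inl rfl) T.L7 h1 hx, val_const hG (Or.inl rfl) T.L7 h2 hx,
    T.degs.2.2.2.2.2.2.2.2.2.2.2.2.2.2.1, T.degs.2.2.2.2.2.2.2.2.2.2.2.2.2.2.2]
  norm_num [sgn]

end CfsgLib.Blocks.Order10200960
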