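import Cfsg.Agent.Lib.Blocks.Order10200960.Square
import Cfsg.Agent.Lib.Blocks.Order443520.Trace
import Cfsg.Agent.Lib.Blocks.Order443520.Degree

/-!
# The character of degree 22 modulo two
-/

set_option autoImplicit false

namespace CfsgLib.Blocks.Order10200960

open Cfsg CfsgLib CfsgLib.Char CfsgLib.CharIntegral CfsgLib.Blocks.PrimeSylow
open CfsgLib.Blocks.Order95040 (deg cent deg_cast deg_trivChar deg_eq_finrank)
open CfsgLib.Blocks.Order443520 (val_of_conj rv_intCast rv_sq IsTraceLike conj_eq_inv)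
open scoped Classical ComplexConjugate

variable {G : Type*} [Group G] [Fintype G]
variable {M : Ideal AlgInt} [M.IsPrime]

theorem mem_val (χ : IrrCharacter G) (g : G) : (χ : G → ℂ) g ∈ localRing M :=
  mem_localRing_of_isIntegral (Char.IsChar.isIntegral (Char.IsIrr.isCharacter χ.2) g)

/-- The parity of a natural number in the residue field. -/
theorem natCast_res [CharP (Res M) 2] (n : ℕ) :
    (n : Res M) = if n % 2 = 0 then 0 else 1 := by
  rw [CharP.natCast_eq_natCast_mod (R := Res M) 2 n]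
  rcases Nat.mod_two_eq_zero_or_one n with h | h <;> simp [h]

/-- An integer is its own square in the residue field. -/
theorem intCast_sq_res [CharP (Res M) 2] (v : ℤ) : (v : Res M) * (v : Res M) = (v : Res M) := by
  have e : (v : Res M) = ((v % 2 : ℤ) : Res M) := by
    rw [CharP.intCast_eq_intCast (R := Res M) 2]
    exact (Int.mod_modEq v 2).symm
  rw [e]
  rcases Int.emod_two_eq_zero_or_one v with h | h <;> simp [h]

variable [IsSimpleGroup G] (hG : Nat.card G = ord) [Fintype (IrrCharacter G)] (T : Tbl G)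
include hG

omit [IsSimpleGroup G] in
theorem orderOf_dvd_ord (g : G) : orderOf g ∣ ord := hG ▸ orderOf_dvd_natCard g

include T in
/-- The elements of odd order. -/
theorem odd_order {g : G} (h2 : ¬ 2 ∣ orderOf g) :
    g = 1 ∨ orderOf g = 23 ∨ orderOf g = 11 ∨ orderOf g = 7 ∨
      ((3 ∣ orderOf g ∨ 5 ∣ orderOf g) ∧ ¬ 7 ∣ orderOf g ∧ ¬ 11 ∣ orderOf g ∧
        ¬ 23 ∣ orderOf g) := by
  have : Fact (Nat.Prime 7) := ⟨by norm_num⟩
  have : Fact (Nat.Prime 11) := ⟨by norm_num⟩
  have : Fact (Nat.Prime 23) := ⟨by norm_num⟩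
  by_cases h23 : 23 ∣ orderOf g
  · exact Or.inr (Or.inl (Local.order_eq hG (Or.inr (Or.inr rfl)) T.L23 T.v23 h23))
  by_cases h11 : 11 ∣ orderOf g
  · exact Or.inr (Or.inr (Or.inl (Local.order_eq hG (Or.inr (Or.inl rfl)) T.L11 T.v11 h11)))
  by_cases h7 : 7 ∣ orderOf g
  · refine Or.inr (Or.inr (Or.inr (Or.inl ?_)))
    have ho : orderOf (g ^ (orderOf g / 7)) = 7 := orderOf_pow_orderOf_div (orderOf_pos g).ne' h7
    have h1 : orderOf g ∣ cent (g ^ (orderOf g / 7)) := Subgroup.orderOf_dvd_natCard _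
      (Subgroup.mem_centralizer_singleton_iff.2 ((Commute.self_pow g _).eq))
    rw [(cent_prime hG T).1 ho] at h1
    have h7' : orderOf g ∣ 7 := ((Nat.Prime.coprime_iff_not_dvd Nat.prime_two).2
      h2).symm.dvd_of_dvd_mul_left (show orderOf g ∣ 2 * 7 from h1)
    exact Nat.dvd_antisymm h7' h7
  by_cases h1 : g = 1
  · exact Or.inl h1
  refine Or.inr (Or.inr (Or.inr (Or.inr ⟨?_, h7, h11, h23⟩)))
  obtain ⟨q, hq, hqd⟩ := Nat.exists_prime_and_dvd (fun e => h1 (orderOf_eq_one_iff.1 e))
  have hqo : q ∣ ord := hqd.trans (orderOf_dvd_ord hG g)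
  rw [show ord = 2 ^ 7 * 3 ^ 2 * 5 * 7 * 11 * 23 from rfl] at hqo
  rcases (Nat.Prime.dvd_mul hq).1 hqo with hqo | hqo
  · rcases (Nat.Prime.dvd_mul hq).1 hqo with hqo | hqo
    · rcases (Nat.Prime.dvd_mul hq).1 hqo with hqo | hqo
      · rcases (Nat.Prime.dvd_mul hq).1 hqo with hqo | hqo
        · rcases (Nat.Prime.dvd_mul hq).1 hqo with hqo | hqo
          · exact absurd ((Nat.prime_dvd_prime_iff_eq hq Nat.prime_two).1
              (hq.dvd_of_dvd_pow hqo) ▸ hqd) h2
          · exact Or.inl ((Nat.prime_dvd_prime_iff_eq hq Nat.prime_three).1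
              (hq.dvd_of_dvd_pow hqo) ▸ hqd)
        · exact Or.inr ((Nat.prime_dvd_prime_iff_eq hq (by norm_num)).1 hqo ▸ hqd)
      · exact absurd ((Nat.prime_dvd_prime_iff_eq hq (by norm_num)).1 hqo ▸ hqd) h7
    · exact absurd ((Nat.prime_dvd_prime_iff_eq hq (by norm_num)).1 hqo ▸ hqd) h11
  · exact absurd ((Nat.prime_dvd_prime_iff_eq hq (by norm_num)).1 hqo ▸ hqd) h23

/-- The two values of degree 770 at an element of order 23. -/
theorem sum770 {z : G} (hz : orderOf z = 23) :
    ∃ ε : ℤ, (ε = 1 ∨ ε = -1) ∧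
      (T.a770 : G → ℂ) z + (T.b770 : G → ℂ) z = (ε : ℂ) := by
  have : Fact (Nat.Prime 23) := ⟨by norm_num⟩
  obtain ⟨d1, d2, d3, d4, d5, d6, d7, d8, d9, d10, d11, d12, d13, d14, d15, d16⟩ := T.degs
  have hm : ∀ θ : IrrCharacter G, deg θ = 770 → θ ∈ T.L23.data.Y := fun θ hd => by
    rcases T.L23.residue (by norm_num) ((T.L23.mem_nt_iff T.v23 (χ := θ)).2
      ⟨fun e => by rw [e, deg_trivChar] at hd; omega, by rw [hd]; norm_num⟩) with ⟨-, h⟩ | ⟨h, -⟩
    · omega
    · exact h
  have hY : T.L23.data.Y = {T.a770, T.b770} := by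
    refine (Finset.eq_of_subset_of_card_le ?_ ?_).symm
    · intro θ hθ
      simp only [Finset.mem_insert, Finset.mem_singleton] at hθ
      rcases hθ with rfl | rfl
      · exact hm _ d9
      · exact hm _ d10
    · rw [Finset.card_pair T.ne770, T.L23.cardY_eq (by norm_num), T.e23]
  obtain ⟨x, hx, hx1, hc⟩ := Local.exists_conj_P hG (Or.inr (Or.inr rfl)) T.L23 hz
  have hs : Subsingleton T.L23.V := (Nat.card_eq_one_iff_unique.1 T.v23).1
  have h := T.L23.data.sumY x hx hx1
  rw [hY, Finset.sum_pair T.ne770, Fintype.sum_subsingleton _ (1 : T.L23.V),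
    Fintype.sum_subsingleton _ (1 : T.L23.V), OneMemClass.coe_one, mul_one, T.v23, Nat.cast_one,
    one_mul] at h
  refine ⟨-T.L23.data.ε, by rcases T.L23.data.sgnY with e | e <;> simp [e], ?_⟩
  rw [val_of_conj hc, val_of_conj (χ := T.b770) hc, h, Int.cast_neg]

/-- The relation of the principal 7-block where the members of degree 990 and 1035 vanish. -/
theorem val2024 {g : G} (h7 : ¬ 7 ∣ orderOf g) (ha : (T.a990 : G → ℂ) g = 0)
    (hb : (T.b990 : G → ℂ) g = 0) (hc : (T.c1035 : G → ℂ) g = 0) :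
    (T.c2024 : G → ℂ) g = -1 := by
  have : Fact (Nat.Prime 7) := ⟨by norm_num⟩
  obtain ⟨d1, d2, d3, d4, d5, d6, d7, d8, d9, d10, d11, d12, d13, d14, d15, d16⟩ := T.degs
  obtain ⟨θ, hθ⟩ := T.L7.exists_theta
  have hzero : (θ : G → ℂ) g = 0 := by
    rcases T.eq_of_deg.2.2.2.2.2.2.2.2.1 (T.ydeg θ hθ) with rfl | rfl <;> assumption
  have h := T.L7.data.rel θ hθ g h7
  obtain ⟨m1, m2⟩ := seven_xs T
  have hxs : T.L7.xs = {T.c1035, T.c2024} := by
    refine (Finset.eq_of_subset_of_card_le ?_ ?_).symm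
    · intro χ hχ
      simp only [Finset.mem_insert, Finset.mem_singleton] at hχ
      rcases hχ with rfl | rfl <;> assumption
    · rw [Finset.card_pair (fun e => by rw [e] at d15; omega), T.L7.card_xs, T.e7]
  rw [hzero, mul_zero, ← Finset.add_sum_erase _ _ T.L7.triv, T.L7.εX_triv (by norm_num),
    trivChar_apply, show T.L7.data.X.erase (trivChar G) = T.L7.xs from rfl, hxs,
    Finset.sum_pair (fun e => by rw [e] at d15; omega), hc,
    (T.L7.εX_eq (by norm_num) (Finset.mem_of_mem_erase m2)).1, d16] at h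
  norm_num [sgn] at h
  linear_combination -h

/-- The characters of degree 45, 770 and two of degree 231 agree with that of degree 22 modulo
two. -/
theorem parity (hM : IsPModular 2 M) (hgood : Char.conjIrr T.b231 = T.c231) {g : G}
    (h2 : ¬ 2 ∣ orderOf g) :
    rv M ((T.c22 : G → ℂ) g) + rv M ((T.a770 : G → ℂ) g) + rv M ((T.b770 : G → ℂ) g) +
      rv M ((T.a45 : G → ℂ) g) + rv M ((T.b45 : G → ℂ) g) + rv M ((T.b231 : G → ℂ) g) +
      rv M ((T.c231 : G → ℂ) g) = 0 := by
  have : CharP (Res M) 2 := charP_residueField hM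
  have two : (2 : Res M) = 0 := CharTwo.two_eq_zero
  obtain ⟨d1, d2, d3, d4, d5, d6, d7, d8, d9, d10, d11, d12, d13, d14, d15, d16⟩ := T.degs
  have hne : ∀ {χ : IrrCharacter G}, 1 < deg χ → χ ≠ trivChar G := fun h e => by
    rw [e, deg_trivChar] at h; omega
  have rsgn : ∀ (p d : ℕ), rv M ((sgn p d : ℤ) : ℂ) = 1 := fun p d => by
    rw [rv_intCast, sgn]
    split_ifs
    · simp
    · simp [CharTwo.neg_eq]
  -- orthogonality to the identity
  have orth : g ≠ 1 → rv M ((trivChar G : G → ℂ) g) + rv M ((T.c253 : G → ℂ) g) +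
      rv M ((T.a45 : G → ℂ) g) + rv M ((T.b45 : G → ℂ) g) + rv M ((T.a231 : G → ℂ) g) +
      rv M ((T.b231 : G → ℂ) g) + rv M ((T.c231 : G → ℂ) g) + rv M ((T.c1035 : G → ℂ) g) = 0 :=
    fun hg => by
    have h := congrArg (rv M) (sum_degree_mul_apply_of_ne_one hg)
    simp only [deg_cast, rv_zero] at h
    rw [rv_sum _ _ fun χ _ => mul_mem (natCast_mem _ _) (mem_val χ g)] at h
    simp only [fun χ : IrrCharacter G => rv_mul (natCast_mem (localRing M) (deg χ))
      (mem_val (M := M) χ g), rv_natCast, T.sum_eq, natCast_res, deg_trivChar, d1, d2, d3, d4, d5,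
      d6, d7, d8, d9, d10, d11, d12, d13, d14, d15, d16] at h
    norm_num at h
    rw [trivChar_apply]
    linear_combination h
  rcases odd_order hG T h2 with rfl | hg | hg | hg | ⟨h35, h7, h11, h23⟩
  · simp only [deg_cast, rv_natCast, natCast_res, d2, d3, d4, d7, d8, d9, d10]
    norm_num
    linear_combination (2 : Res M) * two
  · -- order 23
    obtain ⟨ε, hε, h770⟩ := sum770 hG T hg
    have h7r : rv M ((T.a770 : G → ℂ) g) + rv M ((T.b770 : G → ℂ) g) = 1 := by
      rw [← rv_add (mem_val _ _) (mem_val _ _), h770, rv_intCast]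
      rcases hε with rfl | rfl <;> simp [CharTwo.neg_eq]
    rw [val23 hG T (hne (by omega)) (by omega) hg (χ := T.c22),
      val23 hG T (hne (by omega)) (by omega) hg (χ := T.a45),
      val23 hG T (hne (by omega)) (by omega) hg (χ := T.b45),
      val23 hG T (hne (by omega)) (by omega) hg (χ := T.b231),
      val23 hG T (hne (by omega)) (by omega) hg (χ := T.c231), rsgn, rsgn, rsgn, rsgn, rsgn]
    linear_combination h7r + 3 * two
  · -- order eleven
    have h0 : ∀ χ : IrrCharacter G, 11 ∣ deg χ → rv M ((χ : G → ℂ) g) = 0 := fun χ hd => by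
      rw [vanish_one hG (Or.inr (Or.inl rfl)) hd (by rw [hg]), rv_zero]
    rw [h0 T.c22 (by rw [d2]; norm_num), h0 T.a770 (by rw [d9]; norm_num),
      h0 T.b770 (by rw [d10]; norm_num), h0 T.b231 (by rw [d7]; norm_num),
      h0 T.c231 (by rw [d8]; norm_num), val11 hG T (hne (by omega)) (by omega) hg (χ := T.a45),
      val11 hG T (hne (by omega)) (by omega) hg (χ := T.b45), rsgn, rsgn]
    linear_combination two
  · -- order seven
    have h0 : ∀ χ : IrrCharacter G, 7 ∣ deg χ → rv M ((χ : G → ℂ) g) = 0 := fun χ hd => by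
      rw [vanish_one hG (Or.inl rfl) hd (by rw [hg]), rv_zero]
    obtain ⟨e22, -, e253⟩ := rational_seven hG T hg
    have o := orth fun e => by rw [e, orderOf_one] at hg; norm_num at hg
    rw [trivChar_apply, e253, (val7 hG T hg).1, rv_one, rv_neg (one_mem _), rv_one,
      h0 T.a231 (by rw [d6]; norm_num), h0 T.b231 (by rw [d7]; norm_num),
      h0 T.c231 (by rw [d8]; norm_num), CharTwo.neg_eq] at o
    rw [e22, rv_one, h0 T.a770 (by rw [d9]; norm_num), h0 T.b770 (by rw [d10]; norm_num),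
      h0 T.b231 (by rw [d7]; norm_num), h0 T.c231 (by rw [d8]; norm_num)]
    linear_combination o - two
  · -- orders three and five
    have hz : ∀ χ : IrrCharacter G, 9 ∣ deg χ → 5 ∣ deg χ → (χ : G → ℂ) g = 0 := fun χ h9 h5 => by
      rcases h35 with h | h
      · exact vanish hG (p := 3) (n := 2) Nat.prime_three (by decide +kernel) (by decide +kernel)
          (by simpa using h9) h
      · exact vanish hG (p := 5) (n := 1) (by norm_num) (by decide +kernel) (by decide +kernel)
          (by simpa using h5) h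
    have z45a := hz T.a45 (by rw [d3]; norm_num) (by rw [d3]; norm_num)
    have z45b := hz T.b45 (by rw [d4]; norm_num) (by rw [d4]; norm_num)
    have z990a := hz T.a990 (by rw [d13]; norm_num) (by rw [d13]; norm_num)
    have z990b := hz T.b990 (by rw [d14]; norm_num) (by rw [d14]; norm_num)
    have z1035 := hz T.c1035 (by rw [d15]; norm_num) (by rw [d15]; norm_num)
    have hg1 : g ≠ 1 := fun e => by rw [e, orderOf_one] at h35; norm_num at h35
    have o1 := orth hg1
    rw [trivChar_apply, rv_one, z45a, z45b, z1035, rv_zero] at o1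
    have : Fact (Nat.Prime 7) := ⟨by norm_num⟩
    obtain ⟨x, hx⟩ := exists_prime_orderOf_dvd_card' (G := G) 7 (hG ▸ by decide)
    have hnc : ¬ IsConj g x := fun h => by
      obtain ⟨c, hc⟩ := isConj_iff.1 h
      have := Order7920.orderOf_conj_eq' c g
      rw [hc, hx] at this
      exact h7 (by rw [← this])
    have o2 := column_orthogonality g x
    rw [if_neg hnc, T.sum_eq, trivChar_apply, trivChar_apply, map_one, one_mul] at o2
    obtain ⟨e22, e230, e253⟩ := rational_seven hG T hx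
    obtain ⟨e1035, e2024⟩ := val7 hG T hx
    have h0 : ∀ χ : IrrCharacter G, 7 ∣ deg χ → (χ : G → ℂ) x = 0 := fun χ hd =>
      vanish_one hG (Or.inl rfl) hd (by rw [hx])
    rw [e22, e230, e253, e1035, e2024, h0 T.a231 (by rw [d6]; norm_num),
      h0 T.b231 (by rw [d7]; norm_num), h0 T.c231 (by rw [d8]; norm_num),
      h0 T.a770 (by rw [d9]; norm_num), h0 T.b770 (by rw [d10]; norm_num),
      h0 T.a896 (by rw [d11]; norm_num), h0 T.b896 (by rw [d12]; norm_num),
      z45a, z45b, z990a, z990b, val2024 hG T h7 z990a z990b z1035] at o2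
    simp only [map_one, map_neg, map_zero, mul_one, mul_zero, zero_mul, mul_neg, zero_add,
      neg_neg] at o2
    -- the degree 22 value is the difference of those of degrees 230 and 253
    have o2' : (T.c22 : G → ℂ) g + (T.c253 : G → ℂ) g = (T.c230 : G → ℂ) g := by
      linear_combination o2 + z1035
    have o3 := congrArg (rv M) o2'
    rw [rv_add (mem_val _ _) (mem_val _ _)] at o3
    obtain ⟨a, ha⟩ := (int_single hG T g).1
    have hsq : rv M ((T.c22 : G → ℂ) g * (T.c22 : G → ℂ) g) = rv M ((T.c22 : G → ℂ) g) := by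
      rw [rv_mul (mem_val _ _) (mem_val _ _), ha, rv_intCast, intCast_sq_res]
    have h770 : rv M ((T.a770 : G → ℂ) g) + rv M ((T.b770 : G → ℂ) g) = 0 := by
      have hY : ∀ θ : IrrCharacter G, deg θ = 770 → θ ∈ T.L23.data.Y := fun θ hd => by
        have : Fact (Nat.Prime 23) := ⟨by norm_num⟩
        rcases T.L23.residue (by norm_num) ((T.L23.mem_nt_iff T.v23 (χ := θ)).2
          ⟨hne (by omega), by rw [hd]; norm_num⟩) with ⟨-, h⟩ | ⟨h, -⟩
        · omega
        · exact h
      rw [T.L23.data.sameY _ (hY _ d9) _ (hY _ d10) g h23]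
      exact CharTwo.add_self_eq_zero _
    rw [z45a, z45b, rv_zero]
    rcases square hG T hgood with hq | hq
    · have e3 := congrArg (rv M) (hq g)
      rw [hsq, rv_add (add_mem (add_mem (one_mem _) (mem_val _ _)) (mem_val _ _)) (mem_val _ _),
        rv_add (add_mem (one_mem _) (mem_val _ _)) (mem_val _ _),
        rv_add (one_mem _) (mem_val _ _), rv_one] at e3
      linear_combination o1 - o3 + e3 + h770 + rv M ((T.c22 : G → ℂ) g) * two
    · exfalso
      have e3 := congrArg (rv M) (hq g)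
      rw [hsq, rv_add (add_mem (one_mem _) (mem_val _ _)) (mem_val _ _),
        rv_add (one_mem _) (mem_val _ _), rv_one] at e3
      have : (1 : Res M) = 0 := by
        linear_combination o3 - e3 - rv M ((T.c253 : G → ℂ) g) * two
      exact one_ne_zero this

omit T in
/-- The character of degree 22 is modulo two a trace-like function plus its inverse. -/
theorem exists_traceLike (hM : IsPModular 2 M) :
    ∃ (T : Tbl G) (f : G → Res M), IsTraceLike f ∧
      ∀ g, rv M ((T.c22 : G → ℂ) g) = f g + f g⁻¹ := by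
  obtain ⟨T, hgood⟩ := exists_good hG
  have : CharP (Res M) 2 := charP_residueField hM
  obtain ⟨p45, p770, -, -⟩ := pairs_conj hG T
  set f : G → Res M := fun g => rv M ((T.a770 : G → ℂ) g) + rv M ((T.a45 : G → ℂ) g) +
    rv M ((T.b231 : G → ℂ) g) with hf
  refine ⟨T, f, ⟨fun a b => ?_, fun g => ?_⟩, fun g => ?_⟩
  · have hc : IsConj (a * b) (b * a) := isConj_iff.2 ⟨a⁻¹, by group⟩
    simp only [hf, val_of_conj hc]
  · simp only [hf, rv_sq hM, add_pow_char]
  set Φ : G → Res M := fun g => rv M ((T.c22 : G → ℂ) g) + rv M ((T.a770 : G → ℂ) g) +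
    rv M ((T.b770 : G → ℂ) g) + rv M ((T.a45 : G → ℂ) g) + rv M ((T.b45 : G → ℂ) g) +
    rv M ((T.b231 : G → ℂ) g) + rv M ((T.c231 : G → ℂ) g) with hΦ
  have hit : ∀ i, Φ (g ^ 2 ^ i) = Φ g ^ 2 ^ i := fun i => by
    induction i with
    | zero => simp
    | succ i ih =>
      rw [pow_succ 2 i, pow_mul g, pow_two (g ^ 2 ^ i), pow_mul (Φ g), ← ih]
      simp only [hΦ, rv_sq hM, add_pow_char]
  have h2 : ¬ 2 ∣ orderOf (g ^ 2 ^ 7) := fun h => by
    have h3 : (g ^ 2 ^ 7) ^ 79695 = 1 := by
      rw [← pow_mul, show 2 ^ 7 * 79695 = ord from rfl, ← hG, pow_card_eq_one']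
    exact absurd (h.trans (orderOf_dvd_of_pow_eq_one h3)) (by norm_num)
  have h4 := hit 7
  rw [show Φ (g ^ 2 ^ 7) = 0 from parity hG T hM hgood h2] at h4
  have h0 : Φ g = 0 := (pow_eq_zero_iff (by norm_num)).1 h4.symm
  have hinv : ∀ {χ ψ : IrrCharacter G}, Char.conjIrr χ = ψ →
      rv M ((χ : G → ℂ) g⁻¹) = rv M ((ψ : G → ℂ) g) := fun h => by
    rw [← h, Char.conjIrr_apply, conj_eq_inv]
  simp only [hΦ] at h0
  simp only [hf, hinv p45, hinv p770, hinv hgood]
  linear_combination h0 - (rv M ((T.a770 : G → ℂ) g) + rv M ((T.a45 : G → ℂ) g) +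
    rv M ((T.b231 : G → ℂ) g) + rv M ((T.b770 : G → ℂ) g) + rv M ((T.b45 : G → ℂ) g) +
    rv M ((T.c231 : G → ℂ) g)) * CharTwo.two_eq_zero (R := Res M)

end CfsgLib.Blocks.Order10200960
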