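import Cfsg.Agent.Lib.Blocks.Order10200960.Coords
import Cfsg.Agent.Lib.Blocks.Order95040.Basic
import Mathlib.LinearAlgebra.Matrix.Charpoly.Coeff

/-!
# A simple group of order 10200960 is determined up to isomorphism
-/

set_option autoImplicit false
set_option maxRecDepth 10000

namespace CfsgLib.Blocks.Order10200960

open Cfsg CfsgLib CfsgLib.Char CfsgLib.CharIntegral CfsgLib.Blocks.PrimeSylow Matrix
open CfsgLib.Blocks.Order95040 (deg cent)
open CfsgLib.Blocks.Order443520 (dualRep dualRep_apply)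
open scoped Classical

theorem sub_one_pow_two_pow {R : Type*} [Ring R] [CharP R 2] (x : R) (n m : ℕ) (hm : m = 2 ^ n) :
    (x - 1) ^ m = x ^ m - 1 := by
  subst hm
  rw [sub_pow_char_pow_of_commute (p := 2) (h := Commute.one_right x), one_pow]

theorem pow_sixteen_aux {R : Type*} [Ring R] [CharP R 2] (x : R) (n : ℕ)
    (hd : ∀ N : R, IsNilpotent N → N ^ 11 = 0) (h : x ^ 2 ^ n = 1) : x ^ 16 = 1 := by
  rw [← sub_eq_zero, ← sub_one_pow_two_pow x 4 16 (by norm_num)]
  exact pow_eq_zero_of_le (by norm_num)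
    (hd (x - 1) ⟨2 ^ n, by rw [sub_one_pow_two_pow x n _ rfl, h, sub_self]⟩)

theorem nilpotent_pow_card {k : ℕ} {K : Type*} [Field K] (N : Matrix (Fin k) (Fin k) K)
    (hN : IsNilpotent N) : N ^ k = 0 := by
  have hc := (isNilpotent_charpoly_sub_pow_of_isNilpotent hN).eq_zero
  rw [sub_eq_zero, Fintype.card_fin] at hc
  have h11 := Matrix.aeval_self_charpoly N
  rwa [hc, map_pow, Polynomial.aeval_X] at h11

/-- A unipotent matrix of degree eleven has order at most sixteen. -/
theorem pow_sixteen {X : Matrix (Fin 11) (Fin 11) (ZMod 2)} {n : ℕ}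
    (h : X ^ 2 ^ n = 1) : X ^ 16 = 1 :=
  pow_sixteen_aux X n (fun N => nilpotent_pow_card N) h

variable {G : Type*} [Group G] [Fintype G] [IsSimpleGroup G] (hG : Nat.card G = ord)
include hG

omit [IsSimpleGroup G] in
/-- The possible element orders in a faithful representation of degree eleven. -/
theorem pow_cases [Fintype (IrrCharacter G)] (T : Tbl G)
    (ψ : G →* Matrix (Fin 11) (Fin 11) (ZMod 2)) (hψ : Function.Injective ψ) (g : G) :
    g ^ 720 = 1 ∨ g ^ 14 = 1 ∨ g ^ 11 = 1 ∨ g ^ 23 = 1 := by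
  have : Fact (Nat.Prime 7) := ⟨by norm_num⟩
  by_cases h7 : 7 ∣ orderOf g
  · refine Or.inr (Or.inl ?_)
    have ho : orderOf (g ^ (orderOf g / 7)) = 7 := orderOf_pow_orderOf_div (orderOf_pos g).ne' h7
    have h1 : orderOf g ∣ cent (g ^ (orderOf g / 7)) := Subgroup.orderOf_dvd_natCard _
      (Subgroup.mem_centralizer_singleton_iff.2 ((Commute.self_pow g _).eq))
    rw [T.L7.cent_of_orderOf hG (Or.inl rfl) ho, T.v7] at h1
    exact orderOf_dvd_iff_pow_eq_one.1 h1
  by_cases h11 : 11 ∣ orderOf g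
  · refine Or.inr (Or.inr (Or.inl ?_))
    rw [← Local.order_eq hG (Or.inr (Or.inl rfl)) T.L11 T.v11 h11]
    exact pow_orderOf_eq_one g
  by_cases h23 : 23 ∣ orderOf g
  · refine Or.inr (Or.inr (Or.inr ?_))
    rw [← Local.order_eq hG (Or.inr (Or.inr rfl)) T.L23 T.v23 h23]
    exact pow_orderOf_eq_one g
  refine Or.inl (hψ ?_)
  have h1 : orderOf g ∣ 5760 := by
    have hc : Nat.Coprime (orderOf g) (7 * 11 * 23) :=
      (((Nat.Prime.coprime_iff_not_dvd (by norm_num)).2 h7).symm.mul_right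
        ((Nat.Prime.coprime_iff_not_dvd (by norm_num)).2 h11).symm).mul_right
        ((Nat.Prime.coprime_iff_not_dvd (by norm_num)).2 h23).symm
    have hd : orderOf g ∣ 5760 * (7 * 11 * 23) := by
      rw [show 5760 * (7 * 11 * 23) = ord from rfl, ← hG]
      exact orderOf_dvd_natCard g
    exact hc.dvd_of_dvd_mul_right hd
  have h2 : ψ (g ^ 45) ^ 16 = 1 := pow_sixteen (n := 7) (by
    rw [← map_pow, ← pow_mul, show 45 * 2 ^ 7 = 5760 from rfl,
      orderOf_dvd_iff_pow_eq_one.1 h1, map_one])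
  rw [← map_pow, ← pow_mul] at h2
  rw [h2, map_one]

omit [Fintype G] [IsSimpleGroup G] hG in
/-- A word in the generators. -/
theorem evalP_eq (ψ : G →* Matrix (Fin 11) (Fin 11) (ZMod 2)) {z h y : G} {Z H V : ℕ}
    (hz : ψ z = toMat Z) (hh : ψ h = toMat H) (hy : ψ y = toMat V) (w : List ℕ) :
    ψ (evalW z h y w) = toMat (evalP Z H V w) := by
  rw [map_evalW, toMat_evalP, hz, hh, hy]

/-- The standard generators in suitable coordinates. -/
theorem exists_target : ∃ (z h y : G) (ψ : G →* Matrix (Fin 11) (Fin 11) (ZMod 2)),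
    orderOf z = 23 ∧ orderOf h = 11 ∧ orderOf y = 5 ∧ h⁻¹ * z * h = z ^ 2 ∧
    y⁻¹ * h * y = h ^ 3 ∧ ψ z = toMat zP ∧ ψ h = toMat hP ∧ Function.Injective ψ ∧
    ψ y = toMat stdP := by
  have : Fintype (IrrCharacter G) := Fintype.ofFinite _
  have : Fact (Nat.Prime 5) := ⟨Nat.prime_five⟩
  obtain ⟨T⟩ := exists_tbl hG
  obtain ⟨z, h, ψ, hz, hh, hhz, hψz, hψh, hinj⟩ := exists_std hG
  obtain ⟨n, hn, hnh⟩ := exists_five hG T hh
  obtain ⟨r, hr, hY⟩ := exists_candidate (Y := ψ n) (by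
    rw [← hψh, ← map_pow, ← map_mul, ← map_mul, ← hnh]; group)
  have hchk := List.all_eq_true.1 candidates_all r (List.mem_range.2 hr)
  simp only [checkY, Bool.or_eq_true] at hchk
  have hn5 : n ^ 5 = 1 := hn ▸ pow_orderOf_eq_one n
  have hmove : moves (candY r) = true := by
    rcases hchk with (e | e) | e
    · rw [Bool.not_eq_true'] at e
      exact absurd (by rw [toMat_pow5P, hY, ← map_pow, hn5, map_one, toMat_oneP]) (toMat_ne e)
    · exfalso
      obtain ⟨w, -, hw⟩ := List.any_eq_true.1 e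
      simp only [badPow, Bool.not_eq_true', Bool.or_eq_false_iff] at hw
      obtain ⟨⟨⟨e1, e2⟩, e3⟩, e4⟩ := hw
      have hev := evalP_eq ψ hψz hψh hY.symm w
      rcases pow_cases hG T ψ hinj (evalW z h n w) with e | e | e | e
      · exact toMat_ne e1 (by rw [toMat_pow720P, ← hev, ← map_pow, e, map_one, toMat_oneP])
      · exact toMat_ne e2 (by rw [toMat_pow14P, ← hev, ← map_pow, e, map_one, toMat_oneP])
      · exact toMat_ne e3 (by rw [toMat_pow11P, ← hev, ← map_pow, e, map_one, toMat_oneP])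
      · exact toMat_ne e4 (by rw [toMat_pow23P, ← hev, ← map_pow, e, map_one, toMat_oneP])
    · exact e
  simp only [moves, List.any_eq_true, Bool.or_eq_true, List.mem_range] at hmove
  obtain ⟨j, -, hj⟩ := hmove
  suffices hs : ∃ (z' : G) (ψ' : G →* Matrix (Fin 11) (Fin 11) (ZMod 2)), orderOf z' = 23 ∧
      h⁻¹ * z' * h = z' ^ 2 ∧ ψ' z' = toMat zP ∧ ψ' h = toMat hP ∧ Function.Injective ψ' ∧
      ψ' (h ^ j * n) = toMat stdP by
    obtain ⟨z', ψ', a1, a2, a3, a4, a5, a6⟩ := hs
    have hrel : (h ^ j * n)⁻¹ * h * (h ^ j * n) = h ^ 3 := by rw [← hnh]; group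
    refine ⟨z', h, h ^ j * n, ψ', a1, hh, orderOf_eq_prime (a5 ?_) fun e => ?_, a2, hrel, a3, a4,
      a5, a6⟩
    · rw [map_pow, a6, ← toMat_pow5P, toMat_eq std_spec.2.2.1, toMat_oneP, map_one]
    · rw [e, inv_one, one_mul, mul_one] at hrel
      have : h ^ 3 = h ^ 1 := by rw [pow_one]; exact hrel.symm
      rw [pow_eq_pow_iff_modEq, hh] at this
      exact absurd this (by decide)
  rcases hj with hj | hj
  · refine ⟨z, ψ, hz, hhz, hψz, hψh, hinj, ?_⟩
    rw [map_mul, map_pow, hψh, ← toMat_powP, ← hY, ← toMat_mulP]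
    exact toMat_eq hj
  · obtain ⟨o1, o2, o3, o4⟩ := flip_spec
    have p1 : toMat flipP * toMat flipInvP = 1 := by rw [← toMat_mulP, toMat_eq o1, toMat_oneP]
    have p2 : toMat flipInvP * toMat flipP = 1 := by rw [← toMat_mulP, toMat_eq o2, toMat_oneP]
    have hzi : ψ (z⁻¹)⁻¹ = toMat zP := by rw [inv_inv, hψz]
    have hhi : ψ h⁻¹ = toMat (powP hP 10) := by
      rw [toMat_powP, ← hψh, ← map_pow,
        show h⁻¹ = h ^ 10 from inv_eq_of_mul_eq_one_right (by
          rw [← pow_succ', show (10 + 1 : ℕ) = orderOf h by rw [hh], pow_orderOf_eq_one])]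
    have hni : ψ n⁻¹ = toMat (pow4P (candY r)) := by
      rw [toMat_pow4P, hY, ← map_pow,
        show n⁻¹ = n ^ 4 from inv_eq_of_mul_eq_one_right (by rw [← pow_succ', hn5])]
    have hh' : conjHom (dualRep ψ) _ _ p1 p2 h = toMat hP := by
      rw [conjHom_apply, dualRep_apply, hhi, ← toMat_trP, ← toMat_mulP, ← toMat_mulP]
      exact toMat_eq o4
    refine ⟨z⁻¹, conjHom (dualRep ψ) _ _ p1 p2, by rw [orderOf_inv, hz], ?_, ?_, hh', ?_, ?_⟩
    · rw [inv_pow, ← hhz]; group
    · rw [conjHom_apply, dualRep_apply, hzi, ← toMat_trP, ← toMat_mulP, ← toMat_mulP]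
      exact toMat_eq o3
    · intro a b e
      refine inv_injective (hinj (Matrix.transpose_injective ?_))
      have e' := congrArg (fun X => toMat flipInvP * X * toMat flipP) e
      simp only [conjHom_apply, dualRep_apply, mul_assoc, p2, mul_one] at e'
      simpa only [← mul_assoc, p2, one_mul] using e'
    · rw [map_mul, map_pow, hh', ← toMat_powP, conjHom_apply, dualRep_apply, hni, ← toMat_trP,
        ← toMat_mulP, ← toMat_mulP, ← toMat_mulP]
      exact toMat_eq hj

omit [IsSimpleGroup G] in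
/-- A subgroup containing the normalizer of a cyclic Sylow subgroup has index one modulo the
prime. -/
theorem index_mod {p : ℕ} [Fact p.Prime] (hp : p = 11 ∨ p = 23) (L : Local G p)
    (hV : Nat.card L.V = 1) (U : Subgroup G) {x : G} (hx : orderOf x = p) (hxU : x ∈ U)
    {r : G} (hrU : r ∈ U) (hr : orderOf r = L.e)
    (hnorm : r⁻¹ * x * r ∈ Subgroup.zpowers x) :
    L.e * p ∣ Nat.card U ∧ U.index % p = 1 := by
  have hp' : p = 7 ∨ p = 11 ∨ p = 23 := Or.inr hp
  set W := Subgroup.zpowers (⟨x, hxU⟩ : U) with hW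
  have hWc : Nat.card W = p := by rw [hW, Nat.card_zpowers, Subgroup.orderOf_mk, hx]
  obtain ⟨P0⟩ : Nonempty (Sylow p G) := inferInstance
  have hsq : ¬ p ∣ W.index := fun hd => by
    have h1 : p * p ∣ Nat.card U := by
      rw [← W.card_mul_index, hWc]
      exact Nat.mul_dvd_mul_left p hd
    have h2 := h1.trans (hG ▸ Subgroup.card_subgroup_dvd_card U)
    rcases hp with rfl | rfl <;> norm_num [ord] at h2
  obtain ⟨S, hS⟩ : ∃ S : Sylow p U, (S : Subgroup U) = W :=
    ⟨IsPGroup.toSylow (IsPGroup.of_card (n := 1) (by rw [hWc, pow_one])) hsq, rfl⟩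
  obtain ⟨q1, q2⟩ := Order95040.sylow_count S
  rw [hS] at q2
  obtain ⟨Q, hQ⟩ : ∃ Q : Sylow p G, (Q : Subgroup G) = Subgroup.zpowers x := by
    obtain ⟨Q, hQ⟩ := Order95040.exists_sylow_mem hx
    exact ⟨Q, (Subgroup.eq_of_le_of_card_ge (Subgroup.zpowers_le.2 hQ)
      (by rw [card_sylow hG hp' Q, Nat.card_zpowers, hx])).symm⟩
  obtain ⟨t1, t2⟩ := Order95040.sylow_count Q
  obtain ⟨P1, hP1⟩ := (IsPGroup.of_card (G := L.P) (n := 1)
    (by rw [L.setup.card, pow_one])).exists_le_sylow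
  have hP1' : (P1 : Subgroup G) = L.P := (Subgroup.eq_of_le_of_card_ge hP1
    (le_of_eq ((card_sylow hG hp' P1).trans L.setup.card.symm))).symm
  have t3 := (Order95040.sylow_count P1).2
  rw [hP1', L.card_normalizer, hV, mul_one] at t3
  have hNx : Nat.card (Subgroup.normalizer (Subgroup.zpowers x : Set G)) = L.e * p := by
    rw [← hQ]
    exact Nat.eq_of_mul_eq_mul_left Nat.card_pos (t2.trans t3.symm)
  rw [hQ, hNx] at t2
  have hmap : W.map U.subtype = Subgroup.zpowers x := by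
    rw [hW, MonoidHom.map_zpowers]; rfl
  have hdvd1 : Nat.card (Subgroup.normalizer (W : Set U)) ∣ L.e * p := by
    rw [← hNx, Nat.card_congr (Subgroup.equivMapOfInjective _ U.subtype
      U.subtype_injective).toEquiv]
    refine Subgroup.card_dvd_of_le ?_
    rintro _ ⟨n, hn, rfl⟩
    refine Subgroup.mem_normalizer_iff.2 fun a => ?_
    rw [← hmap]
    constructor
    · rintro ⟨b, hb, rfl⟩
      exact ⟨n * b * n⁻¹, (Subgroup.mem_normalizer_iff.1 hn b).1 hb, rfl⟩
    · rintro ⟨b, hb, e⟩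
      refine ⟨n⁻¹ * b * n, ?_, ?_⟩
      · simpa using (Subgroup.mem_normalizer_iff.1 (inv_mem hn) b).1 hb
      · simp only [map_mul, map_inv, e]; group
  have hrW : (⟨r, hrU⟩ : U)⁻¹ ∈ Subgroup.normalizer (W : Set U) := by
    obtain ⟨m, hm⟩ := Subgroup.mem_zpowers_iff.1 hnorm
    have hfin : ∀ b ∈ W, (⟨r, hrU⟩ : U)⁻¹ * b * (⟨r, hrU⟩ : U)⁻¹⁻¹ ∈ W := by
      intro b hb
      obtain ⟨j, rfl⟩ := Subgroup.mem_zpowers_iff.1 hb
      refine Subgroup.mem_zpowers_iff.2 ⟨m * j, Subtype.ext ?_⟩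
      push_cast
      rw [_root_.zpow_mul, hm, inv_inv]
      simpa using (conj_zpow (a := r⁻¹) (b := x) (i := j))
    exact Subgroup.mem_normalizer_fintype hfin
  have hdvd2 : L.e * p ∣ Nat.card (Subgroup.normalizer (W : Set U)) := by
    refine Nat.Coprime.mul_dvd_of_dvd_of_dvd ?_ ?_
      (hWc ▸ Subgroup.card_dvd_of_le Subgroup.le_normalizer)
    · have he : L.e ∣ p - 1 := L.data.dvd_e
      have he0 : 0 < L.e := hr ▸ orderOf_pos r
      refine ((Nat.Prime.coprime_iff_not_dvd (Fact.out : p.Prime)).2 fun hd => ?_).symm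
      have h1 := Nat.le_of_dvd he0 hd
      have h2 := Nat.le_of_dvd (by rcases hp with rfl | rfl <;> norm_num) he
      omega
    · have h1 := Subgroup.orderOf_dvd_natCard _ hrW
      rwa [orderOf_inv, Subgroup.orderOf_mk, hr] at h1
  have hN : Nat.card (Subgroup.normalizer (W : Set U)) = L.e * p := Nat.dvd_antisymm hdvd1 hdvd2
  rw [hN] at q2
  refine ⟨Dvd.intro_left _ q2, ?_⟩
  have hidx := U.card_mul_index
  rw [← q2, ← t2, mul_right_comm] at hidx
  have he := Nat.eq_of_mul_eq_mul_right (hN ▸ Nat.card_pos) hidx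
  rw [← he, Nat.mul_mod, q1, one_mul, Nat.mod_mod] at t1
  exact t1

/-- A simple group of order `10200960` is isomorphic to the standard group of matrices. -/
theorem nonempty_mulEquiv_std :
    Nonempty (G ≃* (Submonoid.closure {toMat zP, toMat hP, toMat stdP} :
      Submonoid (Matrix (Fin 11) (Fin 11) (ZMod 2)))) := by
  have : Fintype (IrrCharacter G) := Fintype.ofFinite _
  obtain ⟨T⟩ := exists_tbl hG
  obtain ⟨z, h, y, ψ, hz, hho, hyo, hhz, hy, hψz, hψh, hinj, hψy⟩ := exists_target hG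
  let U := Subgroup.closure ({z, h, y} : Set G)
  have hzU : z ∈ U := Subgroup.subset_closure (by simp)
  have hhU : h ∈ U := Subgroup.subset_closure (by simp)
  have hyU : y ∈ U := Subgroup.subset_closure (by simp)
  obtain ⟨d23, m23⟩ := index_mod hG (Or.inr rfl) T.L23 T.v23 U hz hzU hhU (hho.trans T.e23.symm)
    (hhz ▸ Subgroup.pow_mem _ (Subgroup.mem_zpowers z) 2)
  obtain ⟨d11, m11⟩ := index_mod hG (Or.inl rfl) T.L11 T.v11 U hho hhU hyU (hyo.trans T.e11.symm)
    (hy ▸ Subgroup.pow_mem _ (Subgroup.mem_zpowers h) 3)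
  have hU : U = ⊤ := by
    rw [T.e23] at d23
    rw [T.e11] at d11
    have hd : 1265 ∣ Nat.card U :=
      (by norm_num : Nat.Coprime 5 253).mul_dvd_of_dvd_of_dvd ((dvd_mul_right 5 11).trans d11) d23
    obtain ⟨k, hk⟩ := hd
    have hmul := U.card_mul_index
    rw [hG, hk, ord] at hmul
    have hdvd : U.index ∣ 8064 := ⟨k, by linarith⟩
    have key : ∀ m < 32, 8064 % (253 * m + 1) = 0 → m = 0 := by decide +kernel
    have hle := Nat.le_of_dvd (by norm_num) hdvd
    have hm : U.index = 253 * (U.index / 253) + 1 := by omega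
    have h0 := key (U.index / 253) (by omega) (by rw [← hm]; exact Nat.mod_eq_zero_of_dvd hdvd)
    exact Subgroup.index_eq_one.1 (by omega)
  have hrange : MonoidHom.mrange ψ = Submonoid.closure {toMat zP, toMat hP, toMat stdP} := by
    refine le_antisymm ?_ (Submonoid.closure_le.2 ?_)
    · rintro _ ⟨g, rfl⟩
      have hg : g ∈ U := by rw [hU]; trivial
      induction hg using Subgroup.closure_induction with
      | mem x hx =>
        refine Submonoid.subset_closure ?_
        rcases hx with rfl | rfl | rfl <;> simp [hψz, hψh, hψy]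
      | one => rw [map_one]; exact Submonoid.one_mem _
      | mul a b _ _ ha hb => rw [map_mul]; exact Submonoid.mul_mem _ ha hb
      | inv a _ ha =>
        rw [show a⁻¹ = a ^ (orderOf a - 1) from inv_eq_of_mul_eq_one_right (by
          rw [← pow_succ', Nat.sub_add_cancel (orderOf_pos a), pow_orderOf_eq_one]), map_pow]
        exact Submonoid.pow_mem _ ha _
    · rintro x (rfl | rfl | rfl)
      · exact ⟨z, hψz⟩
      · exact ⟨h, hψh⟩
      · exact ⟨y, hψy⟩
  exact ⟨(MulEquiv.ofBijective ψ.mrangeRestrict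
    ⟨fun a b e => hinj (congrArg Subtype.val e), ψ.mrangeRestrict_surjective⟩).trans
    (MulEquiv.submonoidCongr hrange)⟩

end CfsgLib.Blocks.Order10200960
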