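import Cfsg.Agent.Lib.Blocks.Order10200960.Twist
import Cfsg.Agent.Lib.Blocks.Order95040.SameCounts
import Mathlib.GroupTheory.SpecificGroups.Cyclic

/-!
# Order 10200960 with the element order counts of the simple group
-/

set_option autoImplicit false

namespace CfsgLib.Blocks.Order10200960

open Cfsg CfsgLib
open CfsgLib.Blocks.Order95040 (exists_sylow_mem card_mod_eq_one)
open scoped Classical Pointwise


/-- The conjugation action of an element of order `23` on the elements of a given order has as
many fixed points as counts modulo `23`. -/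
theorem count_mod {M : Type*} [Group M] [Finite M] {z : M} (hz : orderOf z = 23) (n : ℕ) :
    Nat.card {g : M // orderOf g = n} % 23 =
      Nat.card {g : M // orderOf g = n ∧ Commute g z} % 23 := by
  have : Fact (Nat.Prime 23) := ⟨by norm_num⟩
  let S := Subgroup.zpowers z
  let act : MulAction S {g : M // orderOf g = n} :=
    { smul := fun s g => ⟨(s : M) * g * (s : M)⁻¹, by
        rw [CfsgLib.Perm.orderOf_conj_eq]; exact g.2⟩
      one_smul := fun g => Subtype.ext (by show ((1 : S) : M) * g * ((1 : S) : M)⁻¹ = g; simp)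
      mul_smul := fun s t g => Subtype.ext (by
        show ((s * t : S) : M) * g * ((s * t : S) : M)⁻¹ = s * (t * g * (t : M)⁻¹) * (s : M)⁻¹
        rw [Subgroup.coe_mul]; group) }
  have hS : IsPGroup 23 S := IsPGroup.of_card (n := 1) (by rw [Nat.card_zpowers, hz, pow_one])
  have h := hS.card_modEq_card_fixedPoints (α := {g : M // orderOf g = n})
  refine h.trans (congrArg (fun a => a % 23) (Nat.card_congr ?_))
  exact
    { toFun := fun a => ⟨a.1.1, a.1.2, (mul_inv_eq_iff_eq_mul.1
        (congrArg Subtype.val (a.2 ⟨z, Subgroup.mem_zpowers z⟩) :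
          z * (a.1 : M) * z⁻¹ = (a.1 : M))).symm⟩
      invFun := fun a => ⟨⟨a.1, a.2.1⟩, fun s => Subtype.ext (by
        show (s : M) * a.1 * (s : M)⁻¹ = a.1
        obtain ⟨i, hi⟩ := Subgroup.mem_zpowers_iff.1 s.2
        rw [← hi, mul_inv_eq_iff_eq_mul]
        exact ((Commute.zpow_right a.2.2 i).eq).symm)⟩
      left_inv := fun a => rfl
      right_inv := fun a => rfl }

/-- The positive numbers of elements of the various orders, in the simple group. -/
theorem counts_simple {M : Type*} [Group M] [Finite M] [IsSimpleGroup M]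
    (hM : Nat.card M = 10200960) {c n : ℕ} (hcn : c = Nat.card {g : M // orderOf g = n}) :
    c = 1 ∨ 23 ∣ c ∨ c = 887040 := by
  have := Fintype.ofFinite M
  have := Fintype.ofFinite (IrrCharacter M)
  have : Fact (Nat.Prime 23) := ⟨by norm_num⟩
  obtain ⟨T⟩ := exists_tbl (G := M) hM
  by_cases h1 : n = 1
  · left
    rw [hcn, h1, Nat.card_eq_one_iff_unique]
    exact ⟨⟨fun a b => Subtype.ext
      ((orderOf_eq_one_iff.1 a.2).trans (orderOf_eq_one_iff.1 b.2).symm)⟩,
      ⟨⟨1, orderOf_one⟩⟩⟩
  by_cases h23 : n = 23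
  · right; right
    obtain ⟨Q, hQP⟩ := (IsPGroup.of_card (G := T.L23.P) (n := 1)
      (by rw [T.L23.setup.card, pow_one])).exists_le_sylow
    have hQ := card_sylow (G := M) hM (Or.inr (Or.inr rfl)) Q
    have hQe : (Q : Subgroup M) = T.L23.P :=
      (Subgroup.eq_of_le_of_card_ge hQP (le_of_eq (hQ.trans T.L23.setup.card.symm))).symm
    have hmul := (Order95040.sylow_count Q).2
    rw [hQe, T.L23.card_normalizer, T.e23, T.v23, hM] at hmul
    rw [hcn, h23, CfsgLib.Perm.card_orderOf_eq_prime Q hQ]
    omega
  right; left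
  obtain ⟨z, hz⟩ := exists_prime_orderOf_dvd_card' (G := M) 23 (by rw [hM]; norm_num)
  have h := count_mod hz n
  have h0 : Nat.card {g : M // orderOf g = n ∧ Commute g z} = 0 := by
    rw [Nat.card_eq_zero]
    refine Or.inl ⟨fun a => ?_⟩
    have hd := Subgroup.orderOf_dvd_natCard _
      (Subgroup.mem_centralizer_singleton_iff.2 a.2.2.eq :
        a.1 ∈ Subgroup.centralizer ({z} : Set M))
    rw [show Nat.card (Subgroup.centralizer ({z} : Set M)) = 23 from (cent_prime hM T).2.2 hz,
      a.2.1] at hd
    rcases (Nat.dvd_prime (by norm_num : Nat.Prime 23)).1 hd with e | e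
    · exact h1 e
    · exact h23 e
  rw [h0, ← hcn] at h
  exact Nat.dvd_of_mod_eq_zero h

/-- A group of order 10200960 with only such counts is simple. -/
theorem isSimple_of_counts {G : Type*} [Group G] [Finite G] (hG : Nat.card G = 10200960)
    (hcnt : ∀ c n : ℕ, 0 < c → c = Nat.card {g : G // orderOf g = n} →
      c = 1 ∨ 23 ∣ c ∨ c = 887040) : IsSimpleGroup G := by
  have := Fintype.ofFinite G
  have : Fact (Nat.Prime 23) := ⟨by norm_num⟩
  obtain ⟨Q⟩ : Nonempty (Sylow 23 G) := inferInstance
  have hQ := card_sylow (G := G) hG (Or.inr (Or.inr rfl)) Q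
  have hn23 : Nat.card (Sylow 23 G) = 40320 := by
    have hm : Nat.card (Sylow 23 G) % 23 = 1 := card_sylow_modEq_one 23 G
    rcases hcnt _ 23 (Nat.mul_pos (by norm_num) Nat.card_pos)
      (CfsgLib.Perm.card_orderOf_eq_prime Q hQ).symm with h | h | h
    · omega
    · have h' : 23 ∣ Nat.card (Sylow 23 G) :=
        (show Nat.Coprime 23 (23 - 1) by norm_num).dvd_of_dvd_mul_left h
      omega
    · omega
  have hnorm : ∀ z : G, orderOf z = 23 →
      ∀ g : G, Commute g z → orderOf g ∣ 23 := fun z hz g hg => by
    obtain ⟨R, hR⟩ := exists_sylow_mem hz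
    have hRe : (R : Subgroup G) = Subgroup.zpowers z :=
      (Subgroup.eq_of_le_of_card_ge (Subgroup.zpowers_le.2 hR)
        (by rw [card_sylow (G := G) hG (Or.inr (Or.inr rfl)) R, Nat.card_zpowers, hz])).symm
    have hmul := (Order95040.sylow_count R).2
    rw [hG, hn23] at hmul
    set N := Subgroup.normalizer ((R : Subgroup G) : Set G) with hN
    have h253 : Nat.card N = 253 := by omega
    have hmem : ∀ a : G, Commute a z → a ∈ N := fun a ha => by
      refine Subgroup.centralizer_le_normalizer _ (Subgroup.mem_centralizer_iff.2 fun x hx => ?_)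
      rw [hRe] at hx
      obtain ⟨i, rfl⟩ := Subgroup.mem_zpowers_iff.1 hx
      exact (ha.symm.zpow_left i).eq
    have h253' : orderOf g ∣ 23 * 11 := by
      have := Subgroup.orderOf_dvd_natCard _ (hmem g hg)
      rwa [h253] at this
    by_contra hno
    have h11 : 11 ∣ orderOf g := by
      by_contra hnd
      exact hno (((Nat.Prime.coprime_iff_not_dvd (by norm_num : Nat.Prime 11)).2 hnd).symm
        |>.dvd_of_dvd_mul_right h253')
    set y := g ^ (orderOf g / 11) with hy
    have hyo : orderOf y = 11 := orderOf_pow_orderOf_div (orderOf_pos g).ne' h11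
    have hyz : Commute y z := hg.pow_left _
    have hwo : orderOf (y * z) = 253 := by
      rw [hyz.orderOf_mul_eq_mul_orderOf_of_coprime (by rw [hyo, hz]; norm_num), hyo, hz]
    have hwN : Subgroup.zpowers (y * z) = N := Subgroup.eq_of_le_of_card_ge
      (Subgroup.zpowers_le.2 (hmem _ (hyz.mul_left (Commute.refl z))))
      (by rw [h253, Nat.card_zpowers, hwo])
    have hzW : z ∈ Subgroup.zpowers (y * z) := hwN ▸ hmem z (Commute.refl z)
    set W := Subgroup.zpowers (y * z) with hW
    have : Fintype W := Fintype.ofFinite _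
    have hcyc : Nat.card {a : W // orderOf a = 253} = 220 := by
      rw [Nat.card_eq_fintype_card, Fintype.card_subtype,
        IsCyclic.card_orderOf_eq_totient (by rw [← Nat.card_eq_fintype_card, hW, Nat.card_zpowers, hwo])]
      decide +kernel
    have hfix : Nat.card {a : G // orderOf a = 253 ∧ Commute a z} = 220 := by
      rw [← hcyc]
      refine Nat.card_congr
        { toFun := fun a => ⟨⟨a.1, hwN ▸ hmem a.1 a.2.2⟩, by rw [Subgroup.orderOf_mk]; exact a.2.1⟩
          invFun := fun a => ⟨a.1.1, by rw [Subgroup.orderOf_coe]; exact a.2, ?_⟩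
          left_inv := fun a => rfl
          right_inv := fun a => rfl }
      obtain ⟨i, hi⟩ := Subgroup.mem_zpowers_iff.1 a.1.2
      rw [← hi]
      exact ((hyz.mul_left (Commute.refl z)).zpow_left i)
    have hc := count_mod hz 253
    rw [hfix] at hc
    have hpos : 0 < Nat.card {a : G // orderOf a = 253} :=
      Nat.card_pos_iff.2 ⟨⟨⟨y * z, hwo⟩⟩, inferInstance⟩
    rcases hcnt _ 253 hpos rfl with e | e | e
    · rw [e] at hc; norm_num at hc
    · omega
    · rw [e] at hc; norm_num at hc
  -- normal subgroups of order prime to 23 are trivial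
  have hsmall : ∀ K : Subgroup G, K.Normal → ¬ 23 ∣ Nat.card K → K = ⊥ := by
    intro K hK h23
    have hidx : 23 ∣ K.index := by
      have h := K.index_mul_card
      rw [hG] at h
      exact ((Nat.Prime.coprime_iff_not_dvd (by norm_num : Nat.Prime 23)).2 h23).dvd_of_dvd_mul_right
        (h.symm ▸ by norm_num)
    by_contra hne
    obtain ⟨q, hq, hqK⟩ := Nat.exists_prime_and_dvd (fun e => hne (Subgroup.card_eq_one.1 e))
    have : Fact q.Prime := ⟨hq⟩
    have hq23 : q ≠ 23 := fun e => h23 (e ▸ hqK)
    obtain ⟨P⟩ : Nonempty (Sylow q K) := inferInstance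
    set R := (P : Subgroup K).map K.subtype with hR
    have hN := Sylow.normalizer_sup_eq_top P
    have hrel : K.index ∣ Nat.card (Subgroup.normalizer (R : Set G)) := by
      rw [← Subgroup.relIndex_top_right K, ← hN, Subgroup.relIndex_sup_right]
      exact Subgroup.index_dvd_card _ |>.trans (dvd_of_eq rfl)
    obtain ⟨⟨z, hzN⟩, hz⟩ := exists_prime_orderOf_dvd_card'
      (G := Subgroup.normalizer (R : Set G)) 23 (hidx.trans hrel)
    rw [← Subgroup.orderOf_coe] at hz
    obtain ⟨a, ha⟩ := P.isPGroup'.exists_card_eq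
    have hRcard : Nat.card R = q ^ a := by
      rw [hR, ← ha]
      exact (Nat.card_congr ((P : Subgroup K).equivMapOfInjective K.subtype
        K.subtype_injective).toEquiv).symm
    have h1 := card_mod_eq_one hz R hzN fun g hg hc => by
      have hd1 := hnorm z hz g hc
      have hd2 := Subgroup.orderOf_dvd_natCard _ hg
      rw [hRcard] at hd2
      refine orderOf_eq_one_iff.1 (Nat.eq_one_of_dvd_coprimes ?_ hd1 hd2)
      exact Nat.Coprime.pow_right _ ((Nat.coprime_primes (by norm_num) hq).2 hq23.symm)
    rw [hRcard] at h1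
    have hle : q ^ a ∣ 10200960 := by
      rw [← hG, ← hRcard]; exact Subgroup.card_subgroup_dvd_card R
    have ha0 : a ≠ 0 := fun e => by
      have := P.dvd_card_of_dvd_card hqK
      rw [ha, e, pow_zero] at this
      exact hq.not_dvd_one this
    have hcases : q = 2 ∨ q = 3 ∨ q = 5 ∨ q = 7 ∨ q = 11 := by
      have h : q ∣ 2 ^ 7 * 3 ^ 2 * 5 * 7 * 11 * 23 := (dvd_pow_self q ha0).trans hle
      simp only [hq.dvd_mul] at h
      have hp : ∀ {r k : ℕ}, r.Prime → q ∣ r ^ k → q = r := fun hr hd =>
        (Nat.prime_dvd_prime_iff_eq hq hr).1 (hq.dvd_of_dvd_pow hd)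
      rcases h with ((((h | h) | h) | h) | h) | h
      · exact Or.inl (hp Nat.prime_two h)
      · exact Or.inr (Or.inl (hp Nat.prime_three h))
      · exact Or.inr (Or.inr (Or.inl ((Nat.prime_dvd_prime_iff_eq hq Nat.prime_five).1 h)))
      · exact Or.inr (Or.inr (Or.inr (Or.inl
          ((Nat.prime_dvd_prime_iff_eq hq (by norm_num)).1 h))))
      · exact Or.inr (Or.inr (Or.inr (Or.inr
          ((Nat.prime_dvd_prime_iff_eq hq (by norm_num)).1 h))))
      · exact absurd ((Nat.prime_dvd_prime_iff_eq hq (by norm_num)).1 h) hq23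
    have hbound : a < 8 := by
      by_contra hlt
      have h8 : q ^ 8 ∣ 10200960 := (pow_dvd_pow q (Nat.le_of_not_lt hlt)).trans hle
      rcases hcases with rfl | rfl | rfl | rfl | rfl <;> norm_num at h8
    rcases hcases with rfl | rfl | rfl | rfl | rfl <;> interval_cases a <;>
      first | exact absurd rfl ha0 | omega | (revert hle; norm_num)
  have : Nontrivial G := Finite.one_lt_card_iff_nontrivial.1 (by rw [hG]; norm_num)
  refine ⟨fun K hK => ?_⟩
  by_cases h23 : 23 ∣ Nat.card K
  swap
  · exact Or.inl (hsmall K hK h23)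
  right
  have hsyl : ∀ R : Sylow 23 G, (R : Subgroup G) ≤ K := fun R g hg => by
    by_contra hno
    have hd : orderOf (g : G ⧸ K) ∣ 23 :=
      (orderOf_map_dvd (QuotientGroup.mk' K) g).trans
        ((Subgroup.orderOf_dvd_natCard _ hg).trans (dvd_of_eq (card_sylow (G := G) hG (Or.inr (Or.inr rfl)) R)))
    rcases (Nat.dvd_prime (by norm_num : Nat.Prime 23)).1 hd with h | h
    · rw [orderOf_eq_one_iff, QuotientGroup.eq_one_iff] at h
      exact hno h
    · have h2 : 23 ∣ K.index := by
        rw [← h, Subgroup.index_eq_card]; exact orderOf_dvd_natCard _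
      have h3 : 23 * 23 ∣ 10200960 := by
        rw [← hG, ← K.index_mul_card]; exact Nat.mul_dvd_mul h2 h23
      norm_num at h3
  have hQK := hsyl Q
  let QK : Sylow 23 K := Q.subtype hQK
  have hnK : Nat.card (Sylow 23 K) = 40320 := by
    have hi : Nat.card (Sylow 23 K) ∣ K.index * Nat.card (Sylow 23 K) := Dvd.intro_left _ rfl
    have hinj : Function.Injective fun R : Sylow 23 G => R.subtype (hsyl R) :=
      fun R1 R2 e => Sylow.subtype_injective e
    have hsur : Function.Surjective fun R : Sylow 23 G => R.subtype (hsyl R) := fun P => by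
      obtain ⟨k, hk⟩ := MulAction.exists_smul_eq K QK P
      exact ⟨(k : G) • Q, by
        show ((k : G) • Q).subtype (hsyl _) = P
        rw [← hk]
        exact (Sylow.smul_subtype hQK k).symm⟩
    rw [← hn23]
    exact (Nat.card_congr (Equiv.ofBijective _ ⟨hinj, hsur⟩)).symm
  have hQK' : Nat.card (QK : Subgroup K) = 23 := by
    exact (Nat.card_congr (Subgroup.subgroupOfEquivOfLe hQK).toEquiv).trans hQ
  have hmulK := (Subgroup.normalizer ((QK : Subgroup K) : Set K)).index_mul_card
  rw [show (Subgroup.normalizer ((QK : Subgroup K) : Set K)).index = Nat.card (Sylow 23 K) from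
    (Sylow.card_eq_index_normalizer QK).symm, hnK] at hmulK
  have hN23 : 23 ∣ Nat.card (Subgroup.normalizer ((QK : Subgroup K) : Set K)) :=
    (dvd_of_eq hQK'.symm).trans (Subgroup.card_dvd_of_le Subgroup.le_normalizer)
  have hKdvd : Nat.card K ∣ 10200960 := hG ▸ Subgroup.card_subgroup_dvd_card K
  obtain ⟨j, hj⟩ := hN23
  obtain ⟨i, hi⟩ := hKdvd
  rw [← hmulK, hj] at hi
  have hj11 : j = 1 ∨ j = 11 := by
    have : j ∣ 11 := ⟨i, by linarith⟩
    exact (Nat.dvd_prime (by norm_num : Nat.Prime 11)).1 this
  rcases hj11 with rfl | rfl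
  · exfalso
    have hle : (QK : Subgroup K) ≤ Subgroup.normalizer ((QK : Subgroup K) : Set K) :=
      Subgroup.le_normalizer
    have heq : Subgroup.normalizer ((QK : Subgroup K) : Set K) = (QK : Subgroup K) :=
      (Subgroup.eq_of_le_of_card_ge hle (by rw [hQK', hj])).symm
    have hNC : Subgroup.normalizer ((QK : Subgroup K) : Set K) ≤
        Subgroup.centralizer ((QK : Subgroup K) : Set K) := by
      rw [heq]
      intro x hx
      refine Subgroup.mem_centralizer_iff.2 fun y hy => ?_
      have : IsCyclic (QK : Subgroup K) := isCyclic_of_prime_card hQK'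
      exact congrArg Subtype.val
        ((IsCyclic.isMulCommutative (α := (QK : Subgroup K))).is_comm.comm ⟨y, hy⟩ ⟨x, hx⟩)
    have hco := MonoidHom.ker_transferSylow_isComplement' QK hNC
    have hL := hco.card_mul
    rw [hQK', ← hmulK, hj] at hL
    set L := (MonoidHom.transferSylow QK hNC).ker
    have hLcard : Nat.card L = 40320 := by omega
    have hLchar : L.Characteristic := by
      refine Subgroup.characteristic_iff_map_le.2 fun φ => ?_
      rintro _ ⟨x, hx, rfl⟩
      by_contra hno
      have ho : orderOf (MonoidHom.transferSylow QK hNC (φ x)) ∣ 23 :=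
        (orderOf_dvd_natCard _).trans (dvd_of_eq hQK')
      have ho2 : orderOf (MonoidHom.transferSylow QK hNC (φ x)) ∣ 40320 :=
        (orderOf_map_dvd _ _).trans (by
          rw [MulEquiv.orderOf_eq φ x, ← hLcard]
          exact Subgroup.orderOf_dvd_natCard L hx)
      exact hno (orderOf_eq_one_iff.1
        (Nat.eq_one_of_dvd_coprimes (by norm_num : Nat.Coprime 23 40320) ho ho2))
    have hLG : (L.map K.subtype).Normal := ConjAct.normal_of_characteristic_of_normal
    have hLm : Nat.card (L.map K.subtype) = 40320 :=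
      (Nat.card_congr (L.equivMapOfInjective K.subtype K.subtype_injective).toEquiv).symm.trans hLcard
    have h := hsmall _ hLG (by rw [hLm]; norm_num)
    rw [h, Subgroup.card_bot] at hLm
    norm_num at hLm
  · exact Subgroup.eq_top_of_card_eq K (by rw [hG, ← hmulK, hj])

end CfsgLib.Blocks.Order10200960
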