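import Mathlib.Algebra.BigOperators.Group.Multiset.Basic
import Mathlib.Algebra.Order.BigOperators.Group.Multiset
import Mathlib.Data.Int.Lemmas
import Mathlib.Tactic

/-!
# Searches over multisets of degrees and of values

`combos` lists the multisets of a given size of degrees as degrees with multiplicities, `vals` the
multisets of values for such a list, both within budgets.
-/

set_option autoImplicit false

namespace CfsgLib.Blocks.Order10200960

/-- A degree with a value. -/
abbrev Cell : Type := ℕ × ℤ

/-- A degree with a multiplicity. -/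
abbrev Run : Type := ℕ × ℕ

/-- Prepend a run, unless it is empty. -/
def consRun (d j : ℕ) (L : List Run) : List Run := if j == 0 then L else (d, j) :: L

/-- The multisets of `k` members of the pool within two budgets. -/
def combos (mn : ℕ → ℕ) : List ℕ → ℕ → ℕ → ℕ → List (List Run)
  | [], k, _, _ => if k == 0 then [[]] else []
  | d :: ds, k, B, B' => (List.range (k + 1)).flatMap fun j =>
      if decide (j * (d * d) ≤ B) && decide (j * mn d ≤ B') then
        (combos mn ds (k - j) (B - j * (d * d)) (B' - j * mn d)).map (consRun d j) else []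

/-- The multisets of `k` values within a budget for the squares. -/
def pick : ℕ → List ℤ → ℕ → List (List ℤ)
  | 0, _, _ => [[]]
  | k + 1, vs, B => vs.tails.flatMap fun l =>
      match l with
      | [] => []
      | v :: _ => if v.natAbs * v.natAbs ≤ B then
          (pick k l (B - v.natAbs * v.natAbs)).map fun r => v :: r else []

/-- The multisets of cells on the runs within a budget for the squares. -/
def vals (vs : ℕ → List ℤ) : List Run → ℕ → List (List Cell)
  | [], _ => [[]]
  | (d, j) :: L, B => (pick j (vs d) B).flatMap fun r =>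
      (vals vs L (B - (r.map fun v => v.natAbs * v.natAbs).sum)).map fun R =>
        r.map (fun v => (d, v)) ++ R

/-- The degrees of the runs. -/
def flat (L : List Run) : List ℕ := L.flatMap fun r => List.replicate r.2 r.1

theorem exists_first {α : Type*} {M : Multiset α} (hM : M ≠ 0) :
    ∀ ts : List α, (∀ t ∈ M, t ∈ ts) →
      ∃ t rest, (t :: rest) ∈ ts.tails ∧ t ∈ M ∧ ∀ u ∈ M, u ∈ t :: rest
  | [], h => by
    obtain ⟨t, ht⟩ := Multiset.exists_mem_of_ne_zero hM
    exact absurd (h t ht) List.not_mem_nil
  | a :: ts, h => by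
    by_cases ha : a ∈ M
    · exact ⟨a, ts, by simp, ha, h⟩
    · obtain ⟨t, rest, h1, h2, h3⟩ := exists_first hM ts fun u hu =>
        (List.mem_cons.1 (h u hu)).resolve_left fun e => ha (e ▸ hu)
      refine ⟨t, rest, ?_, h2, h3⟩
      rw [List.mem_tails] at h1 ⊢
      exact h1.trans (List.suffix_cons a ts)

theorem flat_consRun (d j : ℕ) (L : List Run) :
    flat (consRun d j L) = List.replicate j d ++ flat L := by
  unfold consRun
  split_ifs with h
  · rw [beq_iff_eq] at h; subst h; simp
  · simp [flat]

/-- A multiset within the budgets is listed. -/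
theorem combos_sound {mn : ℕ → ℕ} : ∀ {pool : List ℕ}, pool.Nodup → ∀ {k B B' : ℕ}
    (M : Multiset ℕ), (∀ x ∈ M, x ∈ pool) → Multiset.card M = k →
    (M.map fun d => d * d).sum ≤ B → (M.map mn).sum ≤ B' →
    ∃ L ∈ combos mn pool k B B', (flat L : Multiset ℕ) = M
  | [], _, k, B, B', M, hM, hc, _, _ => by
    obtain rfl : M = 0 := Multiset.eq_zero_of_forall_notMem fun x hx => List.not_mem_nil (hM x hx)
    rw [Multiset.card_zero] at hc
    subst hc
    exact ⟨[], by simp [combos], rfl⟩
  | d :: ds, hnd, k, B, B', M, hM, hc, h1, h2 => by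
    rw [List.nodup_cons] at hnd
    set j := M.count d with hj
    set M' := M.filter (fun x => ¬ d = x) with hM'
    have hsplit : M = Multiset.replicate j d + M' := by
      rw [hj, ← Multiset.filter_eq, hM', Multiset.filter_add_not]
    rw [hsplit, Multiset.card_add, Multiset.card_replicate] at hc
    rw [hsplit, Multiset.map_add, Multiset.sum_add, Multiset.map_replicate,
      Multiset.sum_replicate, smul_eq_mul] at h1 h2
    obtain ⟨L, hL, hLM⟩ := combos_sound hnd.2 (mn := mn) (k := k - j)
      (B := B - j * (d * d)) (B' := B' - j * mn d) M'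
      (fun x hx => by
        obtain ⟨hx1, hx2⟩ := Multiset.mem_filter.1 hx
        exact (List.mem_cons.1 (hM x hx1)).resolve_left fun e => hx2 e.symm)
      (by omega) (by omega) (by omega)
    refine ⟨consRun d j L, ?_, ?_⟩
    · rw [combos, List.mem_flatMap]
      refine ⟨j, List.mem_range.2 (by omega), ?_⟩
      rw [if_pos]
      · exact List.mem_map.2 ⟨L, hL, rfl⟩
      · rw [Bool.and_eq_true, decide_eq_true_eq, decide_eq_true_eq]
        omega
    · rw [flat_consRun, ← Multiset.coe_add, hLM, Multiset.coe_replicate, ← hsplit]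

/-- A multiset of values within the budget is listed. -/
theorem pick_sound : ∀ {k : ℕ} {vs : List ℤ} {B : ℕ} (M : Multiset ℤ), (∀ v ∈ M, v ∈ vs) →
    Multiset.card M = k → (M.map fun v => v.natAbs * v.natAbs).sum ≤ B →
    ∃ r ∈ pick k vs B, (r : Multiset ℤ) = M
  | 0, vs, B, M, _, hc, _ => by
    rw [Multiset.card_eq_zero] at hc
    subst hc
    exact ⟨[], by simp [pick], rfl⟩
  | k + 1, vs, B, M, hM, hc, hB => by
    obtain ⟨v, rest, h1, h2, h3⟩ := exists_first (M := M) (by
      intro e; rw [e, Multiset.card_zero] at hc; omega) vs hM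
    obtain ⟨M', rfl⟩ := Multiset.exists_cons_of_mem h2
    rw [Multiset.map_cons, Multiset.sum_cons] at hB
    rw [Multiset.card_cons] at hc
    obtain ⟨r, hr, hrM⟩ := pick_sound (k := k) (vs := v :: rest)
      (B := B - v.natAbs * v.natAbs) M' (fun u hu => h3 u (Multiset.mem_cons_of_mem hu))
      (by omega) (by omega)
    refine ⟨v :: r, ?_, by rw [← Multiset.cons_coe, hrM]⟩
    rw [pick, List.mem_flatMap]
    refine ⟨_, h1, ?_⟩
    dsimp only
    rw [if_pos (by omega)]
    exact List.mem_map.2 ⟨r, hr, rfl⟩

theorem flat_cons (d j : ℕ) (L : List Run) : flat ((d, j) :: L) = List.replicate j d ++ flat L :=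
  rfl

/-- A multiset of cells over the runs within the budget is listed. -/
theorem vals_sound {vs : ℕ → List ℤ} : ∀ {L : List Run}, (L.map Prod.fst).Nodup → ∀ {B : ℕ}
    (M : Multiset Cell), (∀ t ∈ M, t.2 ∈ vs t.1) → M.map Prod.fst = (flat L : Multiset ℕ) →
    (M.map fun t => t.2.natAbs * t.2.natAbs).sum ≤ B →
    ∃ R ∈ vals vs L B, (R : Multiset Cell) = M
  | [], _, B, M, _, hM, _ => by
    rw [show (flat [] : Multiset ℕ) = 0 from rfl, Multiset.map_eq_zero] at hM
    subst hM
    exact ⟨[], by simp [vals], rfl⟩
  | (d, j) :: L, hnd, B, M, hv, hM, hB => by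
    rw [List.map_cons, List.nodup_cons] at hnd
    set Md := M.filter (fun t => t.1 = d) with hMd
    set M' := M.filter (fun t => ¬ t.1 = d) with hM'
    have hsplit : M = Md + M' := (Multiset.filter_add_not _ _).symm
    rw [flat_cons, ← Multiset.coe_add, Multiset.coe_replicate] at hM
    have hne : ∀ x ∈ flat L, ¬ x = d := by
      intro x hx e
      obtain ⟨⟨a, b⟩, hab, hxa⟩ := List.mem_flatMap.1 hx
      obtain rfl : x = a := List.eq_of_mem_replicate hxa
      exact hnd.1 (List.mem_map.2 ⟨_, hab, e⟩)
    have h1 : Md.map Prod.fst = Multiset.replicate j d := by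
      show (M.filter ((fun x => x = d) ∘ Prod.fst)).map Prod.fst = _
      rw [← Multiset.filter_map, hM, Multiset.filter_add,
        Multiset.filter_eq_self.2 fun x hx => Multiset.eq_of_mem_replicate hx,
        Multiset.filter_eq_nil.2 fun x hx => hne x (Multiset.mem_coe.1 hx), add_zero]
    have h2 : M'.map Prod.fst = (flat L : Multiset ℕ) := by
      have h3 : M.map Prod.fst = Md.map Prod.fst + M'.map Prod.fst := by
        rw [← Multiset.map_add, ← hsplit]
      rw [hM, h1] at h3
      exact (add_left_cancel h3).symm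
    have hMd' : Md = (Md.map Prod.snd).map fun v => (d, v) := by
      rw [Multiset.map_map]
      conv_lhs => rw [← Multiset.map_id Md]
      exact Multiset.map_congr rfl fun t ht =>
        Prod.ext (Multiset.mem_filter.1 ht).2 rfl
    rw [hsplit, Multiset.map_add, Multiset.sum_add] at hB
    have hsq : ((Md.map Prod.snd).map fun v => v.natAbs * v.natAbs).sum =
        (Md.map fun t => t.2.natAbs * t.2.natAbs).sum := by rw [Multiset.map_map]; rfl
    obtain ⟨r, hr, hrM⟩ := pick_sound (k := j) (vs := vs d) (B := B) (Md.map Prod.snd)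
      (fun v hv' => by
        obtain ⟨t, ht, rfl⟩ := Multiset.mem_map.1 hv'
        obtain ⟨ht1, ht2⟩ := Multiset.mem_filter.1 ht
        exact ht2 ▸ hv t ht1)
      (by rw [Multiset.card_map]
          have := congrArg Multiset.card h1
          rwa [Multiset.card_map, Multiset.card_replicate] at this)
      (by omega)
    have hrs : (r.map fun v => v.natAbs * v.natAbs).sum =
        (Md.map fun t => t.2.natAbs * t.2.natAbs).sum := by
      rw [← hsq, ← hrM, Multiset.map_coe, Multiset.sum_coe]
    obtain ⟨R, hR, hRM⟩ := vals_sound hnd.2 (vs := vs)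
      (B := B - (r.map fun v => v.natAbs * v.natAbs).sum) M'
      (fun t ht => hv t (Multiset.mem_filter.1 ht).1) h2 (by omega)
    refine ⟨r.map (fun v => (d, v)) ++ R, ?_, ?_⟩
    · rw [vals, List.mem_flatMap]
      exact ⟨r, hr, List.mem_map.2 ⟨R, hR, rfl⟩⟩
    · rw [← Multiset.coe_add, hRM, ← Multiset.map_coe, hrM, ← hMd', ← hsplit]

theorem mem_consRun {d j : ℕ} {L : List Run} {r : Run} (h : r ∈ consRun d j L) :
    r = (d, j) ∨ r ∈ L := by
  unfold consRun at h
  split_ifs at h
  · exact Or.inr h
  · exact List.mem_cons.1 h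

/-- The runs have different degrees, all in the pool. -/
theorem combos_runs {mn : ℕ → ℕ} : ∀ {pool : List ℕ}, pool.Nodup → ∀ {k B B' : ℕ} {L : List Run},
    L ∈ combos mn pool k B B' → (L.map Prod.fst).Nodup ∧ ∀ r ∈ L, r.1 ∈ pool
  | [], _, k, B, B', L, hL => by
    rw [combos] at hL
    split_ifs at hL
    · obtain rfl := List.mem_singleton.1 hL
      simp
    · exact absurd hL List.not_mem_nil
  | d :: ds, hnd, k, B, B', L, hL => by
    rw [List.nodup_cons] at hnd
    rw [combos, List.mem_flatMap] at hL
    obtain ⟨j, -, hL⟩ := hL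
    split_ifs at hL
    · obtain ⟨L', hL', rfl⟩ := List.mem_map.1 hL
      obtain ⟨h1, h2⟩ := combos_runs hnd.2 hL'
      refine ⟨?_, fun r hr => ?_⟩
      · unfold consRun
        split_ifs
        · exact h1
        · rw [List.map_cons, List.nodup_cons]
          refine ⟨fun hd => ?_, h1⟩
          obtain ⟨r, hr, e⟩ := List.mem_map.1 hd
          dsimp only at e
          exact hnd.1 (e ▸ h2 r hr)
      · rcases mem_consRun hr with rfl | hr
        · exact List.mem_cons_self
        · exact List.mem_cons_of_mem _ (h2 r hr)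
    · exact absurd hL List.not_mem_nil

end CfsgLib.Blocks.Order10200960
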