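import Cfsg.Agent.Lib.Blocks.Order10200960.Checks

/-!
# The table for 7, six classes and trivial complement
-/

set_option autoImplicit false

set_option maxHeartbeats 4000000

namespace CfsgLib.Blocks.Order10200960

theorem table_one_a : ([128, 384, 640].all killOne) = true := by decide +kernel

theorem table_one_b : ([1152, 1920, 5760].all killOne) = true := by decide +kernel

end CfsgLib.Blocks.Order10200960
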