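import Cfsg.Agent.Lib.Blocks.Order10200960.Eleven
import Cfsg.Agent.Lib.Blocks.Order10200960.TablesSeven
import Cfsg.Agent.Lib.Blocks.Order10200960.TablesSevenSix
import Cfsg.Agent.Lib.Blocks.Order10200960.TablesEight
import Cfsg.Agent.Lib.Blocks.Order10200960.TablesOne
import Cfsg.Agent.Lib.Blocks.Order443520.Values

/-!
# The principal block for seven

The normalizer of a Sylow 7-subgroup has three classes outside the centralizer, and an involution
of the complement has the column `sevenCells`.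
-/

set_option autoImplicit false

namespace CfsgLib.Blocks.Order10200960

open Cfsg CfsgLib CfsgLib.Char CfsgLib.CharIntegral CfsgLib.Blocks.PrimeSylow
open CfsgLib.Blocks.Order95040 (deg cent deg_cast deg_trivChar deg_eq_finrank)
open CfsgLib.Blocks.Order443520 (faithful exists_twist)
open scoped Classical ComplexConjugate

theorem chk7_all {ec : ℕ × ℕ} (h : ec ∈ candList 7) : chk7 ec = true := by
  rcases Bool.eq_false_or_eq_true (ec.1 == 6) with hg | hg
  · exact List.all_eq_true.1 table7_six _ (List.mem_filter.2 ⟨h, hg⟩)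
  · exact List.all_eq_true.1 table7_few _ (List.mem_filter.2 ⟨h, by rw [hg]; rfl⟩)

theorem chk7_spec {e c : ℕ} (h : chk7 (e, c) = true) (h11 : c % 11 ≠ 0) (h23 : c % 23 ≠ 0) :
    (e = 2 ∧ ∀ L ∈ degSols 7 2 c degD degD, L = [(22, 1)]) ∨
    (e = 3 ∧ (c = 2 ∨ c = 16) ∧ ∀ L ∈ degSols 7 3 c degD degD,
      ∀ C ∈ sylCents 7 3 c (fun C => C % 23 == 0 || C % 11 == 0), ∀ r ∈ colsOf 7 3 c C L,
        (C = 2688 ∨ C = 4032) ∧ r = sevenCells) ∨
    (e = 6 ∧ (c = 1 ∨ c = 8 ∨ c = 15)) ∨
    noneChk 7 e c degD (fun C => C % 23 == 0 || C % 11 == 0) = true := by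
  unfold chk7 at h
  dsimp only at h
  simp only [Bool.or_eq_true, Bool.and_eq_true, beq_iff_eq, List.all_eq_true, h11, h23,
    false_or] at h
  rcases h with ((⟨rfl, h⟩ | ⟨⟨rfl, hc⟩, h⟩) | ⟨rfl, hc⟩) | h
  · exact Or.inl ⟨rfl, h⟩
  · exact Or.inr (Or.inl ⟨rfl, hc, h⟩)
  · exact Or.inr (Or.inr (Or.inl ⟨rfl, or_assoc.1 hc⟩))
  · exact Or.inr (Or.inr (Or.inr h))

theorem central_spec : (centList.all fun C =>
    !(C % 128 == 0 && C % 7 != 0 && C % 11 != 0 && C % 23 != 0) || centralList.contains C) =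
      true := by decide +kernel

theorem killOne_all {C : ℕ} (hC : C ∈ centralList) : killOne C = true := by
  have e : centralList = [128, 384, 640] ++ [1152, 1920, 5760] := rfl
  rw [e, List.mem_append] at hC
  rcases hC with h | h
  · exact List.all_eq_true.1 table_one_a _ h
  · exact List.all_eq_true.1 table_one_b _ h

variable {G : Type*} [Group G] [Fintype G]

section Twist

variable (hG : Nat.card G = ord)
include hG

omit hG in
theorem nt_cons {β : Type*} (L : Local G 7) (he : L.e = 6) {θ : IrrCharacter G}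
    (hθ : θ ∈ L.data.Y) (f : IrrCharacter G → β) :
    L.nt.val.map f = f θ ::ₘ L.xs.val.map f := by
  obtain ⟨θ', hY⟩ := Finset.card_eq_one.1 (L.data.card_Y_eq_one he (by norm_num))
  obtain rfl : θ = θ' := Finset.mem_singleton.1 (hY ▸ hθ)
  rw [L.nt_val, hY, Finset.singleton_val, Multiset.map_add, Multiset.map_singleton, add_comm,
    Multiset.singleton_add]

/-- An involution central in a Sylow 2-subgroup. -/
theorem exists_central : ∃ t : G, orderOf t = 2 ∧ 128 ∣ cent t := by
  have : Fact (Nat.Prime 2) := ⟨Nat.prime_two⟩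
  obtain ⟨S⟩ : Nonempty (Sylow 2 G) := inferInstance
  have hS : Nat.card (S : Subgroup G) = 128 := by
    rw [S.card_eq_multiplicity, hG, show ord = 2 ^ 7 * 79695 from rfl,
      Nat.factorization_mul (by norm_num) (by norm_num), Finsupp.add_apply,
      Nat.Prime.factorization_pow Nat.prime_two, Finsupp.single_eq_same,
      Nat.factorization_eq_zero_of_not_dvd (by norm_num : ¬ 2 ∣ 79695)]
    norm_num
  have : Nontrivial (S : Subgroup G) := Finite.one_lt_card_iff_nontrivial.1 (by rw [hS]; norm_num)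
  have := S.isPGroup'.center_nontrivial
  obtain ⟨z, hz⟩ := exists_prime_orderOf_dvd_card' (G := Subgroup.center (S : Subgroup G)) 2 (by
    obtain ⟨b, hb⟩ := (S.isPGroup'.to_subgroup (Subgroup.center _)).exists_card_eq
    rw [hb]
    refine dvd_pow_self 2 fun hb0 => ?_
    have h1 : 1 < Nat.card (Subgroup.center (S : Subgroup G)) :=
      Finite.one_lt_card_iff_nontrivial.2 this
    rw [hb, hb0] at h1
    omega)
  refine ⟨((z : (S : Subgroup G)) : G), by simp only [Subgroup.orderOf_coe, hz], ?_⟩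
  refine hS ▸ Subgroup.card_dvd_of_le fun y hy => Subgroup.mem_centralizer_singleton_iff.2 ?_
  exact congrArg Subtype.val (Subgroup.mem_center_iff.1 z.2 ⟨y, hy⟩)

end Twist

variable [IsSimpleGroup G] (hG : Nat.card G = ord)
include hG

/-- A single member of degree 22 cannot have a complement of order divisible by five. -/
theorem false_of_single (L : Local G 7) (he : L.e = 6) (h5 : 5 ∣ Nat.card L.V)
    (hcount : (L.nt.val.map deg).count 22 = 1) : False := by
  have : Fact (Nat.Prime 7) := ⟨by norm_num⟩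
  have : Fact (Nat.Prime 5) := ⟨by norm_num⟩
  obtain ⟨χ, hχT⟩ : ∃ χ, (L.nt.filter fun χ => 22 = deg χ) = {χ} := by
    rw [Multiset.count_map, ← Finset.filter_val, ← Finset.card_def] at hcount
    exact Finset.card_eq_one.1 hcount
  obtain ⟨hχ, hd⟩ : χ ∈ L.nt ∧ 22 = deg χ :=
    Finset.mem_filter.1 (hχT ▸ Finset.mem_singleton_self χ)
  have huniq : ∀ ψ ∈ L.nt, deg ψ = 22 → ψ = χ := fun ψ hψ h =>
    Finset.mem_singleton.1 (hχT ▸ Finset.mem_filter.2 ⟨hψ, h.symm⟩)
  obtain ⟨c, hc, hval⟩ : ∃ c : ℤ, (c = 1 ∨ c = -1) ∧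
      ∀ x ∈ L.P, x ≠ 1 → ∀ v ∈ L.V, (χ : G → ℂ) (x * v) = (c : ℂ) := by
    rw [L.nt_eq, Finset.mem_union] at hχ
    rcases hχ with h | h
    · exact ⟨L.data.εX χ, L.data.sgnX χ (Finset.mem_of_mem_erase h),
        L.data.valX χ (Finset.mem_of_mem_erase h)⟩
    · refine ⟨-L.data.ε, by rcases L.data.sgnY with e | e <;> simp [e], fun x hx hx1 v hv => ?_⟩
      rw [L.data.valY (L.data.card_Y_eq_one he (by norm_num)) χ h x hx hx1 v hv, Int.cast_neg]
  obtain ⟨x, hx, hx1⟩ := L.exists_mem_P hG
  have hxo := L.setup.orderOf_eq hx hx1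
  have hrat : ∀ m : ℕ, m.Coprime (Nat.card G) → ∀ g, (χ : G → ℂ) (g ^ m) = (χ : G → ℂ) g := by
    intro m hm g
    obtain ⟨ψ, hψ, hψd⟩ := exists_twist χ hm
    have hm7 : ¬ 7 ∣ m := fun h => by
      have := Nat.dvd_gcd h (by rw [hG]; decide : 7 ∣ Nat.card G)
      rw [hm] at this
      norm_num at this
    have hψT : ψ ∈ L.nt := by
      refine Finset.mem_erase.2 ⟨fun e => ?_, ?_⟩
      · rw [e, deg_trivChar] at hψd; omega
      by_contra hn
      have h0 := L.data.off ψ hn x hx hx1
      have hxm : x ^ m ≠ 1 := fun e => hm7 (hxo ▸ orderOf_dvd_of_pow_eq_one e)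
      rw [Finset.sum_congr rfl fun (v : L.V) _ => by
        rw [hψ, (L.setup.commute hx v.2).mul_pow,
          hval _ (Subgroup.pow_mem _ hx m) hxm _ (Subgroup.pow_mem _ v.2 m)],
        Finset.sum_const, Finset.card_univ, nsmul_eq_mul] at h0
      rcases hc with rfl | rfl <;> simp at h0
    rw [← hψ, huniq ψ hψT (hψd.trans hd.symm)]
  obtain ⟨v, hv⟩ := exists_prime_orderOf_dvd_card' (G := L.V) 5 h5
  have hvo : orderOf (v : G) = 5 := by rw [Subgroup.orderOf_coe, hv]
  obtain ⟨u, hu⟩ : ∃ u : ℤ, (χ : G → ℂ) (v : G) = (u : ℂ) :=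
    Perm.RationalValue.exists_eq_int (IsIrr.isCharacter χ.2) _ fun m hm => hrat m hm _
  have hcomm := L.setup.commute hx v.2
  have hv21 : (x * (v : G)) ^ 21 = (v : G) := by
    rw [hcomm.mul_pow, show x ^ 21 = 1 by rw [← pow_mod_orderOf, hxo]; simp, one_mul,
      ← pow_mod_orderOf, hvo, pow_one]
  have h35 : orderOf (x * (v : G)) ∣ 7 * 5 := by
    rw [hcomm.orderOf_mul_eq_mul_orderOf_of_coprime (by rw [hxo, hvo]; norm_num), hxo, hvo]
  have hcu : (7 : ℤ) ∣ u - c := by
    refine Order95040.value_congr (p := 7) (A := 5) (B := 21) (by norm_num) h35 χ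
      (fun k hk0 hk7 => ?_) (by rw [hv21, hu])
    rw [hcomm.mul_pow]
    refine hval _ (Subgroup.pow_mem _ hx _) (fun e => ?_) _ (Subgroup.pow_mem _ v.2 _)
    have := hxo ▸ orderOf_dvd_of_pow_eq_one e
    omega
  obtain ⟨n, ρ, -, hρc'⟩ := χ.2
  have hρc := hρc'.symm
  obtain ⟨μ, hμ, -, hpow, -⟩ := exists_eigenvalues ρ (v : G)
  have hfr : Module.finrank ℂ (Fin n → ℂ) = 22 := by
    rw [Module.finrank_fin_fun, ← deg_eq_finrank hρc]; exact hd.symm
  have hsum : ∑ k ∈ Finset.range 5, (χ : G → ℂ) ((v : G) ^ k) =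
      (5 : ℂ) * ((Finset.univ.filter fun i => μ i = 1).card : ℂ) := by
    simp only [hρc, hpow]
    rw [Finset.sum_comm, Finset.card_filter, Nat.cast_sum, Finset.mul_sum]
    refine Finset.sum_congr rfl fun i _ => ?_
    rw [Order7920.geom_root (by rw [← hvo]; exact hμ i)]
    split_ifs <;> simp
  have hk : ∀ m : ℕ, m.Coprime (Nat.card G) → (χ : G → ℂ) ((v : G) ^ (m % 5)) = (u : ℂ) :=
    fun m hm => by rw [← hvo, pow_mod_orderOf, hrat m hm, hu]
  have h1 := hk 1 (Nat.coprime_one_left _)
  have h2 := hk 17 (by rw [hG]; decide +kernel)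
  have h3 := hk 13 (by rw [hG]; decide +kernel)
  have h4 := hk 19 (by rw [hG]; decide +kernel)
  norm_num at h1 h2 h3 h4
  simp only [Finset.sum_range_succ, Finset.sum_range_zero, zero_add, pow_zero, pow_one, deg_cast,
    h1, h2, h3, h4, hu, ← hd] at hsum
  set N := (Finset.univ.filter fun i => μ i = 1).card with hN
  have hN' : N ≤ 22 := le_trans (Finset.card_le_univ _) (by rw [Fintype.card_fin]; exact hfr.le)
  have hNu : (22 : ℤ) + 4 * u = 5 * (N : ℤ) := by
    have : ((22 + 4 * u : ℤ) : ℂ) = ((5 * (N : ℤ) : ℤ) : ℂ) := by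
      push_cast
      linear_combination hsum
    exact_mod_cast this
  have hu22 : u = 22 := by rcases hc with rfl | rfl <;> omega
  have hne : χ ≠ trivChar G := L.ne_triv_of_mem_nt hχ
  have hv1 : (v : G) = 1 := faithful (perfect hG) hne (by rw [hu, hu22, deg_cast, ← hd]; norm_num)
  rw [hv1, orderOf_one] at hvo
  norm_num at hvo

/-- Three classes for seven. -/
theorem shape7 (L : Local G 7) (L11 : Local G 11) (L23 : Local G 23) :
    L.e = 3 ∧ (Nat.card L.V = 2 ∨ Nat.card L.V = 16) ∧
      ∀ s ∈ L.V, orderOf s = 2 → sylok (cent s) 7 3 (Nat.card L.V) = true →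
        (cent s = 2688 ∨ cent s = 4032) ∧
          L.xs.val.map (cell s) = (sevenCells.1 : Multiset Cell) ∧
          ∀ θ ∈ L.data.Y, cell s θ = sevenCells.2 := by
  have : Fact (Nat.Prime 7) := ⟨by norm_num⟩
  have : Fact (Nat.Prime 11) := ⟨by norm_num⟩
  have := Fintype.ofFinite (IrrCharacter G)
  have hp : (7 : ℕ) = 7 ∨ (7 : ℕ) = 11 ∨ (7 : ℕ) = 23 := Or.inl rfl
  have hc23 := card_V_mod23 hG (Or.inl rfl) L L23
  have hc := small_of small_seven L.cand hc23
  obtain ⟨he11, hV11⟩ := shape11 hG L11 L L23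
  have hD : ∀ χ : IrrCharacter G, χ ≠ trivChar G → deg χ ∈ degD := fun χ hne =>
    deg_memD hG L11 L L23 hne
  have hbad : ∀ s : G, orderOf s = 2 → (cent s % 23 == 0 || cent s % 11 == 0) = false :=
    fun s hs => by
      rw [Bool.or_eq_false_iff, beq_eq_false_iff_ne, beq_eq_false_iff_ne]
      exact ⟨cent_mod23 hG L23 hs, cent_mod11 hG L11 L L23 hs⟩
  have hmem : ∀ χ ∈ L.nt, deg χ ∈ degD := fun χ hχ => hD χ (L.ne_triv_of_mem_nt hχ)
  have htriv : trivChar G ∉ L.nt := fun h => L.ne_triv_of_mem_nt h rfl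
  obtain ⟨R, hR, hRm, hRn⟩ := L.exists_degs hG hp nodup_degD
    (fun χ hχ => hmem χ (by rw [L.nt_eq]; exact Finset.mem_union_left _ hχ))
    (fun θ hθ => hmem θ (by rw [L.nt_eq]; exact Finset.mem_union_right _ hθ))
  obtain ⟨θ, hθ⟩ := L.exists_theta
  obtain ⟨θ11, hθ11⟩ := L11.exists_theta
  obtain ⟨hS, hε, hy⟩ := L.dsum_xs (by norm_num) hθ hRm
  rcases chk7_spec (chk7_all L.cand) (seven_V_mod11 hG L L23) hc23 with
    ⟨he, h⟩ | ⟨he, hcV, h⟩ | ⟨he, hcV⟩ | h
  · -- two classes
    exfalso
    rw [he] at hR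
    obtain rfl := h R hR
    have h23 : deg θ = 23 := by rw [← hy]; rfl
    have hY3 : L.data.Y.card = 3 := by rw [L.cardY_eq (by norm_num), he]
    have hxs : L.xs.val.map deg = ({22} : Multiset ℕ) := by rw [← hRm]; rfl
    have hl : (([22, 23, 23, 23] : List ℕ) : Multiset ℕ) = L.nt.val.map deg := by
      rw [L.nt_val, Multiset.map_add, hxs,
        show L.data.Y.val.map deg = Multiset.replicate 3 23 from Multiset.eq_replicate.2
          ⟨by rw [Multiset.card_map, ← Finset.card_def, hY3], fun d hd => by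
            obtain ⟨θ', hθ', rfl⟩ := Multiset.mem_map.1 hd
            rw [L.deg_Y hθ hθ', h23]⟩]
      rfl
    obtain ⟨B, hB, hBm, -, -, -, hpm⟩ := L11.join_mem hG he11 hV11 hD htriv hl nodup_pool11
      (fun χ hχ => L11.mem_pool11 hG hV11 hD (Finset.mem_sdiff.1 hχ).1) hθ11
    have hpm' : (L11.xs.filter fun χ => χ ∈ L.nt).val.map deg = Multiset.replicate 3 23 := by
      rw [← hpm]; rfl
    have hc3 : (L11.xs.filter fun χ => χ ∈ L.nt).val.card = 3 := by
      have := congrArg Multiset.card hpm'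
      rwa [Multiset.card_map, Multiset.card_replicate] at this
    have hone : (L11.xs \ L.nt).card = 1 := by
      have h1 := congrArg Multiset.card (val_split L11.xs L.nt)
      rw [Multiset.card_add, hc3, ← Finset.card_def, ← Finset.card_def, L11.card_xs, he11] at h1
      omega
    obtain ⟨χd, hχd⟩ := Finset.card_eq_one.1 hone
    rw [hχd, Finset.singleton_val, Multiset.map_singleton, Multiset.coe_eq_singleton] at hBm
    obtain ⟨s, hs⟩ : ∃ s : G, orderOf s = 2 :=
      have : Fact (Nat.Prime 2) := ⟨Nat.prime_two⟩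
      exists_prime_orderOf_dvd_card' 2 (hG ▸ by decide)
    have hθne : θ ≠ trivChar G := fun e => L.triv_notMem_Y (e ▸ hθ)
    have hdne : χd ≠ trivChar G :=
      Finset.ne_of_mem_erase (Finset.mem_sdiff.1 (hχd ▸ Finset.mem_singleton_self χd)).1
    have hk := table_two
    simp only [killTwo, List.all_eq_true] at hk
    have hk1 := hk B hB (ival s θ) (h23 ▸ Local.ival_valsFree hG hs hθne)
    rw [hBm] at hk1
    simp only [List.all_eq_true] at hk1
    have hk2 := hk1 _ (Local.ival_valsFree hG hs hdne)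
    have ha : (([(23, ival s θ), (23, ival s θ), (23, ival s θ), (deg χd, ival s χd)] : List Cell) :
        Multiset Cell) = L11.xs.val.map (cell s) := by
      rw [val_split L11.xs L.nt, hχd, Finset.singleton_val, Multiset.map_add,
        Multiset.map_singleton,
        show (L11.xs.filter fun χ => χ ∈ L.nt).val.map (cell s) =
          Multiset.replicate 3 (23, ival s θ) from Multiset.eq_replicate.2
          ⟨by rw [Multiset.card_map, hc3], fun t ht => by
            obtain ⟨χ, hχ, rfl⟩ := Multiset.mem_map.1 ht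
            have hd : deg χ = 23 := Multiset.eq_of_mem_replicate
              (hpm' ▸ Multiset.mem_map_of_mem deg hχ)
            have hn := (Finset.mem_filter.1 hχ).2
            rw [L.nt_eq, Finset.mem_union] at hn
            rcases hn with hn | hn
            · have : deg χ = 22 := Multiset.mem_singleton.1
                (hxs ▸ Multiset.mem_map_of_mem deg hn)
              omega
            · rw [L.sameY_val hG hp hs hθ hn, cell, h23]⟩]
      rfl
    have hf := L11.fit_true hG he11 hV11 hs hθ11 ha (ys := []) (Y' := ∅)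
      (Finset.empty_subset _) rfl (U := ∅) (Finset.notMem_empty _)
      (fun χ hχ => absurd hχ (Finset.notMem_empty _)) (used := 0) (Nat.zero_le _)
    simp only [fit11, List.map_cons, List.map_nil, Bool.and_eq_true, beq_iff_eq, okv,
      decide_eq_true_eq] at hf
    simp only [Bool.or_eq_true, bne_iff_ne, decide_eq_true_eq] at hk2
    rcases hk2 with hk2 | hk2
    · exact hk2 hf.2
    · have h3 := hf.1.1.1.1.1.2
      omega
  · -- three classes
    refine ⟨he, hcV, fun s hsV hs hok => ?_⟩
    rw [he] at hR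
    obtain ⟨r, hr, hr1, hr2⟩ := L.exists_col hG hp hc hsV hs hRm hRn hθ
    rw [he] at hr
    obtain ⟨hC, rfl⟩ := h R hR (cent s)
      (List.mem_filter.2 ⟨cent_mem hG hs, by simp only [hbad s hs, hok, Bool.not_false, Bool.and_self]⟩) r hr
    exact ⟨hC, hr1.symm, fun θ' hθ' => by rw [L.sameY_val hG hp hs hθ hθ', ← hr2]⟩
  · -- six classes
    exfalso
    rw [he] at hR
    rcases hcV with hcV | hcV | hcV
    · -- complement one
      rw [hcV] at hR
      obtain ⟨s, hs, h128⟩ := exists_central (G := G) hG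
      have hs1 : s ≠ 1 := fun e => by simp [e] at hs
      have hCl : cent s ∈ centralList := by
        have h1 := List.all_eq_true.1 central_spec _ (cent_mem hG hs)
        have h7 : cent s % 7 ≠ 0 := fun h => L.not_dvd_cent hG hp hcV (by rw [hs]; norm_num) hs1
          (Nat.dvd_of_mod_eq_zero h)
        simp only [Bool.or_eq_true, Bool.not_eq_true', Bool.and_eq_false_iff, beq_eq_false_iff_ne,
          bne_eq_false_iff_eq, List.contains_iff_mem] at h1
        rcases h1 with (((h1 | h1) | h1) | h1) | h1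
        · exact absurd (Nat.mod_eq_zero_of_dvd h128) h1
        · exact absurd h1 h7
        · exact absurd h1 (cent_mod11 hG L11 L L23 hs)
        · exact absurd h1 (cent_mod23 hG L23 hs)
        · exact h1
      have hk := killOne_all hCl
      simp only [killOne, List.all_eq_true] at hk
      have hk1 := hk R hR
      set l := (dsum 7 (flat R)).natAbs :: flat R with hldef
      have hl : (l : Multiset ℕ) = L.nt.val.map deg := by
        rw [nt_cons L he hθ, ← hRm, hldef, hy]; rfl
      have h7pool : ∀ χ ∈ L11.xs \ L.nt, deg χ ∈ pool11.filter fun d => d % 7 == 0 := by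
        intro χ hχ
        obtain ⟨h1, h2⟩ := Finset.mem_sdiff.1 hχ
        refine List.mem_filter.2 ⟨L11.mem_pool11 hG hV11 hD h1,
          beq_iff_eq.2 (Nat.mod_eq_zero_of_dvd ?_)⟩
        by_contra h7
        exact h2 ((L.mem_nt_iff hcV).2 ⟨Finset.ne_of_mem_erase h1, h7⟩)
      obtain ⟨B, hB, hBm, hBn, hall, hyl, hpm⟩ := L11.join_mem hG he11 hV11 hD htriv hl
        (nodup_pool11.filter _) h7pool hθ11
      obtain ⟨-, -, hy11⟩ := L11.dsum_xs (by norm_num) hθ11 hall
      have hk2 := hk1 B (List.mem_filter.2 ⟨hB, by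
        rw [hy11, Bool.or_eq_true, beq_iff_eq, beq_iff_eq]
        by_cases h2 : (yEl l).length = 2
        · exact Or.inr h2
        refine Or.inl (Nat.mod_eq_zero_of_dvd ?_)
        have hY2 : L11.data.Y.card = 2 := by rw [L11.cardY_eq (by norm_num), he11]
        obtain ⟨θ', hθ', hn⟩ : ∃ θ' ∈ L11.data.Y, θ' ∉ L.nt := by
          by_contra hno
          push Not at hno
          rw [hyl, Finset.filter_true_of_mem hno, hY2] at h2
          exact h2 rfl
        by_contra h7
        exact hn ((L.mem_nt_iff hcV).2 ⟨fun e => L11.triv_notMem_Y (e ▸ hθ'),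
          by rwa [L11.deg_Y hθ11 hθ']⟩)⟩)
      simp only [Bool.and_eq_true, List.all_eq_true, List.isEmpty_iff] at hk2
      obtain ⟨hempty, hk3⟩ := hk2
      rw [hempty] at hpm hall hy11
      have hdis : Disjoint L11.xs L.nt := Finset.disjoint_left.2 fun χ hχ hn => by
        have h1 : deg χ ∈ (([] : List ℕ) : Multiset ℕ) :=
          hpm ▸ Multiset.mem_map_of_mem deg (Finset.mem_filter.2 ⟨hχ, hn⟩ : χ ∈ _)
        exact List.not_mem_nil (Multiset.mem_coe.1 h1)
      rw [List.nil_append] at hall hy11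
      obtain ⟨hS11, hε11, -⟩ := L11.dsum_xs (by norm_num) hθ11 hall
      have htriv11 : trivChar G ∉ L11.xs := Finset.notMem_erase _ _
      have hbud := Local.sum_sq_le hG hs htriv11
      obtain ⟨W, hW, hWm⟩ := Local.vals_mem hG hs htriv11 hBn hall
        (fun χ hχ => Local.ival_valsAt hG hs (Finset.ne_of_mem_erase hχ))
        (Bd := cent s - 1) (by omega)
      have hk4 := hk3 W hW
      rw [L11.fit_true hG he11 hV11 hs hθ11 hWm (ys := []) (Y' := ∅) (Finset.empty_subset _) rfl
        (U := L11.xs) htriv11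
        (fun χ h1 h2 => absurd h2 (Finset.disjoint_left.1 L11.disjoint_xs h1))
        (le_of_eq (by rw [nsq_eq hWm]))] at hk4
      simp only [Bool.not_true, Bool.false_or, List.all_eq_true] at hk4
      have hw : L11.data.ε * vsum 11 W = ival s θ11 := by
        rw [vsum_eq 11 hWm, ← L11.val_sum hG (Or.inr (Or.inl rfl)) hs hθ11, ← mul_assoc]
        rcases L11.data.sgnY with h | h <;> simp [h]
      simp only [hy11, hε11, hε, hw] at hk4
      set Y0 := if deg θ11 % 7 = 0 then L11.data.Y else ∅ with hY0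
      have hY0' : ∀ χ ∈ Y0, χ ∈ L11.data.Y ∧ 7 ∣ deg χ := fun χ hχ => by
        rw [hY0] at hχ
        split_ifs at hχ with h0
        · exact ⟨hχ, by rw [L11.deg_Y hθ11 hχ]; exact Nat.dvd_of_mod_eq_zero h0⟩
        · exact absurd hχ (Finset.notMem_empty _)
      have hd1 : Disjoint L11.xs Y0 := Finset.disjoint_left.2 fun χ h1 h2 =>
        Finset.disjoint_left.1 L11.disjoint_xs h1 (hY0' χ h2).1
      have hd2 : Disjoint (L11.xs ∪ Y0) L.nt := Finset.disjoint_union_left.2 ⟨hdis,
        Finset.disjoint_left.2 fun χ h1 h2 => ((L.mem_nt_iff hcV).1 h2).2 (hY0' χ h1).2⟩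
      have htU : trivChar G ∉ L11.xs ∪ Y0 ∪ L.nt := by
        simp only [Finset.mem_union, not_or]
        exact ⟨⟨htriv11, fun h => L11.triv_notMem_Y (hY0' _ h).1⟩, htriv⟩
      have hbud2 := Local.sum_sq_le hG hs htU
      have hsY0 : ∑ χ ∈ Y0, (ival s χ).natAbs * (ival s χ).natAbs =
          if deg θ11 % 7 == 0 then 2 * ((ival s θ11).natAbs * (ival s θ11).natAbs) else 0 := by
        rw [hY0]
        simp only [beq_iff_eq]
        split_ifs
        · rw [L11.sum_sq_Y hG (Or.inr (Or.inl rfl)) hs hθ11, he11]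
        · exact Finset.sum_empty
      rw [Finset.sum_union hd2, Finset.sum_union hd1, hsY0, ← nsq_eq hWm, L.nt_eq,
        Finset.sum_union L.disjoint_xs, L.sum_sq_Y hG hp hs hθ, he] at hbud2
      have hxY : ∀ χ ∈ L.nt, deg χ = deg θ11 → ival s χ = ival s θ11 := fun χ hχ hd => by
        have hθn : ¬ 11 ∣ deg θ11 := ((L11.mem_nt_iff hV11).1
          (by rw [L11.nt_eq]; exact Finset.mem_union_right _ hθ11)).2
        rcases L11.residue (by norm_num)
          ((L11.mem_nt_iff hV11).2 ⟨L.ne_triv_of_mem_nt hχ, hd ▸ hθn⟩) with ⟨h1, -⟩ | ⟨h1, -⟩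
        · exact absurd hχ (Finset.disjoint_left.1 hdis h1)
        · exact congrArg Prod.snd (L11.sameY_val hG (Or.inr (Or.inl rfl)) hs hθ11 h1)
      have hxsnt : ∀ χ ∈ L.xs, χ ∈ L.nt := fun χ hχ => by
        rw [L.nt_eq]; exact Finset.mem_union_left _ hχ
      obtain ⟨V, hV, hVm⟩ := Local.vals_mem hG hs
        (S := L.xs) (Finset.notMem_erase _ _) hRn hRm
        (vs := fun d => if d == deg θ11 then [ival s θ11] else valsAt (cent s) d)
        (fun χ hχ => by
          split_ifs with hd
          · exact List.mem_singleton.2 (hxY χ (hxsnt χ hχ) (beq_iff_eq.1 hd))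
          · exact Local.ival_valsAt hG hs (Finset.ne_of_mem_erase hχ))
        (Bd := cent s - (1 + nsq W + if deg θ11 % 7 == 0 then
          2 * ((ival s θ11).natAbs * (ival s θ11).natAbs) else 0))
        (by omega)
      have hk5 := hk4 V hV
      have hwy : L.data.ε * vsum 7 V = ival s θ := by
        rw [vsum_eq 7 hVm, ← L.val_sum hG hp hs hθ, ← mul_assoc]
        rcases L.data.sgnY with h | h <;> simp [h]
      have hpo := L.pairsOk_of hG hp hc hs hθ hVm
      rw [show pairsOk 7 L.e (Nat.card L.V) = pairsOk 7 6 1 by rw [he, hcV]] at hpo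
      rw [hwy, hy, hpo] at hk5
      rw [nsq_eq hVm] at hk5
      simp only [Bool.not_true, Bool.or_false, Bool.or_eq_true, Bool.and_eq_true, beq_iff_eq,
        bne_iff_ne, decide_eq_true_eq] at hk5
      rcases hk5 with ⟨h1, h2⟩ | h1
      · exact h2 (hxY θ (by rw [L.nt_eq]; exact Finset.mem_union_right _ hθ) h1)
      · rw [nsq_eq hWm] at h1 hbud2
        simp only [beq_iff_eq] at h1 hbud2 hsY0
        omega
    · -- complement eight
      rw [hcV] at hR
      obtain ⟨s, hsV, hs, hok⟩ := L.exists_involution hG hp (by rw [hcV]; norm_num)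
      obtain ⟨r, hr, hr1, hr2⟩ := L.exists_col hG hp hc hsV hs hRm hRn hθ
      rw [he, hcV] at hr hok
      have hk := table_eight
      simp only [killEight, List.all_eq_true] at hk
      have hk1 := hk R hR (cent s)
        (List.mem_filter.2 ⟨cent_mem hG hs, by simp only [hbad s hs, hok, Bool.not_false, Bool.and_self]⟩) r hr
      have hlc : ((r.2 :: r.1 : List Cell) : Multiset Cell) = L.nt.val.map (cell s) := by
        rw [nt_cons L he hθ, ← hr1, hr2]; rfl
      have hl : (((r.2 :: r.1).map Prod.fst : List ℕ) : Multiset ℕ) = L.nt.val.map deg :=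
        map_fst hlc
      obtain ⟨B, hB, hBm, hBn, -, -, -⟩ := L11.join_mem hG he11 hV11 hD htriv hl nodup_pool11
        (fun χ hχ => L11.mem_pool11 hG hV11 hD (Finset.mem_sdiff.1 hχ).1) hθ11
      obtain ⟨hpmT, hyT⟩ := L11.filter_pm hG he11 hV11 htriv
      have hS2 : trivChar G ∉ L11.xs \ L.nt := fun h =>
        Finset.notMem_erase _ _ (Finset.mem_sdiff.1 h).1
      have htU : trivChar G ∉ L.nt ∪ (L11.xs \ L.nt) := by
        rw [Finset.mem_union, not_or]; exact ⟨htriv, hS2⟩
      have hbud := Local.sum_sq_le hG hs htU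
      rw [Finset.sum_union Finset.disjoint_sdiff, ← nsq_eq hlc] at hbud
      obtain ⟨W, hW, hWm⟩ := Local.vals_mem hG hs hS2 hBn hBm
        (fun χ hχ => Local.ival_valsAt hG hs (Finset.ne_of_mem_erase (Finset.mem_sdiff.1 hχ).1))
        (Bd := cent s - (1 + nsq (r.2 :: r.1))) (by omega)
      have hk2 := hk1 B hB W hW
      rw [L11.fit_true hG he11 hV11 hs hθ11 (a := _ ++ W)
        (by rw [← Multiset.coe_add, coe_filter_map hlc, hWm, ← Multiset.map_add,
              show (L.nt.filter fun χ => ((cell s χ).1 % 11 == 1 || (cell s χ).1 % 11 == 10) = true)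
                = L11.xs.filter (fun χ => χ ∈ L.nt) from hpmT, ← val_split])
        (Y' := L11.data.Y.filter fun χ => χ ∈ L.nt) (Finset.filter_subset _ _)
        (by rw [coe_filter_map hlc,
              show (L.nt.filter fun χ => ((cell s χ).1 % 11 == 5 || (cell s χ).1 % 11 == 6) = true)
                = L11.data.Y.filter (fun χ => χ ∈ L.nt) from hyT])
        (U := L.nt ∪ (L11.xs \ L.nt)) htU
        (fun χ h1 h2 => Finset.mem_filter.2 ⟨h2, (Finset.mem_union.1 h1).resolve_right fun h =>
          Finset.disjoint_left.1 L11.disjoint_xs (Finset.mem_sdiff.1 h).1 h2⟩)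
        (le_of_eq (by rw [Finset.sum_union Finset.disjoint_sdiff, ← nsq_eq hlc, ← nsq_eq hWm,
          add_assoc]))] at hk2
      exact absurd hk2 (by decide)
    · -- complement fifteen
      rw [hcV] at hR
      have hk := table_fifteen
      simp only [killFifteen, List.all_eq_true, beq_iff_eq] at hk
      refine false_of_single hG L he (hcV ▸ by norm_num) ?_
      rw [nt_cons L he hθ, ← hRm, ← hy, Multiset.cons_coe, Multiset.coe_count]
      exact hk R hR
  · exact (L.false_of_noneChk hG hp nodup_degD hmem hbad hc h).elim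

end CfsgLib.Blocks.Order10200960
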