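import Cfsg.Agent.Lib.Blocks.Order10200960.Columns
import Cfsg.Agent.Lib.Blocks.Order10200960.TablesTwentyThree
import Cfsg.Agent.Lib.Blocks.Order10200960.TablesMember
import Cfsg.Agent.Lib.Blocks.Order10200960.TablesMemberSix
import Cfsg.Agent.Lib.Blocks.Order10200960.TablesEleven
import Cfsg.Agent.Lib.Blocks.Order10200960.TablesElevenTen

/-!
# The Sylow subgroups of orders 23 and 11 are self-centralizing
-/

set_option autoImplicit false

namespace CfsgLib.Blocks.Order10200960

open Cfsg CfsgLib CfsgLib.Char CfsgLib.CharIntegral CfsgLib.Blocks.PrimeSylow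
open CfsgLib.Blocks.Order95040 (deg cent deg_cast deg_trivChar deg_eq_finrank)
open scoped Classical ComplexConjugate

theorem small_twentyThree : ((candList 23).all fun ec => decide (ec.2 < 2 ^ 15)) = true := by
  decide +kernel

theorem small_eleven :
    ((candList 11).all fun ec => ec.2 % 23 == 0 || decide (ec.2 < 2 ^ 15)) = true := by
  decide +kernel

theorem small_seven :
    ((candList 7).all fun ec => ec.2 % 23 == 0 || decide (ec.2 < 2 ^ 15)) = true := by
  decide +kernel

theorem chk23_all {ec : ℕ × ℕ} (h : ec ∈ candList 23) : chk23 ec = true := by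
  rcases Bool.eq_false_or_eq_true (ec.1 == 22) with hg | hg
  · exact List.all_eq_true.1 table23_large _ (List.mem_filter.2 ⟨h, hg⟩)
  · exact List.all_eq_true.1 table23_small _ (List.mem_filter.2 ⟨h, by rw [hg]; rfl⟩)

theorem chkMember_all {ec : ℕ × ℕ} (h : ec ∈ candList 7) : chkMember ec = true := by
  rcases Bool.eq_false_or_eq_true (ec.1 == 6) with hg | hg
  · exact List.all_eq_true.1 table_member_six _ (List.mem_filter.2 ⟨h, hg⟩)
  · exact List.all_eq_true.1 table_member_few _ (List.mem_filter.2 ⟨h, by rw [hg]; rfl⟩)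

theorem chk11_all {ec : ℕ × ℕ} (h : ec ∈ candList 11) : chk11 ec = true := by
  rcases Bool.eq_false_or_eq_true (ec.1 == 10) with hg | hg
  · exact List.all_eq_true.1 table11_ten _ (List.mem_filter.2 ⟨h, hg⟩)
  · exact List.all_eq_true.1 table11_few _ (List.mem_filter.2 ⟨h, by rw [hg]; rfl⟩)

theorem chk23_spec {e c : ℕ} (h : chk23 (e, c) = true) : (e = 11 ∧ c = 1) ∨
    ((e = 22 ∧ c = 12) ∧ noneFirst 23 22 12 degList = true) ∨
      noneChk 23 e c degList (fun _ => false) = true := by
  unfold chk23 at h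
  dsimp only at h
  rw [Bool.or_eq_true, Bool.and_eq_true, beq_iff_eq, beq_iff_eq] at h
  rcases h with h | h
  · exact Or.inl h
  · split at h
    · rename_i h22
      rw [Bool.and_eq_true, beq_iff_eq, beq_iff_eq] at h22
      exact Or.inr (Or.inl ⟨h22, h⟩)
    · exact Or.inr (Or.inr h)

theorem chkMember_spec {e c : ℕ} (h : chkMember (e, c) = true) (hc : c % 23 ≠ 0) :
    ∀ L ∈ degSols 7 e c prime11 deg23, (e = 6 ∧ (dsum 7 (flat L)).natAbs % 11 = 0) ∨
      (c % 2 = 0 ∧ ∀ C ∈ sylCents 7 e c (fun C => C % 23 == 0),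
        colsOf 7 e c C L = []) := by
  unfold chkMember at h
  dsimp only at h
  rw [Bool.or_eq_true, beq_iff_eq, List.all_eq_true] at h
  intro L hL
  have h1 := h.resolve_left hc L hL
  rw [Bool.or_eq_true, Bool.and_eq_true, Bool.and_eq_true, beq_iff_eq, beq_iff_eq, beq_iff_eq,
    List.all_eq_true] at h1
  exact h1.imp id fun h2 => ⟨h2.1, fun C hC => List.isEmpty_iff.1 (h2.2 C hC)⟩

theorem chk11_spec {e c : ℕ} (h : chk11 (e, c) = true) (h7 : c % 7 ≠ 0) (h23 : c % 23 ≠ 0) :
    (e = 5 ∧ c = 1) ∨ noneChk 11 e c deg23 (fun C => C % 23 == 0) = true := by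
  unfold chk11 at h
  dsimp only at h
  rw [Bool.or_eq_true, Bool.or_eq_true, Bool.or_eq_true, Bool.and_eq_true, beq_iff_eq, beq_iff_eq,
    beq_iff_eq, beq_iff_eq] at h
  rcases h with ((h | h) | h) | h
  · exact absurd h h7
  · exact absurd h h23
  · exact Or.inl h
  · exact Or.inr h

theorem small_of {e c : ℕ} {p : ℕ}
    (h : ((candList p).all fun ec => ec.2 % 23 == 0 || decide (ec.2 < 2 ^ 15)) = true)
    (hec : (e, c) ∈ candList p) (hc : c % 23 ≠ 0) : c < 2 ^ 15 := by
  have h1 := List.all_eq_true.1 h _ hec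
  rw [Bool.or_eq_true, beq_iff_eq, decide_eq_true_eq] at h1
  exact h1.resolve_left hc

theorem nodup_degList : degList.Nodup := by decide +kernel
theorem nodup_deg23 : deg23.Nodup := by decide +kernel
theorem nodup_degD : degD.Nodup := by decide +kernel
theorem nodup_prime11 : prime11.Nodup := by decide +kernel

theorem prime11_spec : (deg23.all fun d => d % 11 == 0 || prime11.contains d) = true := by
  decide +kernel

variable {G : Type*} [Group G] [Fintype G] [IsSimpleGroup G] (hG : Nat.card G = ord)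
include hG

open Local

/-- The Sylow 23-subgroups are self-centralizing, with normalizers of order 253. -/
theorem shape23 (L : Local G 23) : L.e = 11 ∧ Nat.card L.V = 1 := by
  have : Fact (Nat.Prime 23) := ⟨by norm_num⟩
  have := Fintype.ofFinite (IrrCharacter G)
  have h := chk23_spec (chk23_all L.cand)
  refine h.resolve_right fun h => ?_
  have hc : Nat.card L.V < 2 ^ 15 :=
    of_decide_eq_true (List.all_eq_true.1 small_twentyThree _ L.cand)
  have hmem : ∀ χ ∈ L.nt, deg χ ∈ degList := fun χ hχ => deg_mem hG (L.ne_triv_of_mem_nt hχ)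
  rcases h with ⟨⟨he, hV⟩, h⟩ | h
  · unfold noneFirst at h
    rw [Bool.and_eq_true, List.all_eq_true] at h
    obtain ⟨h2, h3⟩ := h
    simp only [List.all_eq_true] at h3
    obtain ⟨s, hsV, hs, hok⟩ := L.exists_involution hG (Or.inr (Or.inr rfl))
      (by rw [hV]; norm_num)
    obtain ⟨θ, hθ⟩ := L.exists_theta
    have hθne : θ ≠ trivChar G := fun e => L.triv_notMem_Y (e ▸ hθ)
    have htriv : trivChar G ∉ L.nt := fun h => L.ne_triv_of_mem_nt h rfl
    have hxs : ∀ χ ∈ L.xs, χ ∈ L.nt := fun χ hχ => by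
      rw [L.nt_eq]; exact Finset.mem_union_left _ hχ
    obtain ⟨R0, hR0, hR0m, -⟩ := L.exists_degs hG (Or.inr (Or.inr rfl)) nodup_degList
      (fun χ hχ => hmem χ (hxs χ hχ))
      (fun θ hθ => hmem θ (by rw [L.nt_eq]; exact Finset.mem_union_right _ hθ))
    unfold degSols at hR0
    rw [List.mem_filter] at hR0
    -- the same degrees with the budget of the values
    have hbud := sum_deg_le hG (S := L.xs) fun h => htriv (hxs _ h)
    have hbud' := sum_sq_le hG hs (S := L.xs) fun h => htriv (hxs _ h)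
    have hcell : ∀ χ ∈ L.xs, ival s χ ∈ valsC 23 (cent s) (deg χ) := fun χ hχ => by
      obtain ⟨hne, hX⟩ := Finset.mem_erase.1 hχ
      refine mem_valsC (Or.inr (Or.inr rfl)) (cent_le hG fun e => by simp [e] at hs)
        (okv_cell hG hs hne) ?_
      obtain ⟨-, -, h4⟩ := L.of_const hG (Or.inr (Or.inr rfl)) hne (L.data.sgnX χ hX)
        (L.data.valX χ hX)
      have e1 := Int.dvd_of_emod_eq_zero (h4 s hsV hs)
      have e2 := Int.modEq_iff_dvd.1 (L.data.modX χ hX)
      rw [(L.εX_eq (by norm_num) hX).1] at e2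
      have e3 := dvd_sub e1 e2
      rwa [show ival s χ - (deg χ : ℤ) - (sgn 23 (deg χ) - (deg χ : ℤ)) =
        ival s χ - sgn 23 (deg χ) by ring] at e3
    have hmn : ∀ χ ∈ L.xs, minSq (valsC 23 (cent s) (deg χ)) ≤
        (ival s χ).natAbs * (ival s χ).natAbs := fun χ hχ => by
      have hle : ∀ {l : List ℤ} {v : ℤ}, v ∈ l → minSq l ≤ v.natAbs * v.natAbs := by
        intro l
        induction l with
        | nil => intro v h; exact absurd h List.not_mem_nil
        | cons u l ih =>
          intro v h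
          cases l with
          | nil => rw [List.mem_singleton.1 h]; exact le_rfl
          | cons w l =>
            rw [minSq]
            rcases List.mem_cons.1 h with rfl | h
            · exact min_le_left _ _
            · exact (min_le_right _ _).trans (ih h)
      exact hle (hcell χ hχ)
    have hnd : ((degList.filter (okd 23 12)).filter
        fun d => !(valsC 23 (cent s) d).isEmpty).Nodup := (nodup_degList.filter _).filter _
    obtain ⟨R, hR, hRm⟩ := combos_sound (mn := fun d => minSq (valsC 23 (cent s) d)) hnd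
      (k := 22 - 1) (B := ord - 1) (B' := cent s - 1) (L.xs.val.map deg) (fun d hd => by
        obtain ⟨χ, hχ, rfl⟩ := Multiset.mem_map.1 hd
        have h5 : deg χ ∈ flat R0 := by
          rw [← Multiset.mem_coe, hR0m]; exact Multiset.mem_map.2 ⟨χ, hχ, rfl⟩
        obtain ⟨r, hr, hdr⟩ := List.mem_flatMap.1 h5
        have h6 := (combos_runs (nodup_degList.filter _) hR0.1).2 r hr
        rw [← List.eq_of_mem_replicate hdr, hV] at h6
        refine List.mem_filter.2 ⟨h6, ?_⟩
        rw [Bool.not_eq_true', List.isEmpty_eq_false_iff_exists_mem]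
        exact ⟨_, hcell χ hχ⟩)
      (by rw [Multiset.card_map, ← Finset.card_def, L.card_xs, he])
      (by rw [Multiset.map_map]
          simp only [Finset.sum] at hbud
          simp only [Function.comp_def]
          omega)
      (by rw [Multiset.map_map]
          have h5 : ∑ χ ∈ L.xs, minSq (valsC 23 (cent s) (deg χ)) ≤
              ∑ χ ∈ L.xs, (ival s χ).natAbs * (ival s χ).natAbs := Finset.sum_le_sum hmn
          simp only [Finset.sum] at hbud' h5
          simp only [Function.comp_def]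
          omega)
    obtain ⟨r, hr, -⟩ := L.exists_col hG (Or.inr (Or.inr rfl)) hc hsV hs hRm
      (combos_runs hnd hR).1 hθ
    rw [he, hV] at hr hok
    have hdeg : degOk 23 22 12 degList (flat R) = true := by
      have h7 := hR0.2
      rw [he, hV] at h7
      obtain ⟨e1, e2, e3⟩ := L.dsum_xs (by norm_num) hθ hRm
      obtain ⟨f1, f2, f3⟩ := L.dsum_xs (by norm_num) hθ hR0m
      simp only [degOk] at h7 ⊢
      rwa [dsq_eq hRm, ← dsq_eq hR0m, e1, ← f1]
    have h8 := h3 (cent s) (List.mem_filter.2 ⟨cent_mem hG hs, by rw [hok]; rfl⟩) R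
      (List.mem_filter.2 ⟨hR, hdeg⟩)
    rw [List.isEmpty_iff] at h8
    rw [h8] at hr
    exact List.not_mem_nil hr
  · exact L.false_of_noneChk hG (Or.inr (Or.inr rfl)) nodup_degList hmem (fun _ _ => rfl) hc h

theorem not_dvd_cent23 (L : Local G 23) {g : G} (hg : ¬ 23 ∣ orderOf g) (hg1 : g ≠ 1) :
    ¬ 23 ∣ cent g := by
  have : Fact (Nat.Prime 23) := ⟨by norm_num⟩
  exact L.not_dvd_cent hG (Or.inr (Or.inr rfl)) (shape23 hG L).2 hg hg1

theorem cent_mod23 (L : Local G 23) {s : G} (hs : orderOf s = 2) : cent s % 23 ≠ 0 := fun h =>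
  not_dvd_cent23 hG L (by rw [hs]; norm_num) (fun e => by simp [e] at hs)
    (Nat.dvd_of_mod_eq_zero h)

/-- A degree is zero, `±1` or `±11` modulo 23. -/
theorem deg_mem23 (L : Local G 23) {χ : IrrCharacter G} (hne : χ ≠ trivChar G) :
    deg χ ∈ deg23 := by
  have hd := deg_mem hG hne
  obtain ⟨he, hV⟩ := shape23 hG L
  have hres : [0, 1, 22, 11, 12].contains (deg χ % 23) = true := by
    simp only [List.contains_iff_mem, List.mem_cons, List.not_mem_nil, or_false]
    by_cases h : 23 ∣ deg χ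
    · exact Or.inl (Nat.mod_eq_zero_of_dvd h)
    · rcases L.residue (by norm_num) ((L.mem_nt_iff hV).2 ⟨hne, h⟩) with h1 | h1
      · have := h1.2; omega
      · have := h1.2; rw [he] at this; omega
  have h1 := List.all_eq_true.1 deg23_spec _ hd
  rw [Bool.or_eq_true, Bool.not_eq_true', hres] at h1
  simpa using h1

/-- Twenty-three does not divide a centralizer complement. -/
theorem card_V_mod23 {p : ℕ} [Fact p.Prime] (hp : p = 7 ∨ p = 11) (L : Local G p)
    (L23 : Local G 23) : Nat.card L.V % 23 ≠ 0 := fun h => by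
  have hp' : p = 7 ∨ p = 11 ∨ p = 23 := hp.imp id Or.inl
  obtain ⟨x, hx, hx1⟩ := L.exists_mem_P hG
  have hxo := L.setup.orderOf_eq hx hx1
  refine not_dvd_cent23 hG L23 (g := x) (by rw [hxo]; rcases hp with rfl | rfl <;> norm_num) hx1 ?_
  rw [L.cent_of_orderOf hG hp' hxo]
  exact (Nat.dvd_of_mod_eq_zero h).mul_left p

/-- A member of the principal 7-block with constant signs and degree divisible by eleven. -/
theorem exists_member (L : Local G 7) (L23 : Local G 23) :
    ∃ χ : IrrCharacter G, 11 ∣ deg χ ∧ ∃ c : ℤ, (c = 1 ∨ c = -1) ∧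
      ∀ x ∈ L.P, x ≠ 1 → ∀ v ∈ L.V, (χ : G → ℂ) (x * v) = (c : ℂ) := by
  have : Fact (Nat.Prime 7) := ⟨by norm_num⟩
  have := Fintype.ofFinite (IrrCharacter G)
  by_contra hno
  push Not at hno
  have hX : ∀ χ ∈ L.xs, deg χ ∈ prime11 := fun χ hχ => by
    obtain ⟨hne, hXm⟩ := Finset.mem_erase.1 hχ
    have h1 := List.all_eq_true.1 prime11_spec _ (deg_mem23 hG L23 hne)
    rw [Bool.or_eq_true, beq_iff_eq] at h1
    rcases h1 with h1 | h1
    · obtain ⟨x, hx, hx1, v, hv, hne'⟩ := hno χ (Nat.dvd_of_mod_eq_zero h1) (L.data.εX χ)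
        (L.data.sgnX χ hXm)
      exact absurd (L.data.valX χ hXm x hx hx1 v hv) hne'
    · simpa using h1
  have hY : ∀ θ ∈ L.data.Y, deg θ ∈ deg23 := fun θ hθ =>
    deg_mem23 hG L23 fun e => L.triv_notMem_Y (e ▸ hθ)
  obtain ⟨R, hR, hRm, hRn⟩ := L.exists_degs hG (Or.inl rfl) nodup_prime11 hX hY
  obtain ⟨θ, hθ⟩ := L.exists_theta
  have hc23 := card_V_mod23 hG (Or.inl rfl) L L23
  have hc := small_of small_seven L.cand hc23
  have h := chkMember_spec (chkMember_all L.cand) hc23
  rcases h R hR with ⟨he, h11⟩ | ⟨h2, h3⟩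
  · rw [(L.dsum_xs (by norm_num) hθ hRm).2.2] at h11
    have hY1 : L.data.Y.card = 1 := by rw [L.cardY_eq (by norm_num), he]
    obtain ⟨x, hx, hx1, v, hv, hne'⟩ := hno θ (Nat.dvd_of_mod_eq_zero h11) (-L.data.ε)
      (by rcases L.data.sgnY with e | e <;> simp [e])
    exact absurd (by rw [L.data.valY hY1 θ hθ x hx hx1 v hv, Int.cast_neg]) hne'
  · obtain ⟨s, hsV, hs, hok⟩ := L.exists_involution hG (Or.inl rfl) (Nat.dvd_of_mod_eq_zero h2)
    obtain ⟨r, hr, -⟩ := L.exists_col hG (Or.inl rfl) hc hsV hs hRm hRn hθ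
    have h4 := h3 (cent s) (List.mem_filter.2 ⟨cent_mem hG hs, by
      simp only [Bool.and_eq_true, Bool.not_eq_true', beq_eq_false_iff_ne]
      exact ⟨cent_mod23 hG L23 hs, hok⟩⟩)
    rw [h4] at hr
    exact List.not_mem_nil hr

/-- Eleven does not divide the complement for seven. -/
theorem seven_V_mod11 (L : Local G 7) (L23 : Local G 23) : Nat.card L.V % 11 ≠ 0 := fun h => by
  have : Fact (Nat.Prime 7) := ⟨by norm_num⟩
  have : Fact (Nat.Prime 11) := ⟨by norm_num⟩
  obtain ⟨χ, hd, c, hc, hval⟩ := exists_member hG L L23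
  obtain ⟨v, hv⟩ := exists_prime_orderOf_dvd_card' (G := L.V) 11 (Nat.dvd_of_mod_eq_zero h)
  obtain ⟨x, hx, hx1⟩ := L.exists_mem_P hG
  have hxo := L.setup.orderOf_eq hx hx1
  have hvo : orderOf (v : G) = 11 := by rw [Subgroup.orderOf_coe, hv]
  have ho : orderOf (x * (v : G)) = 77 := by
    rw [(L.setup.commute hx v.2).orderOf_mul_eq_mul_orderOf_of_coprime (by
      rw [hxo, hvo]; norm_num), hxo, hvo]
  have h0 := vanish hG (p := 11) (n := 1) (χ := χ) (by norm_num) (by decide) (by decide)
    (by simpa using hd) (x := x * (v : G)) (by rw [ho]; norm_num)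
  rw [hval x hx hx1 _ v.2] at h0
  rcases hc with rfl | rfl <;> norm_num at h0

/-- Seven does not divide the complement for eleven. -/
theorem eleven_V_mod7 (L : Local G 11) (L7 : Local G 7) (L23 : Local G 23) :
    Nat.card L.V % 7 ≠ 0 := fun h => by
  have : Fact (Nat.Prime 7) := ⟨by norm_num⟩
  have : Fact (Nat.Prime 11) := ⟨by norm_num⟩
  obtain ⟨v, hv⟩ := exists_prime_orderOf_dvd_card' (G := L.V) 7 (Nat.dvd_of_mod_eq_zero h)
  obtain ⟨x, hx, hx1⟩ := L.exists_mem_P hG
  have hvo : orderOf (v : G) = 7 := by rw [Subgroup.orderOf_coe, hv]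
  have h1 : 11 ∣ cent (v : G) := by
    have h2 : orderOf x ∣ cent (v : G) := Subgroup.orderOf_dvd_natCard _
      (Subgroup.mem_centralizer_singleton_iff.2 (L.setup.commute hx v.2).eq)
    rwa [L.setup.orderOf_eq hx hx1] at h2
  rw [L7.cent_of_orderOf hG (Or.inl rfl) hvo] at h1
  exact seven_V_mod11 hG L7 L23
    (Nat.mod_eq_zero_of_dvd (((Nat.Prime.dvd_mul (by norm_num)).1 h1).resolve_left (by norm_num)))

/-- The Sylow 11-subgroups are self-centralizing, with normalizers of order 55. -/
theorem shape11 (L : Local G 11) (L7 : Local G 7) (L23 : Local G 23) :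
    L.e = 5 ∧ Nat.card L.V = 1 := by
  have : Fact (Nat.Prime 11) := ⟨by norm_num⟩
  have := Fintype.ofFinite (IrrCharacter G)
  have hc23 := card_V_mod23 hG (Or.inr rfl) L L23
  have h := chk11_all L.cand
  refine (chk11_spec h (eleven_V_mod7 hG L L7 L23) hc23).resolve_right fun h => ?_
  refine L.false_of_noneChk (bad := fun C => C % 23 == 0) hG (Or.inr (Or.inl rfl)) nodup_deg23
    (fun χ hχ => deg_mem23 hG L23 (L.ne_triv_of_mem_nt hχ))
    (fun s hs => beq_eq_false_iff_ne.2 (cent_mod23 hG L23 hs)) ?_ h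
  exact small_of small_eleven L.cand hc23

theorem cent_mod11 (L : Local G 11) (L7 : Local G 7) (L23 : Local G 23) {s : G}
    (hs : orderOf s = 2) : cent s % 11 ≠ 0 := fun h => by
  have : Fact (Nat.Prime 11) := ⟨by norm_num⟩
  exact L.not_dvd_cent hG (Or.inr (Or.inl rfl)) (shape11 hG L L7 L23).2
    (by rw [hs]; norm_num) (fun e => by simp [e] at hs) (Nat.dvd_of_mod_eq_zero h)

/-- A degree is zero, `±1` or `±5` modulo eleven and zero, `±1` or `±11` modulo 23. -/
theorem deg_memD (L : Local G 11) (L7 : Local G 7) (L23 : Local G 23) {χ : IrrCharacter G}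
    (hne : χ ≠ trivChar G) : deg χ ∈ degD := by
  obtain ⟨he, hV⟩ := shape11 hG L L7 L23
  have hres : [0, 1, 10, 5, 6].contains (deg χ % 11) = true := by
    simp only [List.contains_iff_mem, List.mem_cons, List.not_mem_nil, or_false]
    by_cases h : 11 ∣ deg χ
    · exact Or.inl (Nat.mod_eq_zero_of_dvd h)
    · rcases L.residue (by norm_num) ((L.mem_nt_iff hV).2 ⟨hne, h⟩) with h1 | h1
      · have := h1.2; omega
      · have := h1.2; rw [he] at this; omega
  have h1 := List.all_eq_true.1 degD_spec _ (deg_mem23 hG L23 hne)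
  rw [Bool.or_eq_true, Bool.not_eq_true', hres] at h1
  simpa using h1

end CfsgLib.Blocks.Order10200960
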