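import Cfsg.Agent.Lib.Blocks.Order10200960.Twist

/-!
# The indicators at an element of order 23 and the square of the character of degree 22
-/

set_option autoImplicit false

namespace CfsgLib.Blocks.Order10200960

open Cfsg CfsgLib CfsgLib.Char CfsgLib.CharIntegral CfsgLib.Blocks.PrimeSylow
open CfsgLib.Blocks.Order95040 (deg cent deg_cast deg_trivChar deg_eq_finrank)
open CfsgLib.Blocks.Order443520 (exists_int_val val_of_conj)
open scoped Classical ComplexConjugate

variable {G : Type*} [Group G] [Fintype G] [IsSimpleGroup G] (hG : Nat.card G = ord)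
  [Fintype (IrrCharacter G)]
include hG

theorem vanish_one {p : ℕ} (hp : p = 7 ∨ p = 11 ∨ p = 23) {χ : IrrCharacter G} (hd : p ∣ deg χ)
    {g : G} (hg : p ∣ orderOf g) : (χ : G → ℂ) g = 0 := by
  refine vanish hG (p := p) (n := 1) ?_ ?_ ?_ (by simpa using hd) hg <;>
    rcases hp with rfl | rfl | rfl <;> first | (norm_num; done) | decide +kernel

/-- A table with the second and third character of degree 231 conjugate. -/
theorem exists_good : ∃ T : Tbl G, Char.conjIrr T.b231 = T.c231 := by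
  obtain ⟨T⟩ := exists_tbl hG
  obtain ⟨d1, d2, d3, d4, d5, d6, d7, d8, d9, d10, d11, d12, d13, d14, d15, d16⟩ := T.degs
  obtain ⟨v1, v2, v3, v4, v5, v6, v7, v8, v9, v10, v11, v12, v13, v14, v15, v16⟩ := T.vals
  have hsw : ∀ a b c : IrrCharacter G, [T.a231, T.b231, T.c231].Perm [a, b, c] →
      Char.conjIrr b = c → ∃ T' : Tbl G, Char.conjIrr T'.b231 = T'.c231 := by
    intro a b c hperm hbc
    have hm : ∀ χ ∈ [a, b, c], cell T.t χ = (231, 7) := fun χ hχ => by
      have h := hperm.symm.subset hχ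
      simp only [List.mem_cons, List.not_mem_nil, or_false] at h
      rcases h with rfl | rfl | rfl <;> simp [cell, *]
    refine ⟨{ T with a231 := a, b231 := b, c231 := c, univ_eq := ?_, cells := ?_ }, hbc⟩
    · rw [T.univ_eq]
      exact Multiset.coe_eq_coe.2 ((List.Perm.refl [trivChar G, T.c253, T.c22, T.a45, T.b45,
        T.c230]).append (hperm.append_right _))
    · have h := T.cells
      simp only [List.map_cons, List.map_nil, allCells, tableCells, List.cons.injEq, and_true]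
        at h ⊢
      simp [h, hm a (by simp), hm b (by simp), hm c (by simp)]
  have hmem : ∀ χ ∈ [T.a231, T.b231, T.c231],
      Char.conjIrr χ ∈ [T.a231, T.b231, T.c231] := by
    intro χ hχ
    have hdχ : deg χ = 231 := by
      simp only [List.mem_cons, List.not_mem_nil, or_false] at hχ
      rcases hχ with rfl | rfl | rfl <;> assumption
    have hd : deg (Char.conjIrr χ) = 231 := by
      have h := deg_cast (Char.conjIrr χ)
      rw [Char.conjIrr_apply, deg_cast, hdχ, Complex.conj_natCast] at h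
      exact_mod_cast h.symm
    simpa using T.eq_of_deg.2.2.2.2.2.2.2.2.2 hd
  by_cases hbc : Char.conjIrr T.b231 = T.c231
  · exact ⟨T, hbc⟩
  by_cases hab : Char.conjIrr T.a231 = T.b231
  · exact hsw T.c231 T.a231 T.b231
      (List.perm_append_comm (l₁ := [T.a231, T.b231]) (l₂ := [T.c231])) hab
  by_cases hac : Char.conjIrr T.a231 = T.c231
  · exact hsw T.b231 T.a231 T.c231 (List.Perm.swap _ _ _) hac
  exfalso
  have hself : ∀ χ : IrrCharacter G, Char.conjIrr (Char.conjIrr χ) = χ := Char.conjIrr_conjIrr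
  have ra : Char.conjIrr T.a231 = T.a231 := by
    have h := hmem _ (List.mem_cons_self (a := T.a231) (l := [T.b231, T.c231]))
    simp only [List.mem_cons, List.not_mem_nil, or_false] at h
    exact h.resolve_right fun h => h.elim hab hac
  have rb : Char.conjIrr T.b231 = T.b231 := by
    have h := hmem T.b231 (by simp)
    simp only [List.mem_cons, List.not_mem_nil, or_false] at h
    rcases h with h | h | h
    · exact absurd (by rw [← h, hself]) hab
    · exact h
    · exact absurd h hbc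
  have rc : Char.conjIrr T.c231 = T.c231 := by
    have h := hmem T.c231 (by simp)
    simp only [List.mem_cons, List.not_mem_nil, or_false] at h
    rcases h with h | h | h
    · exact absurd (by rw [← h, hself]) hac
    · exact absurd (by rw [← h, hself]) hbc
    · exact h
  have hone : ∀ χ : IrrCharacter G, deg χ = 231 → Char.conjIrr χ = χ →
      fsInd (χ : G → ℂ) = 1 := fun χ hd hr => by
    rcases CharDegree.fsInd_cases χ with h | h | h
    · obtain ⟨n, ρ, hρ, hρc⟩ := χ.2
      have := hρ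
      rw [← hρc] at h
      obtain ⟨s, hs⟩ := (fsInd_trichotomy ρ).2.1 h
      rw [hρc] at hs
      exact absurd ((Char.conjIrr_eq_iff χ).1 hr s) hs
    · exact h
    · have h2 : 2 ∣ deg χ := Blocks.even_degree_of_fsInd_eq_neg_one χ h
      omega
  have hzero : ∀ χ ψ : IrrCharacter G, χ ≠ ψ → Char.conjIrr χ = ψ →
      fsInd (χ : G → ℂ) = 0 ∧ fsInd (ψ : G → ℂ) = 0 := fun χ ψ hne hc => by
    refine ⟨by_contra fun h => hne ?_, by_contra fun h => hne ?_⟩
    · rw [← hc, (Char.conjIrr_eq_iff χ).2 (CharDegree.im_eq_zero_of_fsInd_ne_zero χ h)]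
    · have h1 := (Char.conjIrr_eq_iff ψ).2 (CharDegree.im_eq_zero_of_fsInd_ne_zero ψ h)
      rw [← hc, hself] at h1
      exact h1.trans hc
  obtain ⟨p45, p770, p896, p990⟩ := pairs_conj hG T
  obtain ⟨i1, i2⟩ := hzero _ _ T.ne45 p45
  obtain ⟨i3, i4⟩ := hzero _ _ T.ne770 p770
  obtain ⟨i5, i6⟩ := hzero _ _ T.ne896 p896
  obtain ⟨i7, i8⟩ := hzero _ _ T.ne990 p990
  have : Fact (Nat.Prime 23) := ⟨by norm_num⟩
  obtain ⟨z, hz⟩ := exists_prime_orderOf_dvd_card' (G := G) 23 (hG ▸ by decide)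
  have hne : ∀ {χ : IrrCharacter G}, 1 < deg χ → χ ≠ trivChar G := fun h e => by
    rw [e, deg_trivChar] at h; omega
  have v23 := fun (χ : IrrCharacter G) (h1 : 1 < deg χ)
    (h2 : deg χ % 23 = 1 ∨ deg χ % 23 = 22) => val23 hG T (hne h1) h2 hz
  have hsq : Nat.card {s : G // s * s = z} = 1 := by
    refine Nat.card_eq_one_iff_unique.2 ⟨⟨fun r r' => Subtype.ext ?_⟩, ⟨⟨z ^ 12, ?_⟩⟩⟩
    · have key : ∀ r : G, r * r = z → r = z ^ 12 := fun r hr => by
        have hd : 23 ∣ orderOf r := by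
          rw [← hz, ← hr, ← pow_two]
          exact orderOf_dvd_of_pow_eq_one (by rw [← pow_mul, mul_comm, pow_mul, pow_orderOf_eq_one,
            one_pow])
        have ho := Local.order_eq hG (Or.inr (Or.inr rfl)) T.L23 T.v23 hd
        rw [← hr, ← pow_two, ← pow_mul, ← pow_mod_orderOf, ho]
        simp
      rw [key _ r.2, key _ r'.2]
    · rw [← pow_add, ← pow_mod_orderOf, hz]; simp
  have h := card_sqrt_eq_sum (G := G) z
  rw [hsq, T.sum_eq, CharDegree.fsInd_trivChar, trivChar_apply,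
    vanish_one hG (Or.inr (Or.inr rfl)) (χ := T.c253) (by rw [d1]; norm_num) (by rw [hz]),
    v23 T.c22 (by omega) (by omega), i1, i2,
    vanish_one hG (Or.inr (Or.inr rfl)) (χ := T.c230) (by rw [d5]; norm_num) (by rw [hz]),
    hone _ d6 ra, hone _ d7 rb, hone _ d8 rc, v23 T.a231 (by omega) (by omega),
    v23 T.b231 (by omega) (by omega), v23 T.c231 (by omega) (by omega), i3, i4, i5, i6, i7, i8,
    vanish_one hG (Or.inr (Or.inr rfl)) (χ := T.c1035) (by rw [d15]; norm_num) (by rw [hz]),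
    vanish_one hG (Or.inr (Or.inr rfl)) (χ := T.c2024) (by rw [d16]; norm_num) (by rw [hz]),
    d2, d6, d7, d8] at h
  norm_num [sgn] at h
  rcases CharDegree.fsInd_cases T.c22 with e | e | e <;> rw [e] at h <;> norm_num at h

variable (T : Tbl G)

set_option maxHeartbeats 1000000 in
/-- The square of the character of degree 22. -/
theorem square (hgood : Char.conjIrr T.b231 = T.c231) :
    (∀ g, (T.c22 : G → ℂ) g * (T.c22 : G → ℂ) g =
      1 + (T.c22 : G → ℂ) g + (T.c230 : G → ℂ) g + (T.a231 : G → ℂ) g) ∨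
    (∀ g, (T.c22 : G → ℂ) g * (T.c22 : G → ℂ) g =
      1 + (T.c230 : G → ℂ) g + (T.c253 : G → ℂ) g) := by
  obtain ⟨d1, d2, d3, d4, d5, d6, d7, d8, d9, d10, d11, d12, d13, d14, d15, d16⟩ := T.degs
  obtain ⟨v1, v2, v3, v4, v5, v6, v7, v8, v9, v10, v11, v12, v13, v14, v15, v16⟩ := T.vals
  have hreal : ∀ g, conj ((T.c22 : G → ℂ) g) = (T.c22 : G → ℂ) g := fun g => by
    obtain ⟨v, hv⟩ := (int_single hG T g).1
    rw [hv, map_intCast]
  set f : G → ℂ := (T.c22 : G → ℂ) * (T.c22 : G → ℂ) with hf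
  obtain ⟨m, hm⟩ := IsChar.exists_sum (IsChar.mul (IsIrr.isCharacter T.c22.2)
    (IsIrr.isCharacter T.c22.2))
  rw [← hf] at hm
  have hmχ : ∀ χ : IrrCharacter G, classInner f (χ : G → ℂ) = m χ := fun χ => by
    rw [hm, classInner_sum_irr]
  have hm1 : m (trivChar G) = 1 := by
    apply Nat.cast_injective (R := ℂ)
    rw [← hmχ, Nat.cast_one, ← classInner_irr_self T.c22]
    simp only [classInner, hf, Pi.mul_apply, trivChar_apply, map_one, mul_one, hreal]
  have hmc : m T.c231 = m T.b231 := by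
    apply Nat.cast_injective (R := ℂ)
    rw [← Complex.conj_natCast (m T.b231), ← hmχ, ← hmχ, ← hgood]
    simp only [classInner, hf, map_mul, map_sum, map_inv₀, map_natCast, Pi.mul_apply,
      Char.conjIrr_apply, Complex.conj_conj, hreal]
  have heq : ∀ g, (T.c22 : G → ℂ) g * (T.c22 : G → ℂ) g =
      ∑ χ : IrrCharacter G, (m χ : ℂ) * (χ : G → ℂ) g := fun g => by
    have h := congrFun hm g
    simpa [hf, Finset.sum_apply] using h
  have e1 := heq 1
  simp only [deg_cast, T.sum_eq, hm1, deg_trivChar, d1, d2, d3, d4, d5, d6, d7, d8, d9, d10, d11,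
    d12, d13, d14, d15, d16] at e1
  have n1 : 22 * 22 = 1 + (m T.c253 * 253 + (m T.c22 * 22 + (m T.a45 * 45 + (m T.b45 * 45 +
      (m T.c230 * 230 + (m T.a231 * 231 + (m T.b231 * 231 + (m T.c231 * 231 + (m T.a770 * 770 +
      (m T.b770 * 770 + (m T.a896 * 896 + (m T.b896 * 896 + (m T.a990 * 990 + (m T.b990 * 990 +
      (m T.c1035 * 1035 + m T.c2024 * 2024))))))))))))))) := by
    apply Nat.cast_injective (R := ℂ)
    push_cast
    linear_combination e1
  obtain ⟨z1, z2, z3, z4, z5, z6, z7, z8⟩ : m T.a770 = 0 ∧ m T.b770 = 0 ∧ m T.a896 = 0 ∧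
      m T.b896 = 0 ∧ m T.a990 = 0 ∧ m T.b990 = 0 ∧ m T.c1035 = 0 ∧ m T.c2024 = 0 := by omega
  have heq' : ∀ g, (T.c22 : G → ℂ) g * (T.c22 : G → ℂ) g =
      1 + (m T.c253 * (T.c253 : G → ℂ) g + m T.c22 * (T.c22 : G → ℂ) g +
        m T.a45 * (T.a45 : G → ℂ) g + m T.b45 * (T.b45 : G → ℂ) g +
        m T.c230 * (T.c230 : G → ℂ) g + m T.a231 * (T.a231 : G → ℂ) g +
        m T.b231 * ((T.b231 : G → ℂ) g + (T.c231 : G → ℂ) g)) := fun g => by
    rw [heq, T.sum_eq, hm1, trivChar_apply, z1, z2, z3, z4, z5, z6, z7, z8, hmc]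
    push_cast
    ring
  have et := heq' T.t
  simp only [(Local.ival_spec hG T.ht _).1, v1, v2, v3, v4, v5, v6, v7, v8] at et
  have : Fact (Nat.Prime 23) := ⟨by norm_num⟩
  have : Fact (Nat.Prime 11) := ⟨by norm_num⟩
  obtain ⟨z, hz⟩ := exists_prime_orderOf_dvd_card' (G := G) 23 (hG ▸ by decide)
  obtain ⟨h, hh⟩ := exists_prime_orderOf_dvd_card' (G := G) 11 (hG ▸ by decide)
  have hne : ∀ {χ : IrrCharacter G}, 1 < deg χ → χ ≠ trivChar G := fun h e => by
    rw [e, deg_trivChar] at h; omega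
  have w23 := fun (χ : IrrCharacter G) (h1 : 1 < deg χ)
    (h2 : deg χ % 23 = 1 ∨ deg χ % 23 = 22) => val23 hG T (hne h1) h2 hz
  have w11 := fun (χ : IrrCharacter G) (h1 : 1 < deg χ)
    (h2 : deg χ % 11 = 1 ∨ deg χ % 11 = 10) => val11 hG T (hne h1) h2 hh
  have ez := heq' z
  rw [vanish_one hG (Or.inr (Or.inr rfl)) (χ := T.c253) (by rw [d1]; norm_num) (by rw [hz]),
    w23 T.c22 (by omega) (by omega), w23 T.a45 (by omega) (by omega),
    w23 T.b45 (by omega) (by omega),
    vanish_one hG (Or.inr (Or.inr rfl)) (χ := T.c230) (by rw [d5]; norm_num) (by rw [hz]),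
    w23 T.a231 (by omega) (by omega), w23 T.b231 (by omega) (by omega),
    w23 T.c231 (by omega) (by omega), d2, d3, d4, d6, d7, d8] at ez
  have eh := heq' h
  rw [vanish_one hG (Or.inr (Or.inl rfl)) (χ := T.c253) (by rw [d1]; norm_num) (by rw [hh]),
    vanish_one hG (Or.inr (Or.inl rfl)) (χ := T.c22) (by rw [d2]; norm_num) (by rw [hh]),
    w11 T.a45 (by omega) (by omega), w11 T.b45 (by omega) (by omega),
    w11 T.c230 (by omega) (by omega),
    vanish_one hG (Or.inr (Or.inl rfl)) (χ := T.a231) (by rw [d6]; norm_num) (by rw [hh]),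
    vanish_one hG (Or.inr (Or.inl rfl)) (χ := T.b231) (by rw [d7]; norm_num) (by rw [hh]),
    vanish_one hG (Or.inr (Or.inl rfl)) (χ := T.c231) (by rw [d8]; norm_num) (by rw [hh]),
    d3, d4, d5] at eh
  norm_num [sgn] at et ez eh
  have it : (36 : ℤ) = 1 + (13 * m T.c253 + 6 * m T.c22 - 3 * m T.a45 - 3 * m T.b45 +
      22 * m T.c230 + 7 * m T.a231 + 14 * m T.b231) := by
    apply Int.cast_injective (α := ℂ)
    push_cast
    linear_combination et
  have iz : (1 : ℤ) = 1 + (-(m T.c22 : ℤ) - m T.a45 - m T.b45 + m T.a231 + 2 * m T.b231) := by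
    apply Int.cast_injective (α := ℂ)
    push_cast
    linear_combination -ez
  have ih : (0 : ℤ) = 1 + ((m T.a45 : ℤ) + m T.b45 - m T.c230) := by
    apply Int.cast_injective (α := ℂ)
    push_cast
    linear_combination eh
  rcases (show (m T.c253 = 0 ∧ m T.c22 = 1 ∧ m T.a45 = 0 ∧ m T.b45 = 0 ∧ m T.c230 = 1 ∧
      m T.a231 = 1 ∧ m T.b231 = 0) ∨ (m T.c253 = 1 ∧ m T.c22 = 0 ∧ m T.a45 = 0 ∧ m T.b45 = 0 ∧
      m T.c230 = 1 ∧ m T.a231 = 0 ∧ m T.b231 = 0) by omega) with
    ⟨a1, a2, a3, a4, a5, a6, a7⟩ | ⟨a1, a2, a3, a4, a5, a6, a7⟩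
  · refine Or.inl fun g => ?_
    rw [heq', a1, a2, a3, a4, a5, a6, a7]
    push_cast
    ring
  · refine Or.inr fun g => ?_
    rw [heq', a1, a2, a3, a4, a5, a6, a7]
    push_cast
    ring

end CfsgLib.Blocks.Order10200960
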