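import Cfsg.Agent.Lib.Blocks.Order10200960.Names
import Cfsg.Agent.Lib.Blocks.KleinOrder

/-!
# The pairs of equal degree are pairs of complex conjugates

A real pair would have an integral sum and product of values, in fixed classes modulo the order
of the element and too large for the centralizer.
-/

set_option autoImplicit false

namespace CfsgLib.Blocks.Order10200960

open Cfsg CfsgLib CfsgLib.Char CfsgLib.CharIntegral CfsgLib.Blocks.PrimeSylow
open CfsgLib.Blocks.Order95040 (deg cent deg_cast deg_trivChar deg_eq_finrank)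
open CfsgLib.Blocks.Order443520 (exists_twist exists_int_val val_of_conj)
open scoped Classical ComplexConjugate

theorem coprime_reps : ([7, 11, 23].all fun p => (List.range p).all fun k =>
    k == 0 || (List.range 2000).any fun m => m % p == k && Nat.gcd m ord == 1) = true := by
  decide +kernel

theorem exists_coprime {p k : ℕ} (hp : p = 7 ∨ p = 11 ∨ p = 23) (h0 : 0 < k) (hk : k < p) :
    ∃ m, m % p = k ∧ m.Coprime ord := by
  have h := List.all_eq_true.1 (List.all_eq_true.1 coprime_reps p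
    (by rcases hp with rfl | rfl | rfl <;> simp)) k (List.mem_range.2 hk)
  rw [Bool.or_eq_true, beq_iff_eq, List.any_eq_true] at h
  obtain ⟨m, -, hm⟩ := h.resolve_left (by omega)
  rw [Bool.and_eq_true, beq_iff_eq, beq_iff_eq] at hm
  exact ⟨m, hm.1, hm.2⟩

variable {G : Type*} [Group G] [Fintype G]

/-- Equal values at the nontrivial powers of an element of order dividing `p`. -/
theorem sum_powers_dvd {f : G → ℂ} (hf : Cfsg.IsCharacter G f) {p : ℕ} (hp : p ≠ 0) {g : G}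
    (hg : g ^ p = 1) {d v : ℤ} (h1 : f 1 = (d : ℂ))
    (hv : ∀ k, 0 < k → k < p → f (g ^ k) = (v : ℂ)) : (p : ℤ) ∣ d + ((p : ℤ) - 1) * v := by
  obtain ⟨n, ρ, rfl⟩ := hf
  obtain ⟨μ, hμ, -, hpow, -⟩ := exists_eigenvalues ρ g
  have hsum : ∑ k ∈ Finset.range p, ρ.character (g ^ k) =
      (p : ℂ) * ((Finset.univ.filter fun i => μ i = 1).card : ℂ) := by
    simp only [hpow]
    rw [Finset.sum_comm, Finset.card_filter, Nat.cast_sum, Finset.mul_sum]
    refine Finset.sum_congr rfl fun i _ => ?_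
    have hi : μ i ^ p = 1 := by
      obtain ⟨c, hc⟩ := orderOf_dvd_of_pow_eq_one hg
      rw [hc, pow_mul, hμ i, one_pow]
    rw [Order7920.geom_root hi]
    split_ifs <;> simp
  obtain ⟨q, rfl⟩ : ∃ q, p = q + 1 := ⟨p - 1, by omega⟩
  rw [Finset.sum_range_succ', pow_zero, h1, Finset.sum_congr rfl fun k hk =>
    hv (k + 1) (Nat.succ_pos k) (by have := Finset.mem_range.1 hk; omega), Finset.sum_const,
    Finset.card_range, nsmul_eq_mul] at hsum
  refine ⟨((Finset.univ.filter fun i => μ i = 1).card : ℤ), ?_⟩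
  apply Int.cast_injective (α := ℂ)
  push_cast at hsum ⊢
  linear_combination hsum

/-- The squares of the absolute values of some characters are bounded by the centralizer. -/
theorem sum_normSq_le [Fintype (IrrCharacter G)] (S : Finset (IrrCharacter G)) (g : G) :
    ∑ χ ∈ S, Complex.normSq ((χ : G → ℂ) g) ≤ (cent g : ℝ) := by
  have h1 := column_orthogonality g g
  rw [if_pos (IsConj.refl g)] at h1
  simp only [Complex.mul_conj] at h1
  have h2 : ∑ χ : IrrCharacter G, Complex.normSq ((χ : G → ℂ) g) = (cent g : ℝ) :=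
    Complex.ofReal_injective (by rw [Complex.ofReal_sum, h1, Complex.ofReal_natCast])
  rw [← h2]
  exact Finset.sum_le_sum_of_subset_of_nonneg (Finset.subset_univ S)
    fun χ _ _ => Complex.normSq_nonneg _

/-- A twist permutes a pair of the only characters of one degree. -/
theorem twist_pair {χ ψ : IrrCharacter G} {d : ℕ} (hne : χ ≠ ψ) (hd : deg χ = d) (hd' : deg ψ = d)
    (honly : ∀ φ : IrrCharacter G, deg φ = d → φ = χ ∨ φ = ψ) {m : ℕ}
    (hm : m.Coprime (Nat.card G)) (g : G) :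
    ((χ : G → ℂ) (g ^ m) = (χ : G → ℂ) g ∧ (ψ : G → ℂ) (g ^ m) = (ψ : G → ℂ) g) ∨
      ((χ : G → ℂ) (g ^ m) = (ψ : G → ℂ) g ∧ (ψ : G → ℂ) (g ^ m) = (χ : G → ℂ) g) := by
  obtain ⟨a, ha, had⟩ := exists_twist χ hm
  obtain ⟨b, hb, hbd⟩ := exists_twist ψ hm
  have hab : a ≠ b := fun e => hne (irr_ext fun y => by
    obtain ⟨k, hk⟩ := exists_pow_eq_self_of_coprime (x := y)
      (hm.coprime_dvd_right (orderOf_dvd_natCard y))
    have h := ha (y ^ k)
    rw [e, hb, ← pow_mul, mul_comm, pow_mul, hk] at h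
    exact h.symm)
  rw [← ha, ← hb]
  rcases honly a (had.trans hd) with ra | ra <;> rcases honly b (hbd.trans hd') with rb | rb <;>
    rw [ra, rb] at hab ⊢
  · exact absurd rfl hab
  · exact Or.inl ⟨rfl, rfl⟩
  · exact Or.inr ⟨rfl, rfl⟩
  · exact absurd rfl hab

variable [IsSimpleGroup G] (hG : Nat.card G = ord)
include hG

omit [IsSimpleGroup G] in
/-- A pair of real characters is too large. -/
theorem pair_conj {χ ψ : IrrCharacter G} {d : ℕ} (hne : χ ≠ ψ) (hd : deg χ = d)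
    (hd' : deg ψ = d) (honly : ∀ φ : IrrCharacter G, deg φ = d → φ = χ ∨ φ = ψ) {p : ℕ}
    (hp : p = 7 ∨ p = 11 ∨ p = 23) {g : G} (hg : orderOf g = p) {K : ℕ}
    (hbud : Complex.normSq ((χ : G → ℂ) g) + Complex.normSq ((ψ : G → ℂ) g) ≤ (K : ℝ))
    (hnum : ∀ S P : ℤ, (p : ℤ) ∣ 2 * d + ((p : ℤ) - 1) * S →
      (p : ℤ) ∣ d * d + ((p : ℤ) - 1) * P → S * S - 2 * P ≤ K → 4 * P ≤ S * S → False) :
    Char.conjIrr χ = ψ := by
  have hcd : deg (Char.conjIrr χ) = d := by
    have h := deg_cast (Char.conjIrr χ)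
    rw [Char.conjIrr_apply, deg_cast, hd, Complex.conj_natCast] at h
    exact_mod_cast h.symm
  rcases honly _ hcd with hc | hc
  swap
  · exact hc
  exfalso
  have hψ : Char.conjIrr ψ = ψ := by
    have hcd' : deg (Char.conjIrr ψ) = d := by
      have h := deg_cast (Char.conjIrr ψ)
      rw [Char.conjIrr_apply, deg_cast, hd', Complex.conj_natCast] at h
      exact_mod_cast h.symm
    refine (honly _ hcd').resolve_left fun e => hne ?_
    rw [← Char.conjIrr_conjIrr ψ, e, hc]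
  have hχr := Complex.conj_eq_iff_re.1 (Complex.conj_eq_iff_im.2 ((Char.conjIrr_eq_iff χ).1 hc g))
  have hψr := Complex.conj_eq_iff_re.1 (Complex.conj_eq_iff_im.2 ((Char.conjIrr_eq_iff ψ).1 hψ g))
  have hcf := IsIrr.isCharacter χ.2
  have hcf' := IsIrr.isCharacter ψ.2
  have hS := IsChar.add hcf hcf'
  have hP := IsChar.mul hcf hcf'
  obtain ⟨S, hSv⟩ := Perm.RationalValue.exists_eq_int hS g fun m hm => by
    rcases twist_pair hne hd hd' honly hm g with ⟨h1, h2⟩ | ⟨h1, h2⟩ <;>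
      simp only [Pi.add_apply, h1, h2]
    ring
  obtain ⟨P, hPv⟩ := Perm.RationalValue.exists_eq_int hP g fun m hm => by
    rcases twist_pair hne hd hd' honly hm g with ⟨h1, h2⟩ | ⟨h1, h2⟩ <;>
      simp only [Pi.mul_apply, h1, h2]
    ring
  simp only [Pi.add_apply] at hSv
  simp only [Pi.mul_apply] at hPv
  have hpow : ∀ k, 0 < k → k < p → ∃ m : ℕ, m.Coprime (Nat.card G) ∧ g ^ k = g ^ m :=
    fun k h0 hk => by
      obtain ⟨m, h1, h2⟩ := exists_coprime hp h0 hk
      exact ⟨m, hG ▸ h2, by rw [← h1, ← hg, pow_mod_orderOf]⟩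
  have hg1 : g ^ p = 1 := hg ▸ pow_orderOf_eq_one g
  have hp0 : p ≠ 0 := by omega
  have e1 := sum_powers_dvd hS hp0 hg1 (d := 2 * (d : ℤ)) (v := S)
    (by rw [Pi.add_apply, deg_cast, deg_cast, hd, hd']; push_cast; ring) fun k h0 hk => by
      obtain ⟨m, hm, hk'⟩ := hpow k h0 hk
      rcases twist_pair hne hd hd' honly hm g with ⟨h1, h2⟩ | ⟨h1, h2⟩ <;>
        rw [Pi.add_apply, hk', h1, h2, ← hSv]
      ring
  have e2 := sum_powers_dvd hP hp0 hg1 (d := (d : ℤ) * d) (v := P)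
    (by rw [Pi.mul_apply, deg_cast, deg_cast, hd, hd']; push_cast; ring) fun k h0 hk => by
      obtain ⟨m, hm, hk'⟩ := hpow k h0 hk
      rcases twist_pair hne hd hd' honly hm g with ⟨h1, h2⟩ | ⟨h1, h2⟩ <;>
        rw [Pi.mul_apply, hk', h1, h2, ← hPv]
      ring
  obtain ⟨u, hu⟩ : ∃ u : ℝ, (χ : G → ℂ) g = (u : ℂ) := ⟨_, hχr.symm⟩
  obtain ⟨w, hw⟩ : ∃ w : ℝ, (ψ : G → ℂ) g = (w : ℂ) := ⟨_, hψr.symm⟩
  rw [hu, hw, Complex.normSq_ofReal, Complex.normSq_ofReal] at hbud
  rw [hu, hw, ← Complex.ofReal_add, ← Complex.ofReal_intCast, Complex.ofReal_inj] at hSv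
  rw [hu, hw, ← Complex.ofReal_mul, ← Complex.ofReal_intCast, Complex.ofReal_inj] at hPv
  refine hnum S P e1 e2 ?_ ?_
  · have : ((S * S - 2 * P : ℤ) : ℝ) ≤ ((K : ℤ) : ℝ) := by
      push_cast
      rw [← hSv, ← hPv]
      nlinarith
    exact_mod_cast this
  · have : ((4 * P : ℤ) : ℝ) ≤ ((S * S : ℤ) : ℝ) := by
      push_cast
      rw [← hSv, ← hPv]
      nlinarith [sq_nonneg (u - w)]
    exact_mod_cast this

variable [Fintype (IrrCharacter G)] (T : Tbl G)

include T in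
/-- An element of order 7, 11 or 23 and the order of its centralizer. -/
theorem cent_prime {g : G} :
    (orderOf g = 7 → cent g = 14) ∧ (orderOf g = 11 → cent g = 11) ∧
      (orderOf g = 23 → cent g = 23) := by
  refine ⟨fun h => ?_, fun h => ?_, fun h => ?_⟩
  · have : Fact (Nat.Prime 7) := ⟨by norm_num⟩
    rw [T.L7.cent_of_orderOf hG (Or.inl rfl) h, T.v7]
  · have : Fact (Nat.Prime 11) := ⟨by norm_num⟩
    rw [T.L11.cent_of_orderOf hG (Or.inr (Or.inl rfl)) h, T.v11]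
  · have : Fact (Nat.Prime 23) := ⟨by norm_num⟩
    rw [T.L23.cent_of_orderOf hG (Or.inr (Or.inr rfl)) h, T.v23]

include T in
theorem int_single (g : G) : (∃ v : ℤ, (T.c22 : G → ℂ) g = v) ∧
    (∃ v : ℤ, (T.c230 : G → ℂ) g = v) ∧ (∃ v : ℤ, (T.c253 : G → ℂ) g = v) ∧
    (∃ v : ℤ, (T.c2024 : G → ℂ) g = v) := by
  obtain ⟨d1, d2, d3, d4, d5, d6, d7, d8, d9, d10, d11, d12, d13, d14, d15, d16⟩ := T.degs
  refine ⟨?_, ?_, ?_, ?_⟩ <;> refine exists_int_val (fun ψ h => ?_) g
  · exact T.eq_of_deg.1 (h.trans d2)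
  · exact T.eq_of_deg.2.1 (h.trans d5)
  · exact T.eq_of_deg.2.2.1 (h.trans d1)
  · exact T.eq_of_deg.2.2.2.2.1 (h.trans d16)

set_option maxHeartbeats 800000 in
/-- The values at an element of order seven of the rational members of the second block. -/
theorem rational_seven {x : G} (hx : orderOf x = 7) :
    (T.c22 : G → ℂ) x = 1 ∧ (T.c230 : G → ℂ) x = -1 ∧ (T.c253 : G → ℂ) x = 1 := by
  obtain ⟨d1, d2, d3, d4, d5, d6, d7, d8, d9, d10, d11, d12, d13, d14, d15, d16⟩ := T.degs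
  obtain ⟨⟨a, ha⟩, ⟨b, hb⟩, ⟨c, hc⟩, -⟩ := int_single hG T x
  have key : ∀ (χ : IrrCharacter G) (v : ℤ), (∀ ψ : IrrCharacter G, deg ψ = deg χ → ψ = χ) →
      (χ : G → ℂ) x = v → (7 : ℤ) ∣ (deg χ : ℤ) + 6 * v := fun χ v hu hv => by
    have h := sum_powers_dvd (IsIrr.isCharacter χ.2) (p := 7) (by norm_num)
      (hx ▸ pow_orderOf_eq_one x) (d := (deg χ : ℤ)) (v := v) (by rw [deg_cast, Int.cast_natCast])
      fun k h0 hk => by
        obtain ⟨m, h1, h2⟩ := exists_coprime (Or.inl rfl) h0 hk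
        obtain ⟨ψ, hψ, hψd⟩ := exists_twist χ (hG ▸ h2 : m.Coprime (Nat.card G))
        rw [← h1, ← hx, pow_mod_orderOf, ← hψ, hu ψ hψd, hv]
    norm_num at h
    exact h
  have k1 := key T.c22 a (fun ψ h => T.eq_of_deg.1 (h.trans d2)) ha
  have k2 := key T.c230 b (fun ψ h => T.eq_of_deg.2.1 (h.trans d5)) hb
  have k3 := key T.c253 c (fun ψ h => T.eq_of_deg.2.2.1 (h.trans d1)) hc
  rw [d2] at k1
  rw [d5] at k2
  rw [d1] at k3
  obtain ⟨e1, e2⟩ := val7 hG T hx
  have hne : ∀ {χ ψ : IrrCharacter G}, deg χ ≠ deg ψ → χ ≠ ψ := fun h e => h (by rw [e])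
  have hb' := sum_normSq_le {trivChar G, T.c22, T.c230, T.c253, T.c1035, T.c2024} x
  rw [Finset.sum_insert (by
      simp only [Finset.mem_insert, Finset.mem_singleton, not_or]
      refine ⟨?_, ?_, ?_, ?_, ?_⟩ <;> exact hne (by rw [deg_trivChar]; omega)),
    Finset.sum_insert (by
      simp only [Finset.mem_insert, Finset.mem_singleton, not_or]
      refine ⟨?_, ?_, ?_, ?_⟩ <;> exact hne (by omega)),
    Finset.sum_insert (by
      simp only [Finset.mem_insert, Finset.mem_singleton, not_or]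
      refine ⟨?_, ?_, ?_⟩ <;> exact hne (by omega)),
    Finset.sum_insert (by
      simp only [Finset.mem_insert, Finset.mem_singleton, not_or]
      refine ⟨?_, ?_⟩ <;> exact hne (by omega)),
    Finset.sum_pair (hne (by omega)), (cent_prime hG T).1 hx, ha, hb, hc, e1, e2,
    trivChar_apply] at hb'
  simp only [Complex.normSq_intCast, map_one, map_neg, Complex.normSq_neg] at hb'
  have hsq : a * a + b * b + c * c ≤ 11 := by
    have : ((a * a + b * b + c * c : ℤ) : ℝ) ≤ ((11 : ℤ) : ℝ) := by push_cast at hb' ⊢; linarith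
    exact_mod_cast this
  have ha2 : -3 ≤ a ∧ a ≤ 3 := ⟨by nlinarith, by nlinarith⟩
  have hb2 : -3 ≤ b ∧ b ≤ 3 := ⟨by nlinarith, by nlinarith⟩
  have hc2 : -3 ≤ c ∧ c ≤ 3 := ⟨by nlinarith, by nlinarith⟩
  obtain rfl : a = 1 := by omega
  obtain rfl : b = -1 := by omega
  obtain rfl : c = 1 := by omega
  rw [ha, hb, hc]
  norm_num

set_option maxHeartbeats 1000000 in
/-- Four of the pairs are pairs of conjugates. -/
theorem pairs_conj : Char.conjIrr T.a45 = T.b45 ∧ Char.conjIrr T.a770 = T.b770 ∧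
    Char.conjIrr T.a896 = T.b896 ∧ Char.conjIrr T.a990 = T.b990 := by
  obtain ⟨d1, d2, d3, d4, d5, d6, d7, d8, d9, d10, d11, d12, d13, d14, d15, d16⟩ := T.degs
  have o45 := fun (χ : IrrCharacter G) (h : deg χ = 45) => T.eq_of_deg.2.2.2.2.2.1 h
  have o770 := fun (χ : IrrCharacter G) (h : deg χ = 770) => T.eq_of_deg.2.2.2.2.2.2.1 h
  have o896 := fun (χ : IrrCharacter G) (h : deg χ = 896) => T.eq_of_deg.2.2.2.2.2.2.2.1 h
  have o990 := fun (χ : IrrCharacter G) (h : deg χ = 990) => T.eq_of_deg.2.2.2.2.2.2.2.2.1 h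
  have hex : ∀ {p : ℕ}, p = 7 ∨ p = 11 ∨ p = 23 → ∃ g : G, orderOf g = p := fun {p} hp => by
    have : Fact p.Prime := ⟨by rcases hp with rfl | rfl | rfl <;> norm_num⟩
    exact exists_prime_orderOf_dvd_card' p
      (hG ▸ by rcases hp with rfl | rfl | rfl <;> decide)
  obtain ⟨x, hx⟩ := hex (Or.inl rfl)
  obtain ⟨h, hh⟩ := hex (Or.inr (Or.inl rfl))
  obtain ⟨z, hz⟩ := hex (Or.inr (Or.inr rfl))
  obtain ⟨c14, c11, c23⟩ := (⟨(cent_prime hG T).1 hx, (cent_prime hG T).2.1 hh,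
    (cent_prime hG T).2.2 hz⟩ : cent x = 14 ∧ cent h = 11 ∧ cent z = 23)
  obtain ⟨e1, e2⟩ := val7 hG T hx
  obtain ⟨r1, -, -⟩ := rational_seven hG T hx
  have hne : ∀ {χ ψ : IrrCharacter G}, deg χ ≠ deg ψ → χ ≠ ψ := fun h e => h (by rw [e])
  have bud7 : ∀ χ ψ : IrrCharacter G, χ ≠ ψ → deg χ = deg ψ → (deg χ = 45 ∨ deg χ = 990) →
      Complex.normSq ((χ : G → ℂ) x) + Complex.normSq ((ψ : G → ℂ) x) ≤ ((10 : ℕ) : ℝ) := by
    intro χ ψ hn hd hdd
    have hb := sum_normSq_le {trivChar G, T.c22, T.c1035, T.c2024, χ, ψ} x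
    rw [Finset.sum_insert (by
        simp only [Finset.mem_insert, Finset.mem_singleton, not_or]
        refine ⟨?_, ?_, ?_, ?_, ?_⟩ <;> exact hne (by rw [deg_trivChar]; omega)),
      Finset.sum_insert (by
        simp only [Finset.mem_insert, Finset.mem_singleton, not_or]
        refine ⟨?_, ?_, ?_, ?_⟩ <;> exact hne (by omega)),
      Finset.sum_insert (by
        simp only [Finset.mem_insert, Finset.mem_singleton, not_or]
        refine ⟨?_, ?_, ?_⟩ <;> exact hne (by omega)),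
      Finset.sum_insert (by
        simp only [Finset.mem_insert, Finset.mem_singleton, not_or]
        refine ⟨?_, ?_⟩ <;> exact hne (by omega)),
      Finset.sum_pair hn, c14, r1, e1, e2, trivChar_apply] at hb
    simp only [map_one, Complex.normSq_neg] at hb
    push_cast at hb ⊢
    linarith
  refine ⟨?_, ?_, ?_, ?_⟩
  · refine pair_conj hG T.ne45 d3 d4 o45 (Or.inl rfl) hx
      (bud7 _ _ T.ne45 (d3.trans d4.symm) (Or.inl d3)) fun S P h1 h2 h3 h4 => ?_
    push_cast at h1 h2 h3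
    have : -5 < S ∧ S < 5 := ⟨by nlinarith, by nlinarith⟩
    obtain rfl : S = -1 := by omega
    omega
  · refine pair_conj hG (K := 23) T.ne770 d9 d10 o770 (Or.inr (Or.inr rfl)) hz ?_
      fun S P h1 h2 h3 h4 => ?_
    · have hb := sum_normSq_le {T.a770, T.b770} z
      rw [Finset.sum_pair T.ne770, c23] at hb
      exact hb
    push_cast at h1 h2 h3
    have : -8 < S ∧ S < 8 := ⟨by nlinarith, by nlinarith⟩
    obtain rfl : S = -1 := by omega
    omega
  · refine pair_conj hG (K := 11) T.ne896 d11 d12 o896 (Or.inr (Or.inl rfl)) hh ?_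
      fun S P h1 h2 h3 h4 => ?_
    · have hb := sum_normSq_le {T.a896, T.b896} h
      rw [Finset.sum_pair T.ne896, c11] at hb
      exact hb
    push_cast at h1 h2 h3
    have : -6 < S ∧ S < 6 := ⟨by nlinarith, by nlinarith⟩
    obtain rfl : S = -1 := by omega
    omega
  · refine pair_conj hG T.ne990 d13 d14 o990 (Or.inl rfl) hx
      (bud7 _ _ T.ne990 (d13.trans d14.symm) (Or.inr d13)) fun S P h1 h2 h3 h4 => ?_
    push_cast at h1 h2 h3
    have : -5 < S ∧ S < 5 := ⟨by nlinarith, by nlinarith⟩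
    obtain rfl : S = -1 := by omega
    omega

end CfsgLib.Blocks.Order10200960
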